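import Mathlib
import Groth.Prelude.Def_CAlg
import Groth.Agent.H29.DepthSES
import Groth.Agent.H29.Ischebeck
import Groth.Agent.H29.Depth
import Groth.Agent.H29.DepthLib

/-!
# The acyclicity lemma of Peskine–Szpiro (helper13)
-/

set_option autoImplicit false
set_option linter.style.haveILetI false
universe u

namespace Groth.Agent.H13.Acyc

open Groth.Agent.H29 Function

variable {R : Type u} [CommRing R] [IsLocalRing R] [IsNoetherianRing R]

/-- A finite length module of positive depth is zero. -/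
theorem subsingleton_of_isFiniteLength_of_one_le_depth (H : Type u) [AddCommGroup H] [Module R H]
    [Module.Finite R H] (hfl : IsFiniteLength R H) (hd : 1 ≤ LocCoh.depth R H) :
    Subsingleton H := by
  by_contra hns
  rw [not_subsingleton_iff_nontrivial] at hns
  have hI := maximalIdeal_smul_top_ne_top R H
  obtain ⟨x, hxm, hreg⟩ :=
    exists_isSMulRegular_mem_of_one_le_idealDepth H (IsLocalRing.maximalIdeal R) hI hd
  have hart : IsArtinian R H := (isFiniteLength_iff_isNoetherian_isArtinian.mp hfl).2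
  have hsurj : Surjective (LinearMap.lsmul R H x) :=
    IsArtinian.surjective_of_injective_endomorphism (LinearMap.lsmul R H x) hreg
  apply hI
  rw [eq_top_iff]
  intro m _
  obtain ⟨m', rfl⟩ := hsurj m
  exact Submodule.smul_mem_smul hxm trivial

theorem le_sub_one {D : ℕ∞} {n : ℕ} (h : ((n + 1 : ℕ) : ℕ∞) ≤ D) : (n : ℕ∞) ≤ D - 1 := by
  induction D using ENat.recTopCoe with
  | top => simp
  | coe d =>
    norm_cast at h ⊢
    omega

section

variable (X : ℕ → Type u) [∀ i, AddCommGroup (X i)] [∀ i, Module R (X i)]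
  (δ : ∀ i, X i →ₗ[R] X (i + 1))

/-- boundaries -/
def B : ∀ i, Submodule R (X i)
  | 0 => ⊥
  | (i + 1) => LinearMap.range (δ i)

theorem B_le_ker (hδ : ∀ i x, δ (i + 1) (δ i x) = 0) (i : ℕ) :
    B X δ i ≤ LinearMap.ker (δ i) := by
  cases i with
  | zero => exact bot_le
  | succ i =>
    rintro _ ⟨x, rfl⟩
    exact hδ i x

variable [∀ i, Module.Finite R (X i)]

theorem exact_ker_range (i : ℕ) :
    Exact (LinearMap.ker (δ i)).subtype (δ i).rangeRestrict := by
  rw [LinearMap.exact_iff, Submodule.range_subtype, LinearMap.ker_rangeRestrict]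

theorem step (hδ : ∀ i x, δ (i + 1) (δ i x) = 0) (g : ℕ)
    (hX : ∀ i, (g : ℕ∞) ≤ LocCoh.depth R (X i))
    (hfl : ∀ i, IsFiniteLength R
      (↥(LinearMap.ker (δ i)) ⧸ (B X δ i).submoduleOf (LinearMap.ker (δ i))))
    (i : ℕ) (hi : i < g) (hS : ((g + 1 - i : ℕ) : ℕ∞) ≤ LocCoh.depth R ↥(B X δ i)) :
    B X δ i = LinearMap.ker (δ i) ∧
      ((g - i : ℕ) : ℕ∞) ≤ LocCoh.depth R ↥(LinearMap.range (δ i)) := by
  have hBZ : B X δ i ≤ LinearMap.ker (δ i) := B_le_ker X δ hδ i
  unfold LocCoh.depth at hX hS ⊢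
  have hses2₁ := idealDepth_X₁_ge (IsLocalRing.maximalIdeal R) (LinearMap.ker (δ i)).subtype
    (δ i).rangeRestrict (Submodule.injective_subtype _) (LinearMap.surjective_rangeRestrict _)
    (exact_ker_range X δ i)
  have hses2₃ := idealDepth_X₃_ge (IsLocalRing.maximalIdeal R) (LinearMap.ker (δ i)).subtype
    (δ i).rangeRestrict (Submodule.injective_subtype _) (LinearMap.surjective_rangeRestrict _)
    (exact_ker_range X δ i)
  have hg1 : ((1 : ℕ) : ℕ∞) ≤ (g : ℕ∞) := by exact_mod_cast (show 1 ≤ g by omega)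
  have hZ1 : (1 : ℕ∞) ≤ LocCoh.idealDepth (IsLocalRing.maximalIdeal R)
      ↥(LinearMap.ker (δ i)) := by
    refine le_trans (le_min ?_ ?_) hses2₁
    · exact le_trans (by simpa using hg1) (hX i)
    · exact le_add_self
  have hses1 := idealDepth_X₃_ge (IsLocalRing.maximalIdeal R)
    ((B X δ i).submoduleOf (LinearMap.ker (δ i))).subtype
    ((B X δ i).submoduleOf (LinearMap.ker (δ i))).mkQ
    (Submodule.injective_subtype _) (Submodule.mkQ_surjective _)
    (LinearMap.exact_subtype_mkQ _)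
  have hcongr : LocCoh.idealDepth (IsLocalRing.maximalIdeal R)
      ↥((B X δ i).submoduleOf (LinearMap.ker (δ i))) =
      LocCoh.idealDepth (IsLocalRing.maximalIdeal R) ↥(B X δ i) :=
    idealDepth_congr _ (Submodule.submoduleOfEquivOfLe hBZ)
  have hH1 : (1 : ℕ∞) ≤ LocCoh.idealDepth (IsLocalRing.maximalIdeal R)
      (↥(LinearMap.ker (δ i)) ⧸ (B X δ i).submoduleOf (LinearMap.ker (δ i))) := by
    refine le_trans (le_min hZ1 ?_) hses1
    rw [hcongr]
    have h2 : ((1 + 1 : ℕ) : ℕ∞) ≤ ((g + 1 - i : ℕ) : ℕ∞) := by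
      exact_mod_cast (show 1 + 1 ≤ g + 1 - i by omega)
    simpa using le_sub_one (h2.trans hS)
  have hsub := subsingleton_of_isFiniteLength_of_one_le_depth _ (hfl i) hH1
  have htop : (B X δ i).submoduleOf (LinearMap.ker (δ i)) = ⊤ :=
    Submodule.Quotient.subsingleton_iff.mp hsub
  have hBeq : B X δ i = LinearMap.ker (δ i) := by
    refine le_antisymm hBZ (fun z hz => ?_)
    have : (⟨z, hz⟩ : LinearMap.ker (δ i)) ∈ (B X δ i).submoduleOf (LinearMap.ker (δ i)) := by
      rw [htop]; trivial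
    exact this
  refine ⟨hBeq, ?_⟩
  refine le_trans (le_min ?_ ?_) hses2₃
  · exact le_trans (by exact_mod_cast (show g - i ≤ g by omega)) (hX i)
  · rw [← idealDepth_congr _ (LinearEquiv.ofEq _ _ hBeq)]
    have h3 : ((g - i + 1 : ℕ) : ℕ∞) ≤ ((g + 1 - i : ℕ) : ℕ∞) := by
      exact_mod_cast (show g - i + 1 ≤ g + 1 - i by omega)
    exact le_sub_one (h3.trans hS)

theorem acyclic (hδ : ∀ i x, δ (i + 1) (δ i x) = 0) (g : ℕ)
    (hX : ∀ i, (g : ℕ∞) ≤ LocCoh.depth R (X i))
    (hfl : ∀ i, IsFiniteLength R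
      (↥(LinearMap.ker (δ i)) ⧸ (B X δ i).submoduleOf (LinearMap.ker (δ i)))) :
    ∀ i, i < g → B X δ i = LinearMap.ker (δ i) := by
  have key : ∀ i, i ≤ g → ((g + 1 - i : ℕ) : ℕ∞) ≤ LocCoh.depth R ↥(B X δ i) := by
    intro i
    induction i with
    | zero =>
      intro _
      have : Subsingleton ↥(B X δ 0) := by
        show Subsingleton ↥(⊥ : Submodule R (X 0))
        infer_instance
      rw [depth_eq_top_of_subsingleton]
      exact le_top
    | succ i ih =>
      intro hi
      have := (step X δ hδ g hX hfl i (by omega) (ih (by omega))).2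
      have h2 : g + 1 - (i + 1) = g - i := by omega
      rw [h2]
      exact this
  intro i hi
  exact (step X δ hδ g hX hfl i hi (key i hi.le)).1

end

end Groth.Agent.H13.Acyc
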