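import Groth.Agent.H13.LCGV
import Groth.Agent.H29.DepthLib

/-!
# Depth and local cohomology
-/

set_option autoImplicit false
set_option linter.style.haveILetI false

open CategoryTheory Limits Opposite Pointwise RingTheory.Sequence

namespace Groth.Agent.H13.LC

universe u

variable {R : Type u} [CommRing R] (I : Ideal R)

/-- Vanishing passes to the cokernel when the next cohomology of the sub vanishes. -/
theorem subsingleton_right (i : ℕ) {A B C : Type u} [AddCommGroup A] [Module R A]
    [AddCommGroup B] [Module R B] [AddCommGroup C] [Module R C] (f : A →ₗ[R] B) (g : B →ₗ[R] C)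
    (h : Function.Exact f g) (hf : Function.Injective f) (hg : Function.Surjective g)
    (hB : Subsingleton ((localCohomology I i).obj (ModuleCat.of R B)))
    (hA : Subsingleton ((localCohomology I (i + 1)).obj (ModuleCat.of R A))) :
    Subsingleton ((localCohomology I i).obj (ModuleCat.of R C)) := by
  have hS := scLin_shortExact f g h hf hg
  have key : ∀ x : (localCohomology I i).obj (ModuleCat.of R C), x = 0 := by
    intro x
    have h1 : (δ I (scLin f g h) hS i).hom x = 0 := hA.elim _ _
    obtain ⟨y, rfl⟩ := (exact₃ I (scLin f g h) hS i x).mp h1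
    rw [hB.elim y 0]
    exact map_zero _
  exact ⟨fun x y => by rw [key x, key y]⟩

lemma exact_smul_mkQ {M : Type u} [AddCommGroup M] [Module R M] (a : R) :
    Function.Exact (a • (LinearMap.id : M →ₗ[R] M)) (a • (⊤ : Submodule R M)).mkQ := by
  intro m
  rw [Submodule.mkQ_apply, Submodule.Quotient.mk_eq_zero,
    Submodule.mem_smul_pointwise_iff_exists]
  constructor
  · rintro ⟨m', -, rfl⟩
    exact ⟨m', rfl⟩
  · rintro ⟨m', rfl⟩
    exact ⟨m', trivial, rfl⟩

/-- `H^0_I(M) = 0` if some element of `I` is `M`-regular. -/
theorem subsingleton_H0_of_isSMulRegular {M : Type u} [AddCommGroup M] [Module R M]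
    (a : R) (ha : a ∈ I) (hreg : IsSMulRegular M a) :
    Subsingleton ((localCohomology I 0).obj (ModuleCat.of R M)) := by
  apply subsingleton_of_smul_injective I 0 (ModuleCat.of R M) a ha
  intro z hz
  apply ε_injective I (ModuleCat.of R M)
  rw [map_zero]
  apply hreg
  change a • (ε I (ModuleCat.of R M)).hom z = a • 0
  rw [← _root_.map_smul, hz, map_zero, smul_zero]

/-- A weakly regular sequence in `I` of length `k` forces `H^i_I(M) = 0` for `i < k`. -/
theorem subsingleton_of_isWeaklyRegular (rs : List R) :
    ∀ (M : Type u) [AddCommGroup M] [Module R M], IsWeaklyRegular M rs → (∀ r ∈ rs, r ∈ I) →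
      ∀ i < rs.length, Subsingleton ((localCohomology I i).obj (ModuleCat.of R M)) := by
  induction rs with
  | nil => intro M _ _ _ _ i hi; exact absurd hi (Nat.not_lt_zero _)
  | cons x rs ih =>
    intro M _ _ hreg hmem i hi
    rw [isWeaklyRegular_cons_iff] at hreg
    have hx : x ∈ I := hmem x (List.mem_cons_self)
    rcases i with _ | j
    · exact subsingleton_H0_of_isSMulRegular I x hx hreg.1
    · apply subsingleton_succ_of_isSMulRegular I j x hx hreg.1
      exact ih (QuotSMulTop x M) hreg.2 (fun r hr => hmem r (List.mem_cons_of_mem _ hr)) j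
        (by simpa using hi)

variable [IsNoetherianRing R]

/-- Conversely vanishing of `H^i_I(M)` for `i < n` produces a weakly regular sequence. -/
theorem exists_isWeaklyRegular_of_subsingleton (n : ℕ) :
    ∀ (M : Type u) [AddCommGroup M] [Module R M], Module.Finite R M →
      (∀ i < n, Subsingleton ((localCohomology I i).obj (ModuleCat.of R M))) →
      ∃ rs : List R, rs.length = n ∧ IsWeaklyRegular M rs ∧ ∀ r ∈ rs, r ∈ I := by
  induction n with
  | zero => intro M _ _ _ _; exact ⟨[], rfl, IsWeaklyRegular.nil R M, by simp⟩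
  | succ n ih =>
    intro M _ _ hfin h
    have h0 := h 0 (Nat.succ_pos n)
    have htors : DRing.torsionSub I M = ⊥ := torsionSub_eq_bot_of_subsingleton_H0 I M h0
    obtain ⟨x, hxI, hreg⟩ : ∃ x ∈ I, IsSMulRegular M x := by
      apply Groth.Agent.H29.exists_isSMulRegular_mem_of_forall_not_le R M I
      intro q hq hIq
      obtain ⟨-, m, hm⟩ := isAssociatedPrime_iff.mp hq
      have hm0 : m ≠ 0 := by
        rintro rfl
        have : (1 : R) ∈ q := by rw [hm]; simp
        exact hq.isPrime.ne_top ((Ideal.eq_top_iff_one q).mpr this)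
      have hmt : m ∈ DRing.torsionSub I M := by
        refine ⟨1, fun a ha => ?_⟩
        rw [pow_one] at ha
        have : a ∈ q := hIq ha
        rw [hm, Submodule.mem_colon_singleton] at this
        simpa using this
      rw [htors, Submodule.mem_bot] at hmt
      exact hm0 hmt
    have hM' : ∀ i < n, Subsingleton
        ((localCohomology I i).obj (ModuleCat.of R (QuotSMulTop x M))) := by
      intro i hi
      exact subsingleton_right I i _ _ (exact_smul_mkQ x) (fun a b hab => hreg hab)
        (Submodule.mkQ_surjective _) (h i (by omega)) (h (i + 1) (by omega))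
    obtain ⟨rs, hlen, hrs, hmem⟩ := ih (QuotSMulTop x M) inferInstance hM'
    refine ⟨x :: rs, by simp [hlen], ?_, ?_⟩
    · rw [isWeaklyRegular_cons_iff]
      exact ⟨hreg, hrs⟩
    · intro r hr
      rcases List.mem_cons.mp hr with rfl | hr
      · exact hxI
      · exact hmem r hr

/-- Depth is the least degree of non-vanishing local cohomology. -/
theorem le_idealDepth_iff_subsingleton (M : Type u) [AddCommGroup M] [Module R M]
    [Module.Finite R M] (hIM : I • (⊤ : Submodule R M) ≠ ⊤) (n : ℕ) :
    (n : ℕ∞) ≤ LocCoh.idealDepth I M ↔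
      ∀ i < n, Subsingleton ((localCohomology I i).obj (ModuleCat.of R M)) := by
  rw [Groth.Agent.H29.le_idealDepth_iff I M hIM n]
  constructor
  · rintro ⟨rs, rfl, hreg, hmem⟩
    exact subsingleton_of_isWeaklyRegular I rs M hreg hmem
  · intro h
    exact exists_isWeaklyRegular_of_subsingleton I n M inferInstance h

theorem idealDepth_eq_iff (M : Type u) [AddCommGroup M] [Module R M]
    [Module.Finite R M] (hIM : I • (⊤ : Submodule R M) ≠ ⊤) (n : ℕ) :
    LocCoh.idealDepth I M = n ↔
      ((∀ i : ℕ, i < n → Subsingleton ((localCohomology I i).obj (ModuleCat.of R M))) ∧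
        Nontrivial ((localCohomology I n).obj (ModuleCat.of R M))) := by
  have h1 := le_idealDepth_iff_subsingleton I M hIM n
  have h2 := le_idealDepth_iff_subsingleton I M hIM (n + 1)
  constructor
  · intro h
    have hn : (n : ℕ∞) ≤ LocCoh.idealDepth I M := h.ge
    refine ⟨h1.mp hn, ?_⟩
    rw [← not_subsingleton_iff_nontrivial]
    intro hsub
    have : ((n + 1 : ℕ) : ℕ∞) ≤ LocCoh.idealDepth I M := by
      apply h2.mpr
      intro i hi
      rcases Nat.lt_succ_iff_lt_or_eq.mp hi with hi | rfl
      · exact h1.mp hn i hi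
      · exact hsub
    rw [h] at this
    have : n + 1 ≤ n := by exact_mod_cast this
    omega
  · rintro ⟨hlt, hnt⟩
    apply le_antisymm
    · by_contra hcon
      rw [not_le] at hcon
      have : ((n + 1 : ℕ) : ℕ∞) ≤ LocCoh.idealDepth I M := by
        rw [Nat.cast_add, Nat.cast_one]
        exact Order.add_one_le_of_lt hcon
      have hsub := h2.mp this n (Nat.lt_succ_self n)
      exact (not_subsingleton_iff_nontrivial.mpr hnt) hsub
    · exact h1.mpr hlt

end Groth.Agent.H13.LC
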