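import Groth.Agent.H13.LCSum
import Groth.Agent.H29.DTLift

/-!
# Local cohomology of the ideal transform
-/

set_option autoImplicit false
set_option linter.style.haveILetI false

open CategoryTheory Limits Opposite LocCoh Groth.Agent.H29

namespace Groth.Agent.H13.LC

universe u

variable {R : Type u} [CommRing R] [IsNoetherianRing R] (I : Ideal R)

/-- A module without `K`-torsion embeds into an injective module without `K`-torsion. -/
theorem exists_embedding_torsionFree (K : Ideal R) (N : Type u) [AddCommGroup N] [Module R N]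
    (hNtors : DRing.torsionSub K N = ⊥) :
    ∃ (E' : Type u) (_ : AddCommGroup E') (_ : Module R E') (φ : N →ₗ[R] E'),
      Function.Injective φ ∧ Module.Injective R E' ∧ DRing.torsionSub K E' = ⊥ := by
  let E : ModuleCat.{u} R := Injective.under (ModuleCat.of R N)
  let e : ModuleCat.of R N ⟶ E := Injective.ι (ModuleCat.of R N)
  have he : Function.Injective e.hom := (ModuleCat.mono_iff_injective e).mp inferInstance
  haveI hEo : Injective (ModuleCat.of R E) :=
    (inferInstanceAs (Injective (Injective.under (ModuleCat.of R N))))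
  haveI hE : Module.Injective R E := Module.injective_module_of_injective_object R E
  have hE'' := injective_quotient_torsionSub K E
  let φ : N →ₗ[R] (E ⧸ DRing.torsionSub K E) := (DRing.torsionSub K E).mkQ ∘ₗ e.hom
  have hφ : Function.Injective φ := by
    rw [← LinearMap.ker_eq_bot, eq_bot_iff]
    intro x hx
    rw [LinearMap.mem_ker, LinearMap.comp_apply, Submodule.mkQ_apply,
      Submodule.Quotient.mk_eq_zero] at hx
    obtain ⟨a, ha⟩ := hx
    have hxN : x ∈ DRing.torsionSub K N := by
      refine ⟨a, fun r hr => he ?_⟩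
      rw [_root_.map_smul, map_zero]
      exact ha r hr
    rw [hNtors] at hxN
    exact hxN
  exact ⟨E ⧸ DRing.torsionSub K E, inferInstance, inferInstance, φ, hφ, hE'',
    torsionSub_quotient_eq_bot' K E⟩

theorem torsionSub_DT_eq_bot (M : Type u) [AddCommGroup M] [Module R M] :
    DRing.torsionSub I (DT I M) = ⊥ := by
  rw [eq_bot_iff]
  rintro w ⟨k, hk⟩
  exact dt_eq_zero_of_pow_smul_eq_zero I M w k hk

/-- Every map `I^k → D_I(M)` is, on a smaller power of `I`, multiplication by an element of
`D_I(M)`. -/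
theorem exists_eq_smul (M : Type u) [AddCommGroup M] [Module R M] (k : ℕ)
    (ψ : ↥(I ^ k) →ₗ[R] DT I M) :
    ∃ (w : DT I M) (k' : ℕ) (hk : k ≤ k'), ∀ a : ↥(I ^ k'),
      ψ ⟨a.1, Ideal.pow_le_pow_right hk a.2⟩ = (a : R) • w := by
  have hbij := idealTransform_map_bijective I (toDT I M)
    (fun m hm => toDT_ker_torsion I M m hm) (fun w => toDT_coker_torsion I M w)
  obtain ⟨w, hw⟩ := hbij.2 (dtι I (DT I M) k ψ)
  obtain ⟨t, χ, rfl⟩ := exists_dtι_eq I M w
  rw [idealTransform_map_dtι] at hw
  have h1 : dtι I (DT I M) (max t k) (resPow I (le_max_left t k) (toDT I M ∘ₗ χ) -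
      resPow I (le_max_right t k) ψ) = 0 := by
    rw [map_sub, dtι_resPow, dtι_resPow, hw, sub_self]
  obtain ⟨k', hk', h2⟩ := (dtι_eq_zero_iff I (DT I M) _).mp h1
  refine ⟨dtι I M t χ, k', (le_max_right t k).trans hk', fun a => ?_⟩
  have h3 := LinearMap.congr_fun h2 a
  simp only [resPow_apply, LinearMap.sub_apply, LinearMap.comp_apply, LinearMap.zero_apply,
    sub_eq_zero] at h3
  rw [smul_dtι_eq_toDT I M χ a.1 (Ideal.pow_le_pow_right ((le_max_left t k).trans hk') a.2)]
  exact h3.symm

/-- `H^1_I(D_I(M)) = 0`. -/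
theorem subsingleton_H1_DT (M : Type u) [AddCommGroup M] [Module R M] :
    Subsingleton ((localCohomology I 1).obj (ModuleCat.of R (DT I M))) := by
  obtain ⟨E', _, _, φ, hφ, hE', hE'tors⟩ :=
    exists_embedding_torsionFree I (DT I M) (torsionSub_DT_eq_bot I M)
  haveI hE'o : Injective (ModuleCat.of R E') := Module.injective_object_of_injective_module R _
  have hQ : DRing.torsionSub I (E' ⧸ LinearMap.range φ) = ⊥ := by
    rw [eq_bot_iff]
    rintro q ⟨k, hk⟩
    obtain ⟨e, rfl⟩ := Submodule.mkQ_surjective _ q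
    rw [Submodule.mem_bot, Submodule.mkQ_apply, Submodule.Quotient.mk_eq_zero]
    have hmem : ∀ a ∈ I ^ k, a • e ∈ LinearMap.range φ := by
      intro a ha
      have := hk a ha
      rwa [← _root_.map_smul, Submodule.mkQ_apply, Submodule.Quotient.mk_eq_zero] at this
    let ψ₀ : ↥(I ^ k) →ₗ[R] LinearMap.range φ :=
      LinearMap.codRestrict (LinearMap.range φ)
        ((LinearMap.toSpanSingleton R E' e) ∘ₗ (I ^ k).subtype) (fun a => by
          rw [LinearMap.comp_apply, LinearMap.toSpanSingleton_apply]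
          exact hmem a.1 a.2)
    let ψ : ↥(I ^ k) →ₗ[R] DT I M := (LinearEquiv.ofInjective φ hφ).symm.toLinearMap ∘ₗ ψ₀
    have hψ : ∀ a : ↥(I ^ k), φ (ψ a) = (a : R) • e := by
      intro a
      have h1 : (LinearEquiv.ofInjective φ hφ) (ψ a) = ψ₀ a :=
        LinearEquiv.apply_symm_apply _ _
      have h2 := congrArg Subtype.val h1
      exact h2
    obtain ⟨w, k', hkk', hw⟩ := exists_eq_smul I M k ψ
    have hzero : e - φ w ∈ DRing.torsionSub I E' := by
      refine ⟨k', fun a ha => ?_⟩
      have h1 := hw ⟨a, ha⟩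
      have h2 := hψ ⟨a, Ideal.pow_le_pow_right hkk' ha⟩
      rw [h1, _root_.map_smul] at h2
      rw [smul_sub, ← h2, sub_self]
    rw [hE'tors, Submodule.mem_bot, sub_eq_zero] at hzero
    exact ⟨w, hzero.symm⟩
  exact subsingleton_of_injective' I 0 φ _ (LinearMap.exact_map_mkQ_range φ) hφ
    (Submodule.mkQ_surjective _) (subsingleton_of_injective I 0 _) (subsingleton_H0 I _ hQ)

end Groth.Agent.H13.LC
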