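import Groth.Agent.H13.LCDT5
import Groth.Agent.H13.LCDepth
import Groth.Agent.S11591

/-!
# Exactness of the ideal transform functor
-/

set_option autoImplicit false
set_option linter.style.haveILetI false
set_option linter.unusedSectionVars false

open CategoryTheory Limits Opposite LocCoh Groth.Agent.H29

namespace Groth.Agent.H13.LC

universe u

variable {R : Type u} [CommRing R] (I : Ideal R)

/-- `D_I` is exact in the middle on left exact sequences. -/
theorem DT_exact {A B C : Type u} [AddCommGroup A] [Module R A] [AddCommGroup B] [Module R B]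
    [AddCommGroup C] [Module R C] (f : A →ₗ[R] B) (g : B →ₗ[R] C) (hex : Function.Exact f g)
    (hf : Function.Injective f) :
    Function.Exact ((idealTransform I).map (ModuleCat.ofHom f)).hom
      ((idealTransform I).map (ModuleCat.ofHom g)).hom := by
  intro z
  constructor
  · intro hz
    obtain ⟨n, φ, rfl⟩ := exists_dtι_eq I B z
    rw [idealTransform_map_dtι, dtι_eq_zero_iff] at hz
    obtain ⟨k, hk, h0⟩ := hz
    have hmem : ∀ x : ↥(I ^ k), resPow I hk φ x ∈ LinearMap.range f := by
      intro x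
      have := LinearMap.congr_fun h0 x
      rw [resPow_apply, LinearMap.comp_apply, LinearMap.zero_apply] at this
      exact (hex _).mp this
    let χ : ↥(I ^ k) →ₗ[R] A := (LinearEquiv.ofInjective f hf).symm.toLinearMap ∘ₗ
      (LinearMap.codRestrict (LinearMap.range f) (resPow I hk φ) hmem)
    have hχ : ∀ x, f (χ x) = resPow I hk φ x := by
      intro x
      have h1 : (LinearEquiv.ofInjective f hf) (χ x) =
          (LinearMap.codRestrict (LinearMap.range f) (resPow I hk φ) hmem) x :=
        LinearEquiv.apply_symm_apply _ _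
      exact congrArg Subtype.val h1
    refine ⟨dtι I A k χ, ?_⟩
    rw [idealTransform_map_dtι, ← dtι_resPow I B hk φ]
    congr 1
    ext x
    exact hχ x
  · rintro ⟨y, rfl⟩
    obtain ⟨n, φ, rfl⟩ := exists_dtι_eq I A y
    rw [idealTransform_map_dtι, idealTransform_map_dtι]
    have : g ∘ₗ f ∘ₗ φ = 0 := by
      ext x
      exact hex.apply_apply_eq_zero _
    rw [this, map_zero]

theorem exists_injective_embedding (N : Type u) [AddCommGroup N] [Module R N] :
    ∃ (E : Type u) (_ : AddCommGroup E) (_ : Module R E) (φ : N →ₗ[R] E),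
      Function.Injective φ ∧ Module.Injective R E := by
  let E : ModuleCat.{u} R := Injective.under (ModuleCat.of R N)
  let e : ModuleCat.of R N ⟶ E := Injective.ι (ModuleCat.of R N)
  have he : Function.Injective e.hom := (ModuleCat.mono_iff_injective e).mp inferInstance
  haveI hEo : Injective (ModuleCat.of R E) :=
    (inferInstanceAs (Injective (Injective.under (ModuleCat.of R N))))
  haveI hE : Module.Injective R E := Module.injective_module_of_injective_object R E
  exact ⟨E, inferInstance, inferInstance, e.hom, he, hE⟩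

variable [IsNoetherianRing R]

theorem toDT_surjective_iff (M : Type u) [AddCommGroup M] [Module R M] :
    Function.Surjective (toDT I M) ↔
      Subsingleton ((localCohomology I 1).obj (ModuleCat.of R M)) := by
  obtain ⟨e⟩ := Groth.Agent.S11591.result R I M
  rw [← LinearMap.range_eq_top, ← Submodule.Quotient.subsingleton_iff]
  exact ⟨fun h => e.symm.injective.subsingleton, fun h => e.injective.subsingleton⟩

/-- If `H^2_I(A) = 0` then `D_I` preserves the surjection `B → C` with kernel `A`. -/
theorem DT_map_surjective {A B C : Type u} [AddCommGroup A] [Module R A] [AddCommGroup B]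
    [Module R B] [AddCommGroup C] [Module R C] (f : A →ₗ[R] B) (g : B →ₗ[R] C)
    (hex : Function.Exact f g) (hf : Function.Injective f) (hg : Function.Surjective g)
    (hA : Subsingleton ((localCohomology I 2).obj (ModuleCat.of R A))) :
    Function.Surjective ((idealTransform I).map (ModuleCat.ofHom g)).hom := by
  obtain ⟨E, _, _, ιE, hιE, hE⟩ := exists_injective_embedding (R := R) A
  haveI hEo : Injective (ModuleCat.of R E) := Module.injective_object_of_injective_module R _
  obtain ⟨h, hh⟩ := hE.out f hf ιE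
  -- Q = E / A has H^1 = 0
  have hQ : Subsingleton ((localCohomology I 1).obj
      (ModuleCat.of R (E ⧸ LinearMap.range ιE))) :=
    subsingleton_right I 1 ιE _ (LinearMap.exact_map_mkQ_range ιE) hιE
      (Submodule.mkQ_surjective _) (subsingleton_of_injective I 0 _) hA
  have hηQ := (toDT_surjective_iff I (E ⧸ LinearMap.range ιE)).mpr hQ
  -- θ : C → Q
  have hle : LinearMap.ker g ≤ LinearMap.ker ((LinearMap.range ιE).mkQ ∘ₗ h) := by
    intro b hb
    obtain ⟨a, rfl⟩ := (hex b).mp hb
    rw [LinearMap.mem_ker, LinearMap.comp_apply, hh, Submodule.mkQ_apply,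
      Submodule.Quotient.mk_eq_zero]
    exact ⟨a, rfl⟩
  let eg := g.quotKerEquivOfSurjective hg
  let θ : C →ₗ[R] (E ⧸ LinearMap.range ιE) :=
    ((LinearMap.ker g).liftQ ((LinearMap.range ιE).mkQ ∘ₗ h) hle) ∘ₗ eg.symm.toLinearMap
  have hθ : ∀ b, θ (g b) = (LinearMap.range ιE).mkQ (h b) := by
    intro b
    have h1 : eg.symm (g b) = Submodule.Quotient.mk b := by
      rw [LinearEquiv.symm_apply_eq]
      rfl
    change ((LinearMap.ker g).liftQ ((LinearMap.range ιE).mkQ ∘ₗ h) hle) (eg.symm (g b)) = _
    rw [h1]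
    rfl
  intro z
  obtain ⟨n, φ, rfl⟩ := exists_dtι_eq I C z
  obtain ⟨q, hq⟩ := hηQ (dtι I _ n (θ ∘ₗ φ))
  obtain ⟨e, rfl⟩ := Submodule.mkQ_surjective _ q
  rw [toDT_eq, ← dtι_resPow I _ (Nat.zero_le n), ← sub_eq_zero, ← map_sub,
    dtι_eq_zero_iff] at hq
  obtain ⟨k, hk, h0⟩ := hq
  have hkey : ∀ x : ↥(I ^ k), (LinearMap.range ιE).mkQ ((x : R) • e) =
      θ (φ ⟨x.1, Ideal.pow_le_pow_right hk x.2⟩) := by
    intro x
    have := LinearMap.congr_fun h0 x
    rw [resPow_apply, LinearMap.sub_apply, resPow_apply, LinearMap.zero_apply, sub_eq_zero] at this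
    rw [_root_.map_smul]
    exact this
  -- the map (g, h) : B → C × E is injective
  have hinj : Function.Injective (g.prod h) := by
    rw [injective_iff_map_eq_zero]
    intro b hb
    have h1 : g b = 0 := congrArg Prod.fst hb
    have h2 : h b = 0 := congrArg Prod.snd hb
    obtain ⟨a, rfl⟩ := (hex b).mp h1
    rw [hh] at h2
    rw [hιE (h2.trans (map_zero ιE).symm), map_zero]
  let ξ : ↥(I ^ k) →ₗ[R] C × E :=
    (resPow I hk φ).prod ((LinearMap.toSpanSingleton R E e) ∘ₗ (I ^ k).subtype)
  have hξ : ∀ x, ξ x ∈ LinearMap.range (g.prod h) := by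
    intro x
    obtain ⟨b, hb⟩ := hg (φ ⟨x.1, Ideal.pow_le_pow_right hk x.2⟩)
    have h1 := hkey x
    rw [← hb, hθ, ← sub_eq_zero, ← map_sub, Submodule.mkQ_apply,
      Submodule.Quotient.mk_eq_zero] at h1
    obtain ⟨a, ha⟩ := h1
    refine ⟨b + f a, ?_⟩
    apply Prod.ext
    · change g (b + f a) = φ ⟨x.1, _⟩
      rw [map_add, hex.apply_apply_eq_zero, add_zero, hb]
    · change h (b + f a) = (x : R) • e
      rw [map_add, hh, ha]
      abel
  let χ : ↥(I ^ k) →ₗ[R] B := (LinearEquiv.ofInjective (g.prod h) hinj).symm.toLinearMap ∘ₗ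
    (LinearMap.codRestrict (LinearMap.range (g.prod h)) ξ hξ)
  have hχ : ∀ x, (g.prod h) (χ x) = ξ x := by
    intro x
    have h1 : (LinearEquiv.ofInjective (g.prod h) hinj) (χ x) =
        (LinearMap.codRestrict (LinearMap.range (g.prod h)) ξ hξ) x :=
      LinearEquiv.apply_symm_apply _ _
    exact congrArg Subtype.val h1
  refine ⟨dtι I B k χ, ?_⟩
  rw [idealTransform_map_dtι, ← dtι_resPow I C hk φ]
  congr 1
  ext x
  exact congrArg Prod.fst (hχ x)

/-- The statement "`D_I` preserves surjections". -/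
def DTSurj : Prop :=
  ∀ (P Q : Type u) [AddCommGroup P] [Module R P] [AddCommGroup Q] [Module R Q] (π : P →ₗ[R] Q),
    Function.Surjective π → Function.Surjective ((idealTransform I).map (ModuleCat.ofHom π)).hom

omit [IsNoetherianRing R] in
/-- The ideal transform functor is exact iff it preserves surjections. -/
theorem exact_iff_DTSurj :
    (PreservesFiniteLimits (idealTransform I) ∧ PreservesFiniteColimits (idealTransform I)) ↔
      DTSurj I := by
  rw [((Functor.exact_tfae (idealTransform I)).out 3 0 :)]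
  constructor
  · intro h P Q _ _ _ _ π hπ
    have hex : Function.Exact (LinearMap.ker π).subtype π := LinearMap.exact_subtype_ker_map π
    have hS := scLin_shortExact _ π hex (LinearMap.ker π).injective_subtype hπ
    have := (h _ hS).epi_g
    exact (ModuleCat.epi_iff_surjective _).mp this
  · intro h S hS
    have hf : Function.Injective S.f.hom := (ModuleCat.mono_iff_injective S.f).mp hS.mono_f
    have hg : Function.Surjective S.g.hom := (ModuleCat.epi_iff_surjective S.g).mp hS.epi_g
    have hex : Function.Exact S.f.hom S.g.hom :=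
      (ShortComplex.ShortExact.moduleCat_exact_iff_function_exact S).mp hS.exact
    refine ShortComplex.ShortExact.mk' ?_ ?_ ?_
    · rw [ShortComplex.ShortExact.moduleCat_exact_iff_function_exact]
      exact DT_exact I S.f.hom S.g.hom hex hf
    · rw [ModuleCat.mono_iff_injective]
      exact idealTransform_map_injective I S.f.hom hf
    · rw [ModuleCat.epi_iff_surjective]
      exact h S.X₂ S.X₃ S.g.hom hg

theorem DTSurj_of_cdLE (h : CdLE R I 1) : DTSurj I := by
  intro P Q _ _ _ _ π hπ
  exact DT_map_surjective I (LinearMap.ker π).subtype π (LinearMap.exact_subtype_ker_map π)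
    (LinearMap.ker π).injective_subtype hπ (h _ 2 (by norm_num))

theorem cdLE_of_DTSurj (h : DTSurj I) : CdLE R I 1 := by
  have h2 : ∀ (M : Type u) [AddCommGroup M] [Module R M],
      Subsingleton ((localCohomology I 2).obj (ModuleCat.of R M)) := by
    intro M _ _
    obtain ⟨E, _, _, ιE, hιE, hE⟩ := exists_injective_embedding (R := R) M
    haveI hEo : Injective (ModuleCat.of R E) := Module.injective_object_of_injective_module R _
    have hηE : Function.Surjective (toDT I E) :=
      (toDT_surjective_iff I E).mpr (subsingleton_of_injective I 0 _)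
    have hDπ := h E (E ⧸ LinearMap.range ιE) (LinearMap.range ιE).mkQ
      (Submodule.mkQ_surjective _)
    have hηQ : Function.Surjective (toDT I (E ⧸ LinearMap.range ιE)) := by
      intro z
      obtain ⟨y, rfl⟩ := hDπ z
      obtain ⟨e, rfl⟩ := hηE y
      exact ⟨(LinearMap.range ιE).mkQ e, (idealTransform_map_toDT I _ e).symm⟩
    have hQ1 := (toDT_surjective_iff I _).mp hηQ
    exact subsingleton_of_injective' I 1 ιE _ (LinearMap.exact_map_mkQ_range ιE) hιE
      (Submodule.mkQ_surjective _) (subsingleton_of_injective I 1 _) hQ1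
  have hall : ∀ (j : ℕ) (M : Type u) [AddCommGroup M] [Module R M],
      Subsingleton ((localCohomology I (j + 2)).obj (ModuleCat.of R M)) := by
    intro j
    induction j with
    | zero => exact fun M _ _ => h2 M
    | succ j ih =>
      intro M _ _
      obtain ⟨E, _, _, ιE, hιE, hE⟩ := exists_injective_embedding (R := R) M
      haveI hEo : Injective (ModuleCat.of R E) := Module.injective_object_of_injective_module R _
      exact subsingleton_of_injective' I (j + 2) ιE _ (LinearMap.exact_map_mkQ_range ιE) hιE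
        (Submodule.mkQ_surjective _) (subsingleton_of_injective I (j + 2) _) (ih _)
  intro M _ _ i hi
  obtain ⟨j, rfl⟩ : ∃ j, i = j + 2 := ⟨i - 2, by omega⟩
  exact hall j M

/-- If `D_I` preserves surjections, every element of `D_I(R)` is a combination of the
generators of `I`. -/
theorem exists_eq_sum_of_DTSurj (h : DTSurj I) (r : ℕ) (f : Fin r → R)
    (hf : Ideal.span (Set.range f) = I) (z : DT I R) :
    ∃ w : Fin r → DT I R, z = ∑ j, f j • w j := by
  let g : (Fin r → R) →ₗ[R] R := Fintype.linearCombination R f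
  have hgI : ∀ v, g v ∈ I := by
    intro v
    rw [← hf]
    have : g v ∈ LinearMap.range g := ⟨v, rfl⟩
    rwa [Fintype.range_linearCombination] at this
  let g' : (Fin r → R) →ₗ[R] I := g.codRestrict I hgI
  have hg' : Function.Surjective g' := by
    rintro ⟨x, hx⟩
    have : x ∈ LinearMap.range g := by
      rw [Fintype.range_linearCombination]
      change x ∈ Ideal.span (Set.range f)
      rw [hf]
      exact hx
    obtain ⟨v, hv⟩ := this
    exact ⟨v, Subtype.ext hv⟩
  have hDg' := h _ _ g' hg'
  have hDincl := idealTransform_map_bijective I I.subtype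
    (fun m hm => ⟨0, fun a _ => by
      have : m = 0 := Subtype.ext hm
      rw [this, smul_zero]⟩)
    (fun x => ⟨1, fun a ha => ⟨⟨a • x, by
      rw [pow_one] at ha
      exact I.mul_mem_right x ha⟩, rfl⟩⟩)
  obtain ⟨y', rfl⟩ := hDincl.2 z
  obtain ⟨y, rfl⟩ := hDg' y'
  obtain ⟨n, φ, rfl⟩ := exists_dtι_eq I _ y
  refine ⟨fun j => dtι I R n ((LinearMap.proj j) ∘ₗ φ), ?_⟩
  rw [idealTransform_map_dtι, idealTransform_map_dtι]
  simp only [← _root_.map_smul, ← map_sum]
  congr 1
  ext x
  simp only [LinearMap.comp_apply, LinearMap.coe_sum, Finset.sum_apply, LinearMap.smul_apply,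
    LinearMap.proj_apply, smul_eq_mul]
  change g (φ x) = _
  rw [Fintype.linearCombination_apply]
  apply Finset.sum_congr rfl
  intro j _
  rw [smul_eq_mul, mul_comm]

omit [IsNoetherianRing R] in
/-- A relation `η(1) = ∑ g_i w_i` in `D_I(R)` gives `x = ∑ g_i ψ_i(x)` on a power of `I`. -/
theorem exists_relation {ι : Type*} [Fintype ι] (g : ι → R) (w : ι → DT I R)
    (h : toDT I R 1 = ∑ i, g i • w i) (c₀ : ℕ) :
    ∃ (c : ℕ) (_ : c₀ ≤ c) (ψ : ι → (↥(I ^ c) →ₗ[R] R)),
      ∀ x : ↥(I ^ c), (x : R) = ∑ i, g i * ψ i x := by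
  classical
  choose n φ hφ using fun i => exists_dtι_eq I R (w i)
  let c₁ := (Finset.univ.sup n) ⊔ c₀
  have hle : ∀ i, n i ≤ c₁ := fun i => (Finset.le_sup (Finset.mem_univ i)).trans le_sup_left
  let θ : ↥(I ^ c₁) →ₗ[R] R := (∑ i, g i • resPow I (hle i) (φ i)) -
    resPow I (Nat.zero_le c₁) (((LinearMap.lsmul R R).domRestrict (I ^ 0)).flip 1)
  have hθ : dtι I R c₁ θ = 0 := by
    rw [map_sub, map_sum, dtι_resPow, ← toDT_eq, h, sub_eq_zero]
    apply Finset.sum_congr rfl
    intro i _
    rw [_root_.map_smul, dtι_resPow, hφ]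
  obtain ⟨c, hc, h0⟩ := (dtι_eq_zero_iff I R θ).mp hθ
  refine ⟨c, le_sup_right.trans hc, fun i => resPow I ((hle i).trans hc) (φ i), fun x => ?_⟩
  have h1 := LinearMap.congr_fun h0 x
  rw [resPow_apply, LinearMap.zero_apply, LinearMap.sub_apply, sub_eq_zero] at h1
  rw [LinearMap.coe_sum, Finset.sum_apply] at h1
  have h2 : (x : R) = (x : R) • (1 : R) := by rw [smul_eq_mul, mul_one]
  rw [h2]
  refine Eq.trans ?_ (Eq.trans h1.symm ?_)
  · rfl
  · apply Finset.sum_congr rfl
    intro i _
    rfl

omit [IsNoetherianRing R] in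
theorem DTSurj_of_smul_top (h : I • (⊤ : Submodule R (DT I R)) = ⊤) : DTSurj I := by
  classical
  have hpow : ∀ n : ℕ, (I ^ n) • (⊤ : Submodule R (DT I R)) = ⊤ := by
    intro n
    induction n with
    | zero => rw [pow_zero, Ideal.one_eq_top, Submodule.top_smul]
    | succ n ih => rw [pow_succ, Submodule.mul_smul, h, ih]
  intro P Q _ _ _ _ π hπ z
  obtain ⟨n, φ, rfl⟩ := exists_dtι_eq I Q z
  have h1 : toDT I R 1 ∈ (I ^ n) • Submodule.span R (Set.range (id : DT I R → DT I R)) := by
    rw [Set.range_id, Submodule.span_univ, hpow n]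
    trivial
  obtain ⟨a, ha, hsum⟩ := (Submodule.mem_ideal_smul_span_iff_exists_sum (I ^ n) id _).mp h1
  have h2 : toDT I R 1 = ∑ i : ↥a.support, a i.1 • (i.1 : DT I R) := by
    rw [← hsum, Finsupp.sum, ← Finset.sum_coe_sort]
    rfl
  obtain ⟨c, hc, ψ, hψ⟩ := exists_relation I (fun i : ↥a.support => a i.1)
    (fun i : ↥a.support => (i.1 : DT I R)) h2 n
  choose p hp using fun i : ↥a.support => hπ (φ ⟨a i.1, ha i.1⟩)
  let χ : ↥(I ^ c) →ₗ[R] P := ∑ i, (ψ i).smulRight (p i)
  refine ⟨dtι I P c χ, ?_⟩
  rw [idealTransform_map_dtι, ← dtι_resPow I Q hc φ]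
  congr 1
  ext x
  rw [LinearMap.comp_apply, LinearMap.coe_sum, Finset.sum_apply, map_sum, resPow_apply]
  have h3 : (⟨x.1, Ideal.pow_le_pow_right hc x.2⟩ : ↥(I ^ n)) =
      ∑ i : ↥a.support, ψ i x • (⟨a i.1, ha i.1⟩ : ↥(I ^ n)) := by
    apply Subtype.ext
    rw [Submodule.coe_sum]
    refine (hψ x).trans ?_
    apply Finset.sum_congr rfl
    intro i _
    change a i.1 * ψ i x = ψ i x * a i.1
    exact mul_comm _ _
  rw [h3, map_sum]
  apply Finset.sum_congr rfl
  intro i _
  rw [LinearMap.smulRight_apply, _root_.map_smul, _root_.map_smul, hp]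

omit [IsNoetherianRing R] in
theorem smul_top_of_forall_eq_sum (r : ℕ) (f : Fin r → R)
    (hf : Ideal.span (Set.range f) = I)
    (h : ∀ z : DT I R, ∃ w : Fin r → DT I R, z = ∑ j, f j • w j) :
    I • (⊤ : Submodule R (DT I R)) = ⊤ := by
  rw [eq_top_iff]
  intro z _
  obtain ⟨w, rfl⟩ := h z
  refine Submodule.sum_mem _ fun j _ => Submodule.smul_mem_smul ?_ trivial
  rw [← hf]
  exact Ideal.subset_span ⟨j, rfl⟩

end Groth.Agent.H13.LC
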