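import Groth.Agent.H13.LCDT4

/-!
# Base independence of ideal transforms
-/

set_option autoImplicit false
set_option linter.style.haveILetI false
set_option linter.unusedSectionVars false

open CategoryTheory Limits Opposite LocCoh Groth.Agent.H29

namespace Groth.Agent.H13.LC

universe u

variable {R : Type u} [CommRing R] {R' : Type u} [CommRing R'] [Algebra R R']

lemma algebraMap_mem_map_pow (I : Ideal R) (k : ℕ) {a : R} (ha : a ∈ I ^ k) :
    algebraMap R R' a ∈ (I.map (algebraMap R R')) ^ k := by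
  rw [← Ideal.map_pow]
  exact Ideal.mem_map_of_mem _ ha

/-- Killed by `I^k` implies killed by `(IR')^k`. -/
lemma smul_eq_zero_of_map_pow (I : Ideal R) {X : Type*} [AddCommGroup X] [Module R' X]
    [Module R X] [IsScalarTower R R' X] (k : ℕ) (x : X) (hx : ∀ a ∈ I ^ k, a • x = 0) :
    ∀ b ∈ (I.map (algebraMap R R')) ^ k, b • x = 0 := by
  intro b hb
  rw [← Ideal.map_pow] at hb
  refine Submodule.span_induction (p := fun b _ => b • x = 0) ?_ ?_ ?_ ?_ hb
  · rintro _ ⟨a, ha, rfl⟩
    rw [algebraMap_smul]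
    exact hx a ha
  · exact zero_smul _ _
  · intro b b' _ _ h h'
    rw [add_smul, h, h', add_zero]
  · intro r' b _ h
    rw [smul_eq_mul, mul_smul, h, smul_zero]

/-- Extension of an `R`-linear map `I^k → N` to an `R'`-linear map `(IR')^k → N`, for `N` without
`I^k`-torsion. -/
theorem exists_extend (I : Ideal R) (N : Type u) [AddCommGroup N] [Module R' N] [Module R N]
    [IsScalarTower R R' N] (k : ℕ) (hN : ∀ x : N, (∀ a ∈ I ^ k, a • x = 0) → x = 0)
    (φ : ↥(I ^ k) →ₗ[R] N) :
    ∃ φ' : ↥((I.map (algebraMap R R')) ^ k) →ₗ[R'] N, ∀ (a : R) (ha : a ∈ I ^ k),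
      φ' ⟨algebraMap R R' a, algebraMap_mem_map_pow I k ha⟩ = φ ⟨a, ha⟩ := by
  classical
  let p : (↥(I ^ k) →₀ R') →ₗ[R'] R' :=
    Finsupp.linearCombination R' (fun a : ↥(I ^ k) => algebraMap R R' a.1)
  let g : (↥(I ^ k) →₀ R') →ₗ[R'] N := Finsupp.linearCombination R' (fun a : ↥(I ^ k) => φ a)
  have hrange : LinearMap.range p = (I.map (algebraMap R R')) ^ k := by
    rw [Finsupp.range_linearCombination, ← Ideal.map_pow, Ideal.map]
    congr 1
    ext y
    constructor
    · rintro ⟨a, rfl⟩
      exact ⟨a.1, a.2, rfl⟩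
    · rintro ⟨a, ha, rfl⟩
      exact ⟨⟨a, ha⟩, rfl⟩
  have hker : LinearMap.ker p ≤ LinearMap.ker g := by
    intro l hl
    rw [LinearMap.mem_ker] at hl ⊢
    apply hN
    intro b hb
    have h1 : b • g l = (p l) • φ ⟨b, hb⟩ := by
      change b • Finsupp.linearCombination R' (fun a : ↥(I ^ k) => φ a) l =
        (Finsupp.linearCombination R' (fun a : ↥(I ^ k) => algebraMap R R' a.1) l) • φ ⟨b, hb⟩
      rw [Finsupp.linearCombination_apply, Finsupp.linearCombination_apply]
      unfold Finsupp.sum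
      rw [Finset.smul_sum, Finset.sum_smul]
      apply Finset.sum_congr rfl
      intro a _
      rw [smul_comm, ← _root_.map_smul]
      change l a • φ (b • a) = (l a • algebraMap R R' a.1) • φ ⟨b, hb⟩
      rw [smul_eq_mul, mul_smul, algebraMap_smul, ← φ.map_smul a.1 ⟨b, hb⟩]
      congr 2
      exact Subtype.ext (by simp [mul_comm])
    rw [h1, hl, zero_smul]
  let p' := p.rangeRestrict
  have hp' : Function.Surjective p' := p.surjective_rangeRestrict
  have hker' : LinearMap.ker p' ≤ LinearMap.ker g := by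
    rw [LinearMap.ker_rangeRestrict]
    exact hker
  let e := p'.quotKerEquivOfSurjective hp'
  let φ'' : ↥(LinearMap.range p) →ₗ[R'] N :=
    ((LinearMap.ker p').liftQ g hker') ∘ₗ e.symm.toLinearMap
  have hφ'' : ∀ l, φ'' (p' l) = g l := by
    intro l
    have h1 : e.symm (p' l) = Submodule.Quotient.mk l := by
      rw [LinearEquiv.symm_apply_eq]
      rfl
    change ((LinearMap.ker p').liftQ g hker') (e.symm (p' l)) = g l
    rw [h1]
    rfl
  refine ⟨φ'' ∘ₗ (LinearEquiv.ofEq _ _ hrange.symm).toLinearMap, fun a ha => ?_⟩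
  have h2 : (LinearEquiv.ofEq _ _ hrange.symm)
      ⟨algebraMap R R' a, algebraMap_mem_map_pow I k ha⟩ = p' (Finsupp.single ⟨a, ha⟩ 1) := by
    apply Subtype.ext
    change algebraMap R R' a = p (Finsupp.single ⟨a, ha⟩ 1)
    change _ = Finsupp.linearCombination R' (fun a : ↥(I ^ k) => algebraMap R R' a.1) _
    rw [Finsupp.linearCombination_single, one_smul]
  rw [LinearMap.comp_apply]
  change φ'' ((LinearEquiv.ofEq _ _ hrange.symm) _) = _
  rw [h2, hφ'']
  change Finsupp.linearCombination R' (fun a : ↥(I ^ k) => φ a) _ = _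
  rw [Finsupp.linearCombination_single, one_smul]

variable [IsNoetherianRing R] [IsNoetherianRing R']

theorem exists_DT_map_equiv (I : Ideal R) (M' : Type u) [AddCommGroup M'] [Module R' M']
    [Module R M'] [IsScalarTower R R' M'] :
    ∃ ε : LocCoh.DT (Ideal.map (algebraMap R R') I) M' ≃+ LocCoh.DT I M',
      (∀ (r : R) (x : LocCoh.DT (Ideal.map (algebraMap R R') I) M'),
        ε (algebraMap R R' r • x) = r • ε x) ∧
      ∀ m : M', ε (LocCoh.toDT (Ideal.map (algebraMap R R') I) M' m) = LocCoh.toDT I M' m := by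
  classical
  letI instN : Module R (DT (Ideal.map (algebraMap R R') I) M') :=
    Module.compHom (DT (Ideal.map (algebraMap R R') I) M') (algebraMap R R')
  haveI : IsScalarTower R R' (DT (Ideal.map (algebraMap R R') I) M') := ⟨fun r r' x => by
    change (r • r') • x = (algebraMap R R' r) • (r' • x)
    rw [Algebra.smul_def, mul_smul]⟩
  let e : M' →ₗ[R] DT (Ideal.map (algebraMap R R') I) M' :=
    (toDT (Ideal.map (algebraMap R R') I) M').restrictScalars R
  have hker : ∀ m, e m = 0 → ∃ k : ℕ, ∀ a ∈ I ^ k, a • m = 0 := by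
    intro m hm
    obtain ⟨k, hk⟩ := toDT_ker_torsion (Ideal.map (algebraMap R R') I) M' m hm
    refine ⟨k, fun a ha => ?_⟩
    rw [← algebraMap_smul R' a m]
    exact hk _ (algebraMap_mem_map_pow I k ha)
  have hcoker : ∀ w : DT (Ideal.map (algebraMap R R') I) M', ∃ k : ℕ, ∀ a ∈ I ^ k,
      a • w ∈ LinearMap.range e := by
    intro w
    obtain ⟨k, hk⟩ := toDT_coker_torsion (Ideal.map (algebraMap R R') I) M' w
    refine ⟨k, fun a ha => ?_⟩
    obtain ⟨m, hm⟩ := hk _ (algebraMap_mem_map_pow I k ha)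
    exact ⟨m, hm⟩
  have hDe := idealTransform_map_bijective I e hker hcoker
  have hzero : ∀ (w : DT (Ideal.map (algebraMap R R') I) M') (k : ℕ),
      (∀ a ∈ I ^ k, a • w = 0) → w = 0 := by
    intro w k hw
    exact dt_eq_zero_of_pow_smul_eq_zero (Ideal.map (algebraMap R R') I) M' w k
      (smul_eq_zero_of_map_pow (R' := R') I k w hw)
  have hηN : Function.Bijective (toDT I (DT (Ideal.map (algebraMap R R') I) M')) := by
    constructor
    · rw [injective_iff_map_eq_zero]
      intro w hw
      obtain ⟨k, hk⟩ := toDT_ker_torsion I _ w hw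
      exact hzero w k hk
    · intro z
      obtain ⟨k, φ, rfl⟩ := exists_dtι_eq I _ z
      obtain ⟨φ', hφ'⟩ := exists_extend (R' := R') I (DT (Ideal.map (algebraMap R R') I) M') k
        (fun x hx => hzero x k hx) φ
      obtain ⟨w, k', hk, hw⟩ := exists_eq_smul (Ideal.map (algebraMap R R') I) M' k φ'
      refine ⟨w, ?_⟩
      rw [toDT_eq, ← dtι_resPow I _ hk φ, ← dtι_resPow I _ (Nat.zero_le k')]
      congr 1
      ext a
      rw [resPow_apply, resPow_apply, ← hφ' a.1 (Ideal.pow_le_pow_right hk a.2)]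
      have h1 := hw ⟨algebraMap R R' a.1, algebraMap_mem_map_pow I k' a.2⟩
      exact h1.symm
  let ε : DT (Ideal.map (algebraMap R R') I) M' ≃ₗ[R] DT I M' :=
    (LinearEquiv.ofBijective (toDT I (DT (Ideal.map (algebraMap R R') I) M')) hηN).trans
      (LinearEquiv.ofBijective ((idealTransform I).map (ModuleCat.ofHom e)).hom hDe).symm
  refine ⟨ε.toAddEquiv, fun r x => ε.map_smul r x, fun m => ?_⟩
  change (LinearEquiv.ofBijective ((idealTransform I).map (ModuleCat.ofHom e)).hom hDe).symm
    (toDT I _ (e m)) = _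
  rw [LinearEquiv.symm_apply_eq]
  exact (idealTransform_map_toDT I e m).symm

end Groth.Agent.H13.LC
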