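import Groth.Agent.H13.LCBase
import Groth.Agent.H13.LCDT5
import Groth.Agent.H13.LCDExact

/-!
# Independence of the base for local cohomology
-/

set_option autoImplicit false
set_option linter.style.haveILetI false
set_option linter.unusedSectionVars false

open CategoryTheory Limits Opposite Pointwise

namespace Groth.Agent.H13.LC

universe u

/-- Two surjections with the same kernel have isomorphic targets. -/
theorem exists_addEquiv_of_surjective {A B C : Type*} [AddCommGroup A] [AddCommGroup B]
    [AddCommGroup C] (f : A →+ B) (g : A →+ C) (hf : Function.Surjective f)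
    (hg : Function.Surjective g) (hker : ∀ z, f z = 0 ↔ g z = 0) :
    ∃ ψ : B ≃+ C, ∀ z, ψ (f z) = g z := by
  have hK : f.ker = g.ker := by
    ext z
    exact hker z
  let e₁ := QuotientAddGroup.quotientKerEquivOfSurjective f hf
  let e₂ := QuotientAddGroup.quotientKerEquivOfSurjective g hg
  let e₀ := QuotientAddGroup.quotientAddEquivOfEq hK
  refine ⟨e₁.symm.trans (e₀.trans e₂), fun z => ?_⟩
  have h1 : e₁.symm (f z) = (z : A ⧸ f.ker) := by
    rw [AddEquiv.symm_apply_eq]
    rfl
  rw [AddEquiv.trans_apply, h1]
  rfl

variable {R : Type u} [CommRing R] [IsNoetherianRing R] {R' : Type u} [CommRing R']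
  [IsNoetherianRing R'] [Algebra R R'] (I : Ideal R)

omit [IsNoetherianRing R] [IsNoetherianRing R'] in
lemma mem_torsionSub_map_iff (M' : Type u) [AddCommGroup M'] [Module R' M'] [Module R M']
    [IsScalarTower R R' M'] (m : M') :
    m ∈ DRing.torsionSub (I.map (algebraMap R R')) M' ↔ m ∈ DRing.torsionSub I M' := by
  constructor
  · rintro ⟨n, hn⟩
    refine ⟨n, fun a ha => ?_⟩
    rw [← algebraMap_smul R' a m]
    exact hn _ (algebraMap_mem_map_pow I n ha)
  · rintro ⟨n, hn⟩
    exact ⟨n, smul_eq_zero_of_map_pow (R' := R') I n m hn⟩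

/-- Degree zero: `Γ_{IR'}(M') = Γ_I(M')`. -/
theorem exists_H0_equiv (M' : Type u) [AddCommGroup M'] [Module R' M'] [Module R M']
    [IsScalarTower R R' M'] :
    ∃ φ : ((localCohomology (I.map (algebraMap R R')) 0).obj (ModuleCat.of R' M')) ≃+
        ((localCohomology I 0).obj (ModuleCat.of R M')),
      (∀ (r : R) (x : (localCohomology (I.map (algebraMap R R')) 0).obj (ModuleCat.of R' M')),
        φ (algebraMap R R' r • x) = r • φ x) ∧
      ∀ x, (ε I (ModuleCat.of R M')).hom (φ x) =
        (ε (I.map (algebraMap R R')) (ModuleCat.of R' M')).hom x := by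
  let e' : ((localCohomology (I.map (algebraMap R R')) 0).obj (ModuleCat.of R' M')) ≃ₗ[R']
      ↥(DRing.torsionSub (I.map (algebraMap R R')) M') :=
    (LinearEquiv.ofInjective (ε (I.map (algebraMap R R')) (ModuleCat.of R' M')).hom
      (ε_injective _ _)).trans (LinearEquiv.ofEq _ _ (range_ε _ _))
  let e : ((localCohomology I 0).obj (ModuleCat.of R M')) ≃ₗ[R] ↥(DRing.torsionSub I M') :=
    (LinearEquiv.ofInjective (ε I (ModuleCat.of R M')).hom
      (ε_injective _ _)).trans (LinearEquiv.ofEq _ _ (range_ε _ _))
  let c : ↥(DRing.torsionSub (I.map (algebraMap R R')) M') ≃+ ↥(DRing.torsionSub I M') :=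
    { toFun := fun x => ⟨x.1, (mem_torsionSub_map_iff I M' x.1).mp x.2⟩
      invFun := fun y => ⟨y.1, (mem_torsionSub_map_iff I M' y.1).mpr y.2⟩
      left_inv := fun x => rfl
      right_inv := fun y => rfl
      map_add' := fun x y => rfl }
  have he' : ∀ x, ((e' x : ↥(DRing.torsionSub (I.map (algebraMap R R')) M')) : M') =
      (ε (I.map (algebraMap R R')) (ModuleCat.of R' M')).hom x := fun x => rfl
  have he : ∀ y, ((e y : ↥(DRing.torsionSub I M')) : M') =
      (ε I (ModuleCat.of R M')).hom y := fun y => rfl
  refine ⟨e'.toAddEquiv.trans (c.trans e.symm.toAddEquiv), ?_, ?_⟩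
  · intro r x
    change e.symm (c (e' (algebraMap R R' r • x))) = r • e.symm (c (e' x))
    rw [← e.symm.map_smul, e'.map_smul]
    congr 1
    apply Subtype.ext
    change algebraMap R R' r • ((e' x : ↥(DRing.torsionSub (I.map (algebraMap R R')) M')) : M') =
      r • ((e' x : ↥(DRing.torsionSub (I.map (algebraMap R R')) M')) : M')
    exact algebraMap_smul R' r _
  · intro x
    change (ε I (ModuleCat.of R M')).hom (e.symm (c (e' x))) = _
    rw [← he, LinearEquiv.apply_symm_apply, ← he']
    rfl

/-- Dimension shifting step. -/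
theorem step (i : ℕ) {M' E' Q' : Type u} [AddCommGroup M'] [Module R' M'] [Module R M']
    [IsScalarTower R R' M'] [AddCommGroup E'] [Module R' E'] [Module R E']
    [IsScalarTower R R' E'] [AddCommGroup Q'] [Module R' Q'] [Module R Q']
    [IsScalarTower R R' Q'] (f : M' →ₗ[R'] E') (g : E' →ₗ[R'] Q') (hex : Function.Exact f g)
    (hf : Function.Injective f) (hg : Function.Surjective g) [Module.Injective R' E']
    (φQ : ((localCohomology (I.map (algebraMap R R')) i).obj (ModuleCat.of R' Q')) ≃+
        ((localCohomology I i).obj (ModuleCat.of R Q')))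
    (hφ : ∀ (r : R) x, φQ (algebraMap R R' r • x) = r • φQ x)
    (hcompat : ∀ z, z ∈ Set.range ((localCohomology (I.map (algebraMap R R')) i).map
        (ModuleCat.ofHom g)).hom ↔
      φQ z ∈ Set.range ((localCohomology I i).map
        (ModuleCat.ofHom (g.restrictScalars R))).hom) :
    ∃ ψ : ((localCohomology (I.map (algebraMap R R')) (i + 1)).obj (ModuleCat.of R' M')) ≃+
        ((localCohomology I (i + 1)).obj (ModuleCat.of R M')),
      ∀ (r : R) x, ψ (algebraMap R R' r • x) = r • ψ x := by
  have hS' := scLin_shortExact f g hex hf hg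
  have hexR : Function.Exact (f.restrictScalars R) (g.restrictScalars R) := hex
  have hS := scLin_shortExact (f.restrictScalars R) (g.restrictScalars R) hexR hf hg
  haveI hEo : Injective (ModuleCat.of R' E') := Module.injective_object_of_injective_module R' _
  haveI h1' : Subsingleton ((localCohomology (I.map (algebraMap R R')) (i + 1)).obj
      (ModuleCat.of R' E')) := subsingleton_of_injective _ i _
  haveI h1 : Subsingleton ((localCohomology I (i + 1)).obj (ModuleCat.of R E')) :=
    subsingleton_of_injective_algebra (R' := R') I E' i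
  have hδ'surj : Function.Surjective
      (δ (I.map (algebraMap R R')) (scLin f g hex) hS' i).hom := by
    intro y
    have : ((localCohomology (I.map (algebraMap R R')) (i + 1)).map (scLin f g hex).f).hom y = 0 :=
      h1'.elim _ _
    exact (exact₁ _ _ hS' i y).mp this
  have hδsurj : Function.Surjective
      (δ I (scLin (f.restrictScalars R) (g.restrictScalars R) hexR) hS i).hom := by
    intro y
    have : ((localCohomology I (i + 1)).map
        (scLin (f.restrictScalars R) (g.restrictScalars R) hexR).f).hom y = 0 := h1.elim _ _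
    exact (exact₁ _ _ hS i y).mp this
  let fa : ((localCohomology (I.map (algebraMap R R')) i).obj (ModuleCat.of R' Q')) →+
      ((localCohomology (I.map (algebraMap R R')) (i + 1)).obj (ModuleCat.of R' M')) :=
    (δ (I.map (algebraMap R R')) (scLin f g hex) hS' i).hom.toAddMonoidHom
  let ga : ((localCohomology (I.map (algebraMap R R')) i).obj (ModuleCat.of R' Q')) →+
      ((localCohomology I (i + 1)).obj (ModuleCat.of R M')) :=
    (δ I (scLin (f.restrictScalars R) (g.restrictScalars R) hexR) hS
      i).hom.toAddMonoidHom.comp φQ.toAddMonoidHom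
  have hker : ∀ z, fa z = 0 ↔ ga z = 0 := by
    intro z
    change (δ (I.map (algebraMap R R')) (scLin f g hex) hS' i).hom z = 0 ↔
      (δ I (scLin (f.restrictScalars R) (g.restrictScalars R) hexR) hS i).hom (φQ z) = 0
    rw [exact₃ _ _ hS' i z, exact₃ _ _ hS i (φQ z)]
    exact hcompat z
  obtain ⟨ψ, hψ⟩ := exists_addEquiv_of_surjective fa ga hδ'surj
    (hδsurj.comp φQ.surjective) hker
  refine ⟨ψ, fun r y => ?_⟩
  have hfa : Function.Surjective fa := hδ'surj
  obtain ⟨z, rfl⟩ := hfa y
  have e1 : ψ (algebraMap R R' r • fa z) = ψ (fa (algebraMap R R' r • z)) :=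
    congrArg ψ ((δ (I.map (algebraMap R R')) (scLin f g hex) hS' i).hom.map_smul _ z).symm
  have e2 : ψ (fa (algebraMap R R' r • z)) = ga (algebraMap R R' r • z) := hψ _
  have e3 : ga (algebraMap R R' r • z) = r • ga z :=
    (congrArg (δ I _ hS i).hom (hφ r z)).trans ((δ I _ hS i).hom.map_smul r _)
  have e4 : r • ga z = r • ψ (fa z) := by rw [hψ]
  exact e1.trans (e2.trans (e3.trans e4))

/-- Independence of the base: `H^i_{IR'}(M') ≅ H^i_I(M')`. -/
theorem exists_equiv (i : ℕ) : ∀ (M' : Type u) [AddCommGroup M'] [Module R' M'] [Module R M']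
    [IsScalarTower R R' M'],
    ∃ φ : ((localCohomology (I.map (algebraMap R R')) i).obj (ModuleCat.of R' M')) ≃+
        ((localCohomology I i).obj (ModuleCat.of R M')),
      ∀ (r : R) (x : (localCohomology (I.map (algebraMap R R')) i).obj (ModuleCat.of R' M')),
        φ (algebraMap R R' r • x) = r • φ x := by
  induction i with
  | zero =>
    intro M' _ _ _ _
    obtain ⟨φ, h1, -⟩ := exists_H0_equiv (R' := R') I M'
    exact ⟨φ, h1⟩
  | succ j ih =>
    intro M' _ _ _ _
    obtain ⟨E', _, _, f, hf, hE'⟩ := exists_injective_embedding (R := R') M'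
    haveI := hE'
    letI : Module R E' := Module.compHom E' (algebraMap R R')
    haveI : IsScalarTower R R' E' := ⟨fun r r' x => by
      change (r • r') • x = (algebraMap R R' r) • (r' • x)
      rw [Algebra.smul_def, mul_smul]⟩
    have hex := LinearMap.exact_map_mkQ_range f
    have hg := Submodule.mkQ_surjective (LinearMap.range f)
    rcases j with _ | k
    · obtain ⟨φQ, hφQ, hεQ⟩ := exists_H0_equiv (R' := R') I (E' ⧸ LinearMap.range f)
      obtain ⟨φE, hφE, hεE⟩ := exists_H0_equiv (R' := R') I E'
      refine step I 0 f (LinearMap.range f).mkQ hex hf hg φQ hφQ ?_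
      have hnat : ∀ w, φQ (((localCohomology (I.map (algebraMap R R')) 0).map
          (ModuleCat.ofHom (LinearMap.range f).mkQ)).hom w) =
          ((localCohomology I 0).map
            (ModuleCat.ofHom ((LinearMap.range f).mkQ.restrictScalars R))).hom (φE w) := by
        intro w
        apply ε_injective I
        rw [hεQ, ε_naturality_apply, ε_naturality_apply, hεE]
        rfl
      intro z
      constructor
      · rintro ⟨w, rfl⟩
        exact ⟨φE w, (hnat w).symm⟩
      · rintro ⟨u, hu⟩
        obtain ⟨w, rfl⟩ := φE.surjective u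
        refine ⟨w, φQ.injective ?_⟩
        rw [hnat, hu]
    · obtain ⟨φQ, hφQ⟩ := ih (E' ⧸ LinearMap.range f)
      refine step I (k + 1) f (LinearMap.range f).mkQ hex hf hg φQ hφQ ?_
      haveI hEo : Injective (ModuleCat.of R' E') :=
        Module.injective_object_of_injective_module R' _
      haveI h1' : Subsingleton ((localCohomology (I.map (algebraMap R R')) (k + 1)).obj
          (ModuleCat.of R' E')) := subsingleton_of_injective _ k _
      haveI h1 : Subsingleton ((localCohomology I (k + 1)).obj (ModuleCat.of R E')) :=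
        subsingleton_of_injective_algebra (R' := R') I E' k
      intro z
      constructor
      · rintro ⟨w, rfl⟩
        refine ⟨0, ?_⟩
        rw [Subsingleton.elim w 0, map_zero, map_zero, map_zero]
      · rintro ⟨u, hu⟩
        refine ⟨0, ?_⟩
        rw [Subsingleton.elim u 0, map_zero] at hu
        rw [map_zero]
        exact (φQ.injective (hu.symm.trans (map_zero φQ).symm)).symm

end Groth.Agent.H13.LC
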