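import Groth.Agent.H13.LCDepth

/-!
# Maps with torsion kernel and cokernel induce isomorphisms on higher local cohomology
-/

set_option autoImplicit false
set_option linter.style.haveILetI false

open CategoryTheory Limits Opposite

namespace Groth.Agent.H13.LC

universe u

variable {R : Type u} [CommRing R] (I : Ideal R)

/-- Bijectivity of `H^i(g)` for a short exact sequence with `H^i` and `H^{i+1}` of the kernel
vanishing. -/
theorem map_bijective_of_exact_right (i : ℕ) {A B C : Type u} [AddCommGroup A] [Module R A]
    [AddCommGroup B] [Module R B] [AddCommGroup C] [Module R C] (f : A →ₗ[R] B) (g : B →ₗ[R] C)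
    (h : Function.Exact f g) (hf : Function.Injective f) (hg : Function.Surjective g)
    (h0 : Subsingleton ((localCohomology I i).obj (ModuleCat.of R A)))
    (h1 : Subsingleton ((localCohomology I (i + 1)).obj (ModuleCat.of R A))) :
    Function.Bijective ((localCohomology I i).map (ModuleCat.ofHom g)).hom := by
  have hS := scLin_shortExact f g h hf hg
  constructor
  · rw [injective_iff_map_eq_zero]
    intro x hx
    obtain ⟨y, rfl⟩ := (exact₂ I (scLin f g h) hS i x).mp hx
    rw [h0.elim y 0]
    exact map_zero _
  · intro y
    have : (δ I (scLin f g h) hS i).hom y = 0 := h1.elim _ _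
    exact (exact₃ I (scLin f g h) hS i y).mp this

/-- Bijectivity of `H^{i+1}(f)` for a short exact sequence with `H^i` and `H^{i+1}` of the
cokernel vanishing. -/
theorem map_bijective_of_exact_left (i : ℕ) {A B C : Type u} [AddCommGroup A] [Module R A]
    [AddCommGroup B] [Module R B] [AddCommGroup C] [Module R C] (f : A →ₗ[R] B) (g : B →ₗ[R] C)
    (h : Function.Exact f g) (hf : Function.Injective f) (hg : Function.Surjective g)
    (h0 : Subsingleton ((localCohomology I i).obj (ModuleCat.of R C)))
    (h1 : Subsingleton ((localCohomology I (i + 1)).obj (ModuleCat.of R C))) :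
    Function.Bijective ((localCohomology I (i + 1)).map (ModuleCat.ofHom f)).hom := by
  have hS := scLin_shortExact f g h hf hg
  constructor
  · rw [injective_iff_map_eq_zero]
    intro x hx
    obtain ⟨y, rfl⟩ := (exact₁ I (scLin f g h) hS i x).mp hx
    rw [h0.elim y 0]
    exact map_zero _
  · intro y
    have : ((localCohomology I (i + 1)).map (scLin f g h).g).hom y = 0 := h1.elim _ _
    exact (exact₂ I (scLin f g h) hS (i + 1) y).mp this

variable [IsNoetherianRing R]

/-- A map with `I`-power-torsion kernel and cokernel induces bijections on `H^i_I` for `i ≥ 2`. -/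
theorem map_bijective_of_torsion {M M' : Type u} [AddCommGroup M] [Module R M] [AddCommGroup M']
    [Module R M'] (e : M →ₗ[R] M')
    (hker : ∀ m, e m = 0 → ∃ k : ℕ, ∀ a ∈ I ^ k, a • m = 0)
    (hcoker : ∀ m' : M', ∃ k : ℕ, ∀ a ∈ I ^ k, a • m' ∈ LinearMap.range e)
    (i : ℕ) (hi : 1 < i) :
    Function.Bijective ((localCohomology I i).map (ModuleCat.ofHom e)).hom := by
  obtain ⟨j, rfl⟩ : ∃ j, i = j + 1 + 1 := ⟨i - 2, by omega⟩
  have hK : LocCoh.IsPowerTorsion I (LinearMap.ker e) := by
    rintro ⟨m, hm⟩
    obtain ⟨k, hk⟩ := hker m hm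
    exact ⟨k, fun a ha => Subtype.ext (hk a ha)⟩
  have hC : LocCoh.IsPowerTorsion I (M' ⧸ LinearMap.range e) := by
    intro c
    obtain ⟨m', rfl⟩ := Submodule.mkQ_surjective _ c
    obtain ⟨k, hk⟩ := hcoker m'
    refine ⟨k, fun a ha => ?_⟩
    rw [← _root_.map_smul, Submodule.mkQ_apply, Submodule.Quotient.mk_eq_zero]
    exact hk a ha
  have h1 : Function.Bijective ((localCohomology I (j + 1 + 1)).map
      (ModuleCat.ofHom e.rangeRestrict)).hom := by
    have hex : Function.Exact (LinearMap.ker e).subtype e.rangeRestrict := by
      intro m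
      rw [← LinearMap.exact_subtype_ker_map e m]
      constructor
      · intro h
        exact congrArg Subtype.val h
      · intro h
        exact Subtype.ext h
    exact map_bijective_of_exact_right I (j + 1 + 1) _ _ hex (Submodule.injective_subtype _)
      e.surjective_rangeRestrict (subsingleton_of_isPowerTorsion I (j + 1) _ hK)
      (subsingleton_of_isPowerTorsion I (j + 1 + 1) _ hK)
  have h2 : Function.Bijective ((localCohomology I (j + 1 + 1)).map
      (ModuleCat.ofHom (LinearMap.range e).subtype)).hom :=
    map_bijective_of_exact_left I (j + 1) _ _ (LinearMap.exact_subtype_mkQ _)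
      (Submodule.injective_subtype _) (Submodule.mkQ_surjective _)
      (subsingleton_of_isPowerTorsion I j _ hC) (subsingleton_of_isPowerTorsion I (j + 1) _ hC)
  have hcomp : ModuleCat.ofHom e =
      ModuleCat.ofHom e.rangeRestrict ≫ ModuleCat.ofHom (LinearMap.range e).subtype := rfl
  have hmap : (localCohomology I (j + 1 + 1)).map (ModuleCat.ofHom e) =
      (localCohomology I (j + 1 + 1)).map (ModuleCat.ofHom e.rangeRestrict) ≫
        (localCohomology I (j + 1 + 1)).map (ModuleCat.ofHom (LinearMap.range e).subtype) :=
    (congrArg (localCohomology I (j + 1 + 1)).map hcomp).trans (Functor.map_comp _ _ _)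
  rw [hmap]
  exact h2.comp h1

end Groth.Agent.H13.LC
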