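import Mathlib

/-!
# A secondary-representation-type lemma for Artinian modules

For an Artinian module `A` and a finitely generated ideal `I` there is a finite set `S` of primes,
none containing `I`, such that for `r` avoiding `S` some power of `I` maps `A` into `r A`.
(This is what the theory of attached primes gives; we prove it directly by Artinian induction.)
-/

set_option autoImplicit false

namespace Groth.Agent.H13.LC

universe u v

variable {R : Type u} [CommRing R]

section

variable {A : Type v} [AddCommGroup A] [Module R A]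

/-- If `x B = B` and `x^i t` kills `B` then `t` kills `B`. -/
lemma mem_annihilator_of_pow_mul (B : Submodule R A) (x : R)
    (hx : B.map (LinearMap.lsmul R A x) = B) (i : ℕ) (t : R)
    (h : x ^ i * t ∈ Module.annihilator R B) : t ∈ Module.annihilator R B := by
  induction i generalizing t with
  | zero => simpa using h
  | succ i ih =>
    apply ih
    rw [Module.mem_annihilator]
    rintro ⟨b, hb⟩
    have hb' : b ∈ B.map (LinearMap.lsmul R A x) := by rw [hx]; exact hb
    obtain ⟨b', hb'B, rfl⟩ := hb'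
    have := Module.mem_annihilator.mp h ⟨b', hb'B⟩
    apply Subtype.ext
    have h2 : (x ^ (i + 1) * t) • b' = 0 := congrArg Subtype.val this
    change (x ^ i * t) • (x • b') = 0
    rw [← h2, smul_smul]
    congr 1
    ring

variable [IsArtinian R A]

/-- Fitting-type dichotomy for a sum-irreducible submodule of an Artinian module. -/
lemma dichotomy (B : Submodule R A)
    (hirr : ∀ B1 B2 : Submodule R A, B1 < B → B2 < B → B1 ⊔ B2 ≠ B) (r : R) :
    B.map (LinearMap.lsmul R A r) = B ∨ r ∈ (Module.annihilator R B).radical := by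
  -- the descending chain `r^j B`
  let N : ℕ → Submodule R A := fun j => B.map (LinearMap.lsmul R A (r ^ j))
  have hNle : ∀ j, N j ≤ B := by
    rintro j _ ⟨b, hb, rfl⟩
    exact B.smul_mem _ hb
  have hNanti : ∀ j, N (j + 1) ≤ N j := by
    rintro j _ ⟨b, hb, rfl⟩
    refine ⟨r • b, B.smul_mem _ hb, ?_⟩
    change r ^ j • (r • b) = r ^ (j + 1) • b
    rw [smul_smul, pow_succ]
  let f : ℕ →o (Submodule R A)ᵒᵈ :=
    ⟨fun j => OrderDual.toDual (N j), monotone_nat_of_le_succ (fun j => hNanti j)⟩
  obtain ⟨n, hn⟩ := IsArtinian.monotone_stabilizes f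
  have hn' : ∀ m, n ≤ m → N n = N m := fun m hm => congrArg OrderDual.ofDual (hn m hm)
  set j := n + 1 with hj
  have hjj : N j = N (j + j) := (hn' j (by omega)).symm.trans (hn' (j + j) (by omega))
  have hN1 : N j ≤ B.map (LinearMap.lsmul R A r) := by
    rintro _ ⟨b, hb, rfl⟩
    refine ⟨r ^ n • b, B.smul_mem _ hb, ?_⟩
    change r • (r ^ n • b) = r ^ (n + 1) • b
    rw [smul_smul, pow_succ']
  have hcover : B ≤ N j ⊔ (B ⊓ LinearMap.ker (LinearMap.lsmul R A (r ^ j))) := by
    intro y hy
    have h1 : r ^ j • y ∈ N (j + j) := by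
      rw [← hjj]
      exact ⟨y, hy, rfl⟩
    obtain ⟨y', hy', hy'eq⟩ := h1
    have hy'eq' : r ^ (j + j) • y' = r ^ j • y := hy'eq
    have hdecomp : y = r ^ j • y' + (y - r ^ j • y') := by abel
    rw [hdecomp]
    refine Submodule.add_mem_sup ⟨y', hy', rfl⟩ ⟨B.sub_mem hy (B.smul_mem _ hy'), ?_⟩
    change _ ∈ LinearMap.ker (LinearMap.lsmul R A (r ^ j))
    rw [LinearMap.mem_ker]
    change r ^ j • (y - r ^ j • y') = 0
    rw [smul_sub, smul_smul, ← pow_add, hy'eq', sub_self]
  have heq : N j ⊔ (B ⊓ LinearMap.ker (LinearMap.lsmul R A (r ^ j))) = B :=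
    le_antisymm (sup_le (hNle j) inf_le_left) hcover
  by_cases h1 : N j = B
  · left
    refine le_antisymm ?_ (h1 ▸ hN1)
    rintro _ ⟨b, hb, rfl⟩
    exact B.smul_mem _ hb
  · right
    by_cases h2 : B ⊓ LinearMap.ker (LinearMap.lsmul R A (r ^ j)) = B
    · refine ⟨j, ?_⟩
      rw [Module.mem_annihilator]
      rintro ⟨b, hb⟩
      have : b ∈ B ⊓ LinearMap.ker (LinearMap.lsmul R A (r ^ j)) := by rw [h2]; exact hb
      apply Subtype.ext
      exact LinearMap.mem_ker.mp this.2
    · exact absurd heq (hirr _ _ (lt_of_le_of_ne (hNle j) h1) (lt_of_le_of_ne inf_le_left h2))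

/-- The radical of the annihilator of a nonzero sum-irreducible submodule of an Artinian module is
prime. -/
lemma isPrime_radical_annihilator (B : Submodule R A)
    (hirr : ∀ B1 B2 : Submodule R A, B1 < B → B2 < B → B1 ⊔ B2 ≠ B) (hB : B ≠ ⊥) :
    (Module.annihilator R B).radical.IsPrime := by
  refine ⟨?_, ?_⟩
  · intro htop
    rw [Ideal.radical_eq_top, Ideal.eq_top_iff_one, Module.mem_annihilator] at htop
    apply hB
    rw [eq_bot_iff]
    intro b hb
    have := htop ⟨b, hb⟩
    rw [one_smul] at this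
    exact congrArg Subtype.val this
  · intro x y hxy
    rcases dichotomy B hirr x with hx | hx
    · right
      obtain ⟨j, hj⟩ := hxy
      refine ⟨j, mem_annihilator_of_pow_mul B x hx j (y ^ j) ?_⟩
      rwa [← mul_pow]
    · exact Or.inl hx

/-- Main lemma, for submodules. -/
theorem exists_finset_primes_submodule (I : Ideal R) (hI : I.FG) (B : Submodule R A) :
    ∃ S : Finset (Ideal R), (∀ P ∈ S, P.IsPrime ∧ ¬ I ≤ P) ∧
      ∀ r : R, (∀ P ∈ S, r ∉ P) → ∃ k : ℕ, I ^ k • B ≤ B.map (LinearMap.lsmul R A r) := by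
  classical
  refine IsArtinian.induction (P := fun B : Submodule R A =>
    ∃ S : Finset (Ideal R), (∀ P ∈ S, P.IsPrime ∧ ¬ I ≤ P) ∧
      ∀ r : R, (∀ P ∈ S, r ∉ P) → ∃ k : ℕ, I ^ k • B ≤ B.map (LinearMap.lsmul R A r))
    (fun B ih => ?_) B
  by_cases hred : ∃ B1 B2 : Submodule R A, B1 < B ∧ B2 < B ∧ B1 ⊔ B2 = B
  · obtain ⟨B1, B2, h1, h2, hsum⟩ := hred
    obtain ⟨S1, hS1, hr1⟩ := ih B1 h1
    obtain ⟨S2, hS2, hr2⟩ := ih B2 h2
    refine ⟨S1 ∪ S2, ?_, ?_⟩
    · intro P hP
      rcases Finset.mem_union.mp hP with h | h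
      exacts [hS1 P h, hS2 P h]
    · intro r hr
      obtain ⟨k1, hk1⟩ := hr1 r (fun P hP => hr P (Finset.mem_union_left _ hP))
      obtain ⟨k2, hk2⟩ := hr2 r (fun P hP => hr P (Finset.mem_union_right _ hP))
      refine ⟨max k1 k2, ?_⟩
      rw [← hsum, Submodule.smul_sup, Submodule.map_sup]
      apply sup_le_sup
      · exact (Submodule.smul_mono_left (Ideal.pow_le_pow_right (le_max_left _ _))).trans hk1
      · exact (Submodule.smul_mono_left (Ideal.pow_le_pow_right (le_max_right _ _))).trans hk2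
  · have hirr : ∀ B1 B2 : Submodule R A, B1 < B → B2 < B → B1 ⊔ B2 ≠ B :=
      fun B1 B2 h1 h2 h => hred ⟨B1, B2, h1, h2, h⟩
    by_cases hB : B = ⊥
    · refine ⟨∅, by simp, fun r _ => ⟨0, ?_⟩⟩
      rw [hB, Submodule.smul_bot]
      exact bot_le
    have hprime := isPrime_radical_annihilator B hirr hB
    by_cases hIP : I ≤ (Module.annihilator R B).radical
    · obtain ⟨k, hk⟩ := Ideal.exists_pow_le_of_le_radical_of_fg hIP hI
      refine ⟨∅, by simp, fun r _ => ⟨k, ?_⟩⟩
      rw [Submodule.smul_le]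
      intro a ha b hb
      have := Module.mem_annihilator.mp (hk ha) ⟨b, hb⟩
      have h0 : a • b = 0 := congrArg Subtype.val this
      rw [h0]
      exact Submodule.zero_mem _
    · refine ⟨{(Module.annihilator R B).radical}, ?_, ?_⟩
      · intro P hP
        rw [Finset.mem_singleton] at hP
        subst hP
        exact ⟨hprime, hIP⟩
      · intro r hr
        have hr' : r ∉ (Module.annihilator R B).radical := hr _ (Finset.mem_singleton_self _)
        rcases dichotomy B hirr r with h | h
        · refine ⟨0, ?_⟩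
          rw [pow_zero, Ideal.one_eq_top, Submodule.top_smul, h]
        · exact absurd h hr'

/-- Main lemma: for an Artinian module `A` and a f.g. ideal `I`, there is a finite set `S` of
primes not containing `I` such that for every `r` outside all of them a power of `I` maps `A`
into `r A`. -/
theorem exists_finset_primes (I : Ideal R) (hI : I.FG) :
    ∃ S : Finset (Ideal R), (∀ P ∈ S, P.IsPrime ∧ ¬ I ≤ P) ∧
      ∀ r : R, (∀ P ∈ S, r ∉ P) → ∃ k : ℕ, ∀ b ∈ I ^ k, ∀ y : A, ∃ y' : A, b • y = r • y' := by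
  obtain ⟨S, hS, h⟩ := exists_finset_primes_submodule (A := A) I hI ⊤
  refine ⟨S, hS, fun r hr => ?_⟩
  obtain ⟨k, hk⟩ := h r hr
  refine ⟨k, fun b hb y => ?_⟩
  have : b • y ∈ I ^ k • (⊤ : Submodule R A) := Submodule.smul_mem_smul hb Submodule.mem_top
  obtain ⟨y', -, hy'⟩ := hk this
  exact ⟨y', hy'.symm⟩

end

/-- Simultaneous prime avoidance: a regular element of `J` avoiding a finite set of primes. -/
theorem exists_isSMulRegular_avoiding [IsNoetherianRing R] (M : Type v) [AddCommGroup M]
    [Module R M] [Module.Finite R M] (J : Ideal R) (S : Finset (Ideal R))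
    (hS : ∀ P ∈ S, P.IsPrime ∧ ¬ J ≤ P) (h : ∀ q ∈ associatedPrimes R M, ¬ J ≤ q) :
    ∃ x ∈ J, IsSMulRegular M x ∧ ∀ P ∈ S, x ∉ P := by
  classical
  by_contra hcon
  have hcon' : ∀ x ∈ J, IsSMulRegular M x → ∃ P ∈ S, x ∈ P := by
    intro x hx hr
    by_contra h'
    exact hcon ⟨x, hx, hr, fun P hP hxP => h' ⟨P, hP, hxP⟩⟩
  have hsub : ((J : Ideal R) : Set R) ⊆
      ⋃ p ∈ (((associatedPrimes.finite R M).toFinset ∪ S : Finset (Ideal R)) : Set (Ideal R)),
        (p : Set R) := by
    intro x hx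
    by_cases hr : IsSMulRegular M x
    · obtain ⟨P, hP, hxP⟩ := hcon' x hx hr
      simp only [Set.mem_iUnion]
      exact ⟨P, by simp [hP], hxP⟩
    · have hx' : x ∈ {r : R | IsSMulRegular M r}ᶜ := hr
      rw [← biUnion_associatedPrimes_eq_compl_regular] at hx'
      simp only [Set.mem_iUnion] at hx' ⊢
      obtain ⟨p, hp, hxp⟩ := hx'
      exact ⟨p, by simp [hp], hxp⟩
  rw [Ideal.subset_union_prime (R := R) (f := fun p : Ideal R => p) ⊥ ⊥] at hsub
  · obtain ⟨p, hp, hle⟩ := hsub
    rw [Finset.mem_union] at hp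
    rcases hp with hp | hp
    · exact h p (by simpa using hp) hle
    · exact (hS p hp).2 hle
  · intro p hp _ _
    rw [Finset.mem_union] at hp
    rcases hp with hp | hp
    · have hp' : p ∈ associatedPrimes R M := by simpa using hp
      exact hp'.isPrime
    · exact (hS p hp).1

end Groth.Agent.H13.LC
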