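import Groth.Agent.H13.LCArt
import Groth.Agent.H13.ArtSec

/-!
# Grothendieck's non-vanishing theorem (elementary proof after Macdonald–Sharp)
-/

set_option autoImplicit false
set_option linter.style.haveILetI false

open CategoryTheory Limits Opposite Pointwise

namespace Groth.Agent.H13.LC

universe u

variable {R : Type u} [CommRing R]

lemma wb_succ_eq (x : WithBot ℕ∞) (n : ℕ) (h : x + 1 = ((n + 1 : ℕ) : WithBot ℕ∞)) :
    x = ((n : ℕ) : WithBot ℕ∞) := by
  have hle : x + 1 ≤ ((n + 1 : ℕ) : WithBot ℕ∞) := h.le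
  induction x using WithBot.recBotCoe with
  | bot =>
    exfalso
    rw [WithBot.bot_add] at h
    exact (WithBot.natCast_ne_bot (n + 1)) h.symm
  | coe y =>
    have h1 : y + 1 = ((n + 1 : ℕ) : ℕ∞) := by exact_mod_cast h
    have hy : y ≠ ⊤ := by
      rintro rfl
      have h5 : ((n + 1 : ℕ) : ℕ∞) ≠ ⊤ := ENat.natCast_ne_top _
      rw [← h1] at h5
      simp at h5
    lift y to ℕ using hy
    have h2 : y + 1 = n + 1 := by exact_mod_cast h1
    have h3 : y = n := by omega
    subst h3
    rfl

/-- An associated prime of a module without `I`-torsion does not contain `I`. -/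
lemma not_le_of_mem_associatedPrimes [IsNoetherianRing R] (I : Ideal R) (M : Type u) [AddCommGroup M] [Module R M]
    (htors : DRing.torsionSub I M = ⊥) (q : Ideal R) (hq : q ∈ associatedPrimes R M) :
    ¬ I ≤ q := by
  intro hIq
  obtain ⟨hqp, m, hm⟩ := isAssociatedPrime_iff.mp hq
  have hm0 : m ≠ 0 := by
    rintro rfl
    have : (1 : R) ∈ q := by rw [hm]; simp
    exact hqp.ne_top ((Ideal.eq_top_iff_one q).mpr this)
  have hmt : m ∈ DRing.torsionSub I M := by
    refine ⟨1, fun a ha => ?_⟩
    rw [pow_one] at ha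
    have : a ∈ q := hIq ha
    rw [hm, Submodule.mem_colon_singleton] at this
    simpa using this
  rw [htors, Submodule.mem_bot] at hmt
  exact hm0 hmt

variable [IsNoetherianRing R] [IsLocalRing R]

omit [IsNoetherianRing R] in
/-- The support of a finite module killed elementwise by powers of the maximal ideal is contained
in the closed point. -/
lemma support_subset_of_powerTorsion (N : Type u) [AddCommGroup N] [Module R N]
    [Module.Finite R N] (h : LocCoh.IsPowerTorsion (IsLocalRing.maximalIdeal R) N) :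
    Module.support R N ⊆ {IsLocalRing.closedPoint R} := by
  obtain ⟨k, hk⟩ := exists_pow_kills_of_finite (IsLocalRing.maximalIdeal R) N h
  intro p hp
  rw [Module.mem_support_iff_of_finite] at hp
  have h1 : IsLocalRing.maximalIdeal R ^ k ≤ p.asIdeal :=
    fun a ha => hp (Module.mem_annihilator.mpr (fun x => hk a ha x))
  have h2 : IsLocalRing.maximalIdeal R ≤ p.asIdeal := p.2.le_of_pow_le h1
  have h3 : p.asIdeal = IsLocalRing.maximalIdeal R :=
    le_antisymm (IsLocalRing.le_maximalIdeal p.2.ne_top) h2
  rw [Set.mem_singleton_iff]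
  exact PrimeSpectrum.ext h3

/-- A finite module of dimension `≤ 0` is power-torsion for the maximal ideal. -/
lemma isPowerTorsion_of_supportDim_le_zero (M : Type u) [AddCommGroup M] [Module R M]
    [Module.Finite R M] (h : Module.supportDim R M ≤ 0) :
    LocCoh.IsPowerTorsion (IsLocalRing.maximalIdeal R) M := by
  by_cases hbot : Module.supportDim R M = ⊥
  · haveI := (Module.supportDim_eq_bot_iff_subsingleton R M).mp hbot
    intro m
    exact ⟨0, fun a _ => Subsingleton.elim _ _⟩
  have h0 := withBot_eq_zero_of_le _ h hbot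
  have hsupp := support_of_supportDim_eq_zero R M h0
  rw [Module.support_eq_zeroLocus] at hsupp
  have hrad : IsLocalRing.maximalIdeal R ≤ (Module.annihilator R M).radical := by
    rw [← PrimeSpectrum.vanishingIdeal_zeroLocus_eq_radical, hsupp,
      PrimeSpectrum.vanishingIdeal_zeroLocus_eq_radical]
    exact Ideal.le_radical
  obtain ⟨k, hk⟩ := Ideal.exists_pow_le_of_le_radical_of_fg hrad (IsNoetherian.noetherian _)
  intro m
  exact ⟨k, fun a ha => Module.mem_annihilator.mp (hk ha) m⟩

/-- Passing to `M / Γ_m(M)` does not change a positive dimension. -/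
lemma supportDim_quotient_torsionSub (M : Type u) [AddCommGroup M] [Module R M]
    [Module.Finite R M] (n : ℕ) (hdim : Module.supportDim R M = ((n + 1 : ℕ) : WithBot ℕ∞)) :
    Module.supportDim R (M ⧸ DRing.torsionSub (IsLocalRing.maximalIdeal R) M) =
      ((n + 1 : ℕ) : WithBot ℕ∞) := by
  haveI : IsNoetherian R M := isNoetherian_of_isNoetherianRing_of_finite R M
  have hΓ : Module.support R (DRing.torsionSub (IsLocalRing.maximalIdeal R) M) ⊆
      {IsLocalRing.closedPoint R} :=
    support_subset_of_powerTorsion _ (isPowerTorsion_torsionSub (IsLocalRing.maximalIdeal R) M)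
  have hex := Module.support_of_exact
    (f := (DRing.torsionSub (IsLocalRing.maximalIdeal R) M).subtype)
    (g := (DRing.torsionSub (IsLocalRing.maximalIdeal R) M).mkQ)
    (LinearMap.exact_subtype_mkQ _) (Submodule.injective_subtype _) (Submodule.mkQ_surjective _)
  have hne : (Module.support R (M ⧸ DRing.torsionSub (IsLocalRing.maximalIdeal R) M)).Nonempty := by
    by_contra hemp
    rw [Set.not_nonempty_iff_eq_empty] at hemp
    rw [hemp, Set.union_empty] at hex
    have h0 : Module.supportDim R M ≤ 0 := by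
      unfold Module.supportDim
      rw [hex]
      haveI : Subsingleton (Module.support R (DRing.torsionSub (IsLocalRing.maximalIdeal R) M)) :=
        (Set.subsingleton_of_subset_singleton hΓ).coe_sort
      exact Order.krullDim_nonpos_of_subsingleton
    rw [hdim] at h0
    have : n + 1 ≤ 0 := by exact_mod_cast h0
    omega
  obtain ⟨q, hq⟩ := hne
  have hcp : IsLocalRing.closedPoint R ∈
      Module.support R (M ⧸ DRing.torsionSub (IsLocalRing.maximalIdeal R) M) :=
    Module.mem_support_mono (p := q) (IsLocalRing.le_maximalIdeal q.2.ne_top) hq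
  have hsupp : Module.support R M =
      Module.support R (M ⧸ DRing.torsionSub (IsLocalRing.maximalIdeal R) M) := by
    rw [hex]
    apply Set.union_eq_self_of_subset_left
    intro p hp
    rw [hΓ hp]
    exact hcp
  unfold Module.supportDim
  rw [← hsupp]
  exact hdim

/-- Reduction to the torsion-free case. -/
lemma not_kills_reduce (n : ℕ)
    (H : ∀ (M : Type u) [AddCommGroup M] [Module R M], Module.Finite R M →
      DRing.torsionSub (IsLocalRing.maximalIdeal R) M = ⊥ →
      Module.supportDim R M = ((n + 1 : ℕ) : WithBot ℕ∞) →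
      ¬ ∃ k : ℕ, ∀ a ∈ IsLocalRing.maximalIdeal R ^ k,
        ∀ z : (localCohomology (IsLocalRing.maximalIdeal R) (n + 1)).obj (ModuleCat.of R M),
          a • z = 0) :
    ∀ (M : Type u) [AddCommGroup M] [Module R M], Module.Finite R M →
      Module.supportDim R M = ((n + 1 : ℕ) : WithBot ℕ∞) →
      ¬ ∃ k : ℕ, ∀ a ∈ IsLocalRing.maximalIdeal R ^ k,
        ∀ z : (localCohomology (IsLocalRing.maximalIdeal R) (n + 1)).obj (ModuleCat.of R M),
          a • z = 0 := by
  intro M _ _ hfin hdim ⟨k, hk⟩
  have htors' := torsionSub_quotient_eq_bot (IsLocalRing.maximalIdeal R) M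
  have hbij := map_mkQ_bijective (IsLocalRing.maximalIdeal R) M (n + 1) (Nat.succ_pos n)
  refine H (M ⧸ DRing.torsionSub (IsLocalRing.maximalIdeal R) M) inferInstance htors'
    (supportDim_quotient_torsionSub M n hdim) ⟨k, fun a ha z => ?_⟩
  obtain ⟨z0, rfl⟩ := hbij.2 z
  rw [← _root_.map_smul, hk a ha z0, map_zero]

/-- Base case: dimension one. -/
lemma not_kills_one (M : Type u) [AddCommGroup M] [Module R M] (hfin : Module.Finite R M)
    (htors : DRing.torsionSub (IsLocalRing.maximalIdeal R) M = ⊥)
    (hdim : Module.supportDim R M = ((0 + 1 : ℕ) : WithBot ℕ∞)) :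
    ¬ ∃ k : ℕ, ∀ a ∈ IsLocalRing.maximalIdeal R ^ k,
      ∀ z : (localCohomology (IsLocalRing.maximalIdeal R) (0 + 1)).obj (ModuleCat.of R M),
        a • z = 0 := by
  rintro ⟨k, hk⟩
  obtain ⟨x, hxI, hreg⟩ := exists_isSMulRegular_of_torsionSub_eq_bot (IsLocalRing.maximalIdeal R)
    M htors
  set s : R := x ^ (k + 1) with hs
  have hsk : s ∈ IsLocalRing.maximalIdeal R ^ k :=
    Ideal.pow_le_pow_right (Nat.le_succ k) (Ideal.pow_mem_pow hxI (k + 1))
  have hsm : s ∈ IsLocalRing.maximalIdeal R :=
    Ideal.pow_le_self (Nat.succ_ne_zero k) (Ideal.pow_mem_pow hxI (k + 1))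
  have hsreg : IsSMulRegular M s := hreg.pow (k + 1)
  have htreg : IsSMulRegular M (s * s) := hsreg.mul hsreg
  have htm : s * s ∈ IsLocalRing.maximalIdeal R := Ideal.mul_mem_left _ _ hsm
  have hinj : Function.Injective ((s * s) • (LinearMap.id : M →ₗ[R] M)) :=
    fun a b hab => htreg hab
  have hS := scLin_shortExact _ _ (exact_smul_mkQ (M := M) (s * s)) hinj
    (Submodule.mkQ_surjective _)
  -- the quotient has dimension zero, hence is power torsion
  have hdim2 : Module.supportDim R (QuotSMulTop (s * s) M) = ((0 : ℕ) : WithBot ℕ∞) :=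
    wb_succ_eq _ 0 ((Module.supportDim_quotSMulTop_succ_eq_supportDim htreg htm).trans hdim)
  have hpt : LocCoh.IsPowerTorsion (IsLocalRing.maximalIdeal R) (QuotSMulTop (s * s) M) :=
    isPowerTorsion_of_supportDim_le_zero _ (by rw [hdim2]; rfl)
  haveI hH0 := subsingleton_H0 (IsLocalRing.maximalIdeal R) (ModuleCat.of R M) htors
  -- `δ` is injective
  have hδinj : ∀ z : (localCohomology (IsLocalRing.maximalIdeal R) 0).obj
      (scLin _ _ (exact_smul_mkQ (M := M) (s * s))).X₃,
      (δ (IsLocalRing.maximalIdeal R) _ hS 0).hom z = 0 → z = 0 := by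
    intro z hz
    obtain ⟨y, rfl⟩ := (exact₃ (IsLocalRing.maximalIdeal R) _ hS 0 z).mp hz
    have : y = 0 := hH0.elim _ _
    rw [this, map_zero]
  -- `s` kills `M / s^2 M`
  have hkill : ∀ w : QuotSMulTop (s * s) M, s • w = 0 := by
    intro w
    obtain ⟨z, rfl⟩ := (H0equiv (IsLocalRing.maximalIdeal R)
      (ModuleCat.of R (QuotSMulTop (s * s) M)) hpt).surjective w
    have hz : s • z = 0 := by
      apply hδinj
      exact ((δ (IsLocalRing.maximalIdeal R) _ hS 0).hom.map_smul s z).trans (hk s hsk _)
    rw [← _root_.map_smul, hz, map_zero]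
  -- hence `M = s M`
  have htop : s • (⊤ : Submodule R M) = ⊤ := by
    rw [eq_top_iff]
    intro y _
    have h1 := hkill (Submodule.Quotient.mk y)
    rw [← Submodule.Quotient.mk_smul, Submodule.Quotient.mk_eq_zero,
      Submodule.mem_smul_pointwise_iff_exists] at h1
    obtain ⟨y', -, hy'⟩ := h1
    have h2 : s • (s • y') = s • y := by rw [smul_smul]; exact hy'
    have h3 : s • y' = y := hsreg h2
    rw [← h3]
    exact Submodule.smul_mem_pointwise_smul y' s ⊤ Submodule.mem_top
  haveI : Subsingleton (QuotSMulTop s M) := Submodule.Quotient.subsingleton_iff.mpr htop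
  have h4 := Module.supportDim_quotSMulTop_succ_eq_supportDim hsreg hsm
  rw [Module.supportDim_eq_bot_of_subsingleton, WithBot.bot_add, hdim] at h4
  exact (WithBot.natCast_ne_bot (0 + 1)) h4.symm

/-- Non-vanishing: `H^{n+1}_m(M)` is not killed by a power of `m` when `dim M = n + 1`. -/
theorem not_kills (n : ℕ) : ∀ (M : Type u) [AddCommGroup M] [Module R M], Module.Finite R M →
    Module.supportDim R M = ((n + 1 : ℕ) : WithBot ℕ∞) →
    ¬ ∃ k : ℕ, ∀ a ∈ IsLocalRing.maximalIdeal R ^ k,
      ∀ z : (localCohomology (IsLocalRing.maximalIdeal R) (n + 1)).obj (ModuleCat.of R M),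
        a • z = 0 := by
  induction n with
  | zero =>
    exact not_kills_reduce 0 (fun M _ _ hfin htors hdim => not_kills_one M hfin htors hdim)
  | succ n ih =>
    apply not_kills_reduce (n + 1)
    intro M _ _ hfin htors hdim
    rintro ⟨k, hk⟩
    haveI hArt := isArtinian_max (R := R) (n + 1) M hfin
    obtain ⟨S, hS, hr⟩ := exists_finset_primes
      (A := (localCohomology (IsLocalRing.maximalIdeal R) (n + 1)).obj (ModuleCat.of R M))
      (IsLocalRing.maximalIdeal R) (IsNoetherian.noetherian _)
    obtain ⟨r, hrJ, hreg, havoid⟩ := exists_isSMulRegular_avoiding M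
      (IsLocalRing.maximalIdeal R ^ (k + 1)) S
      (fun P hP => ⟨(hS P hP).1, fun hle => (hS P hP).2 ((hS P hP).1.le_of_pow_le hle)⟩)
      (fun q hq hle => not_le_of_mem_associatedPrimes _ M htors q hq
        (hq.isPrime.le_of_pow_le hle))
    obtain ⟨k', hk'⟩ := hr r havoid
    have hrm : r ∈ IsLocalRing.maximalIdeal R := Ideal.pow_le_self (Nat.succ_ne_zero k) hrJ
    have hinj : Function.Injective (r • (LinearMap.id : M →ₗ[R] M)) := fun a b hab => hreg hab
    have hSE := scLin_shortExact _ _ (exact_smul_mkQ (M := M) r) hinj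
      (Submodule.mkQ_surjective _)
    have hdim2 : Module.supportDim R (QuotSMulTop r M) = ((n + 1 : ℕ) : WithBot ℕ∞) :=
      wb_succ_eq _ (n + 1) ((Module.supportDim_quotSMulTop_succ_eq_supportDim hreg hrm).trans hdim)
    refine ih (QuotSMulTop r M) inferInstance hdim2 ⟨k' + k, ?_⟩
    intro c hc z
    rw [pow_add] at hc
    refine Submodule.mul_induction_on hc ?_ ?_
    · intro u hu v hv
      have h1 : (δ (IsLocalRing.maximalIdeal R) _ hSE (n + 1)).hom (v • z) = 0 :=
        ((δ (IsLocalRing.maximalIdeal R) _ hSE (n + 1)).hom.map_smul v z).trans (hk v hv _)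
      obtain ⟨y, hy⟩ := (exact₃ (IsLocalRing.maximalIdeal R) _ hSE (n + 1) (v • z)).mp h1
      obtain ⟨y', hy'⟩ := hk' u hu y
      have h2 : ((localCohomology (IsLocalRing.maximalIdeal R) (n + 1)).map
          (scLin _ _ (exact_smul_mkQ (M := M) r)).g).hom (r • y') = 0 := by
        have h3 := (exact₂ (IsLocalRing.maximalIdeal R) _ hSE (n + 1)).apply_apply_eq_zero y'
        have h4 := map_smul_id_apply (IsLocalRing.maximalIdeal R) (n + 1) M r y'
        exact (congrArg _ h4.symm).trans h3
      exact (mul_smul u v z).trans ((congrArg (u • ·) hy.symm).trans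
        ((((localCohomology (IsLocalRing.maximalIdeal R) (n + 1)).map
          (scLin _ _ (exact_smul_mkQ (M := M) r)).g).hom.map_smul u y).symm.trans
          ((congrArg _ hy').trans h2)))
    · intro c d hc hd
      rw [add_smul, hc, hd, add_zero]

/-- `H^n_m(M)` is not finitely generated when `n = dim M > 0`. -/
theorem not_finite_top (M : Type u) [AddCommGroup M] [Module R M] [Module.Finite R M] (n : ℕ)
    (hn0 : 0 < n) (hn : Module.supportDim R M = n) :
    ¬ Module.Finite R
      ((localCohomology (IsLocalRing.maximalIdeal R) n).obj (ModuleCat.of R M)) := by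
  obtain ⟨j, rfl⟩ : ∃ j, n = j + 1 := ⟨n - 1, by omega⟩
  intro hfin
  exact not_kills j M inferInstance hn
    (exists_pow_kills_of_finite _ _ (isPowerTorsion _ _ _))

/-- Grothendieck non-vanishing: `H^n_m(M) ≠ 0` for `n = dim M`. -/
theorem nontrivial_top (M : Type u) [AddCommGroup M] [Module R M] [Module.Finite R M]
    [Nontrivial M] (n : ℕ) (hn : Module.supportDim R M = n) :
    Nontrivial ((localCohomology (IsLocalRing.maximalIdeal R) n).obj (ModuleCat.of R M)) := by
  rcases Nat.eq_zero_or_pos n with rfl | hpos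
  · have hpt : LocCoh.IsPowerTorsion (IsLocalRing.maximalIdeal R) M :=
      isPowerTorsion_of_supportDim_le_zero M (by rw [hn]; rfl)
    exact (H0equiv (IsLocalRing.maximalIdeal R) (ModuleCat.of R M) hpt).symm.injective.nontrivial
  · rw [← not_subsingleton_iff_nontrivial]
    intro hsub
    obtain ⟨j, rfl⟩ : ∃ j, n = j + 1 := ⟨n - 1, by omega⟩
    exact not_kills j M inferInstance hn ⟨0, fun a _ z => Subsingleton.elim _ _⟩

end Groth.Agent.H13.LC
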