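import Groth.Agent.H13.LCTors

set_option autoImplicit false

open CategoryTheory Limits Opposite

namespace Groth.Agent.H13.LC

universe u

variable {R : Type u} [CommRing R] (I : Ideal R) [IsNoetherianRing R]

/-- A power-torsion module embeds into a power-torsion injective module (Noetherian case). -/
theorem exists_embedding (N : Type u) [AddCommGroup N] [Module R N]
    (hN : LocCoh.IsPowerTorsion I N) :
    ∃ (G : Type u) (_ : AddCommGroup G) (_ : Module R G) (f : N →ₗ[R] G),
      Function.Injective f ∧ Module.Injective R G ∧ LocCoh.IsPowerTorsion I G := by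
  let E : ModuleCat.{u} R := Injective.under (ModuleCat.of R N)
  let e : ModuleCat.of R N ⟶ E := Injective.ι (ModuleCat.of R N)
  have he : Function.Injective e.hom := (ModuleCat.mono_iff_injective e).mp inferInstance
  haveI hEo : Injective (ModuleCat.of R E) :=
    (inferInstanceAs (Injective (Injective.under (ModuleCat.of R N))))
  have hE : Module.Injective R E := Module.injective_module_of_injective_object R E
  have hG : Module.Injective R (DRing.torsionSub I E) := torsionSub_injective I E
  let f : N →ₗ[R] DRing.torsionSub I E :=
    LinearMap.codRestrict (DRing.torsionSub I E) e.hom (fun x => by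
      obtain ⟨n, hn⟩ := hN x
      exact ⟨n, fun a ha => by rw [← _root_.map_smul, hn a ha, map_zero]⟩)
  have hf : Function.Injective f := fun x y hxy => he (congrArg Subtype.val hxy)
  exact ⟨DRing.torsionSub I E, inferInstance, inferInstance, f, hf, hG,
    isPowerTorsion_torsionSub I E⟩

/-- One step of dimension shifting. -/
theorem shift_step (p : ℕ) (N : Type u) [AddCommGroup N] [Module R N]
    (hN : LocCoh.IsPowerTorsion I N)
    (ih : p = 0 ∨ ∀ (C : Type u) [AddCommGroup C] [Module R C], LocCoh.IsPowerTorsion I C →
      Subsingleton ((localCohomology I p).obj (ModuleCat.of R C))) :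
    Subsingleton ((localCohomology I (p + 1)).obj (ModuleCat.of R N)) := by
  obtain ⟨G, _, _, f, hf, hG, hGt⟩ := exists_embedding I N hN
  have hS := scInj_shortExact f hf
  have hinj : Injective (ModuleCat.of R G) := Module.injective_object_of_injective_module R G
  have hC : LocCoh.IsPowerTorsion I (G ⧸ LinearMap.range f) := isPowerTorsion_quotient I hGt _
  have key : ∀ x : (localCohomology I (p + 1)).obj (ModuleCat.of R N), x = 0 := by
    intro x
    have h1 : ((localCohomology I (p + 1)).map (scInj f).f).hom x = 0 :=
      (subsingleton_of_injective I p (ModuleCat.of R G)).elim _ _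
    obtain ⟨y, rfl⟩ := (exact₁ I (scInj f) hS p x).mp h1
    rcases ih with rfl | ih
    · have hsurj : Function.Surjective ((localCohomology I 0).map (scInj f).g).hom := by
        apply H0_map_surjective
        intro m' _
        obtain ⟨m, rfl⟩ := (LinearMap.range f).mkQ_surjective m'
        exact ⟨m, hGt m, rfl⟩
      obtain ⟨z, rfl⟩ := hsurj y
      exact (exact₃ I (scInj f) hS 0).apply_apply_eq_zero z
    · haveI : Subsingleton ((localCohomology I p).obj (scInj f).X₃) := ih _ hC
      rw [Subsingleton.elim y 0]
      exact map_zero _
  exact ⟨fun x y => by rw [key x, key y]⟩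

/-- Over a Noetherian ring, power-torsion modules are acyclic for local cohomology. -/
theorem subsingleton_of_isPowerTorsion (p : ℕ) :
    ∀ (N : Type u) [AddCommGroup N] [Module R N], LocCoh.IsPowerTorsion I N →
      Subsingleton ((localCohomology I (p + 1)).obj (ModuleCat.of R N)) := by
  induction p with
  | zero => exact fun N _ _ hN => shift_step I 0 N hN (Or.inl rfl)
  | succ p ih => exact fun N _ _ hN => shift_step I (p + 1) N hN (Or.inr ih)

/-- `H^i_I(N) → H^i_I(N/Γ_I(N))` is bijective for `i > 0`. -/
theorem map_mkQ_bijective (N : Type u) [AddCommGroup N] [Module R N] (i : ℕ) (hi : 0 < i) :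
    Function.Bijective
      ((localCohomology I i).map (ModuleCat.ofHom (DRing.torsionSub I N).mkQ)).hom := by
  obtain ⟨p, rfl⟩ : ∃ p, i = p + 1 := ⟨i - 1, by omega⟩
  have hS := scSub_shortExact (DRing.torsionSub I N)
  haveI h1 : Subsingleton ((localCohomology I (p + 1)).obj (scSub (DRing.torsionSub I N)).X₁) :=
    subsingleton_of_isPowerTorsion I p (DRing.torsionSub I N) (isPowerTorsion_torsionSub I N)
  haveI h2 : Subsingleton
      ((localCohomology I (p + 1 + 1)).obj (scSub (DRing.torsionSub I N)).X₁) :=
    subsingleton_of_isPowerTorsion I (p + 1) (DRing.torsionSub I N)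
      (isPowerTorsion_torsionSub I N)
  constructor
  · rw [injective_iff_map_eq_zero]
    intro x hx
    obtain ⟨y, rfl⟩ := (exact₂ I (scSub (DRing.torsionSub I N)) hS (p + 1) x).mp hx
    rw [Subsingleton.elim y 0]
    exact map_zero _
  · intro y
    have : (δ I (scSub (DRing.torsionSub I N)) hS (p + 1)).hom y = 0 := Subsingleton.elim _ _
    exact (exact₃ I (scSub (DRing.torsionSub I N)) hS (p + 1) y).mp this

end Groth.Agent.H13.LC
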