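import Mathlib
import Groth.Agent.H13.AffCompl2
import Groth.Agent.H13.TildeDT
import Groth.Agent.H13.LCDExact
import Groth.Agent.H13.LCTors2

/-!
# Cohomological dimension one: the punctured open is affine
-/

set_option autoImplicit false
set_option linter.unusedSectionVars false

universe u

namespace Groth.Agent.H13.TildeDT

open AlgebraicGeometry CategoryTheory Opposite TopologicalSpace StructureSheaf
open Groth.Agent.H29.Pure Groth.Agent.H13.AffC Groth.Agent.H13.LC

/-- Transport of `I • ⊤ = ⊤` to a ring along an additive, semilinear identification. -/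
theorem span_eq_top_of_equiv {A : Type*} [CommRing A] (I : Ideal A) {N D : Type*}
    [AddCommGroup N] [Module A N] [AddCommGroup D] [Module A D] (e : N ≃ₗ[A] D)
    (hD : I • (⊤ : Submodule A D) = ⊤) {R' : Type*} [CommRing R'] (ρ : A →+* R') (ψ : N → R')
    (hadd : ∀ x y, ψ (x + y) = ψ x + ψ y) (hsmul : ∀ a n, ψ (a • n) = ρ a * ψ n) (n₁ : N)
    (h1 : ψ n₁ = 1) : Ideal.span (ρ '' (I : Set A)) = ⊤ := by
  have h2 : e n₁ ∈ I • (⊤ : Submodule A D) := by rw [hD]; exact Submodule.mem_top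
  have key : ψ (e.symm (e n₁)) ∈ Ideal.span (ρ '' (I : Set A)) := by
    refine Submodule.smul_induction_on
      (p := fun d => ψ (e.symm d) ∈ Ideal.span (ρ '' (I : Set A))) h2 ?_ ?_
    · intro r hr d _
      show ψ (e.symm (r • d)) ∈ Ideal.span (ρ '' (I : Set A))
      rw [LinearEquiv.map_smul, hsmul]
      exact Ideal.mul_mem_right _ _ (Ideal.subset_span ⟨r, hr, rfl⟩)
    · intro x y hx hy
      show ψ (e.symm (x + y)) ∈ Ideal.span (ρ '' (I : Set A))
      rw [LinearEquiv.map_add, hadd]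
      exact Ideal.add_mem _ hx hy
  rw [e.symm_apply_apply, h1] at key
  exact (Ideal.eq_top_iff_one _).mpr key

theorem span_toΓ_eq_top (A : Type u) [CommRing A] [IsNoetherianRing A] (I : Ideal A)
    (h1 : LocCoh.CdLE A I 1) :
    Ideal.span ((toΓ A (LocCoh.puncturedOpen A I)) '' (I : Set A)) = ⊤ := by
  obtain ⟨e⟩ := nonempty_sec_equiv_DT A I A
  obtain ⟨r, f, hf⟩ :=
    (Submodule.fg_iff_exists_fin_generating_family).mp (IsNoetherian.noetherian I)
  have hD : I • (⊤ : Submodule A (LocCoh.DT I A)) = ⊤ :=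
    smul_top_of_forall_eq_sum I r f hf
      (fun z => exists_eq_sum_of_DTSurj I (DTSurj_of_cdLE I h1) r f hf z)
  refine @span_eq_top_of_equiv A _ I (Sec A A (UJ A I)) (LocCoh.DT I A) _ _ _ _ e hD
    Γ(Spec (CommRingCat.of A), LocCoh.puncturedOpen A I) _ (toΓ A (LocCoh.puncturedOpen A I))
    (fun n => n) (fun x y => rfl) ?_
    (1 : Γ(Spec (CommRingCat.of A), LocCoh.puncturedOpen A I)) rfl
  intro a n
  refine Subtype.ext (funext fun x => ?_)
  exact Algebra.smul_def a (n.1 x)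

theorem exists_not_le_of_not_cdLE_zero (A : Type u) [CommRing A] [IsNoetherianRing A]
    (I : Ideal A) (h0 : ¬ LocCoh.CdLE A I 0) : ∃ q : PrimeSpectrum A, ¬ I ≤ q.asIdeal := by
  by_contra hcon
  push Not at hcon
  apply h0
  have hrad : I ≤ (⊥ : Ideal A).radical := by
    rw [Ideal.radical_eq_sInf]
    exact le_sInf fun q hq => hcon ⟨q, hq.2⟩
  obtain ⟨k, hk⟩ := Ideal.exists_pow_le_of_le_radical_of_fg hrad (IsNoetherian.noetherian I)
  intro M _ _ i hi
  obtain ⟨p, rfl⟩ : ∃ p, i = p + 1 := ⟨i - 1, by omega⟩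
  show Subsingleton ((localCohomology I (p + 1)).obj (ModuleCat.of A M))
  apply subsingleton_of_isPowerTorsion I p M
  intro m
  refine ⟨k, fun a ha => ?_⟩
  have ha0 : a = 0 := (Submodule.mem_bot A).mp (hk ha)
  rw [ha0, zero_smul]

theorem punctured_nonempty_affine (A : Type u) [CommRing A] [IsNoetherianRing A] (I : Ideal A)
    (h1 : LocCoh.CdLE A I 1) (h0 : ¬ LocCoh.CdLE A I 0) :
    Nonempty (↑(LocCoh.puncturedOpen A I) : Scheme.{u}) ∧
      IsAffine (↑(LocCoh.puncturedOpen A I) : Scheme.{u}) := by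
  obtain ⟨q, hq⟩ := exists_not_le_of_not_cdLE_zero A I h0
  refine ⟨⟨⟨q, hq⟩⟩, ?_⟩
  show IsAffineOpen (LocCoh.puncturedOpen A I)
  apply isAffineOpen_of_isAffineOpen_basicOpen (LocCoh.puncturedOpen A I)
    ((toΓ A (LocCoh.puncturedOpen A I)) '' (I : Set A)) (span_toΓ_eq_top A I h1)
  rintro _ ⟨f, hf, rfl⟩
  have hbo : (Spec (CommRingCat.of A)).basicOpen ((Scheme.ΓSpecIso (CommRingCat.of A)).inv f) =
      PrimeSpectrum.basicOpen f := basicOpen_eq_of_affine (R := CommRingCat.of A) f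
  have h3 : (Spec (CommRingCat.of A)).basicOpen (toΓ A (LocCoh.puncturedOpen A I) f) =
      (LocCoh.puncturedOpen A I) ⊓
        (Spec (CommRingCat.of A)).basicOpen ((Scheme.ΓSpecIso (CommRingCat.of A)).inv f) :=
    Scheme.basicOpen_res _ _ _
  have hle : (Spec (CommRingCat.of A)).basicOpen ((Scheme.ΓSpecIso (CommRingCat.of A)).inv f) ≤
      LocCoh.puncturedOpen A I := by
    rw [hbo]
    exact basicOpen_le_UJ A I hf
  rw [h3, inf_eq_right.mpr hle]
  exact (isAffineOpen_top (Spec (CommRingCat.of A))).basicOpen _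

end Groth.Agent.H13.TildeDT
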