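import Mathlib
import Groth.Agent.H15.ArtInd

/-!
# (H1)+(H2)+(H4) ⇒ homogeneity (helper for S15132)
-/

set_option autoImplicit false
universe u v

open CategoryTheory

namespace Groth.Agent.H13.ArtHom

open ArtFun ArtFun.Art IsLocalRing Groth.Agent.H15.ArtEps Groth.Agent.H15.ArtInd
  Groth.Agent.H15.ArtSmooth

variable {Λ : Type u} {k : Type u} [CommRing Λ] [Field k] [Algebra Λ k]

theorem inj_small (F : Art Λ k ⥤ Type v) (hS1 : S1 F) (h2 : Heps F) (h4 : HSq F)
    ⦃B A A' A'' : Art Λ k⦄ (p' : B ⟶ A') (p'' : B ⟶ A'') (f' : A' ⟶ A) (f'' : A'' ⟶ A)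
    (h : IsFibreProd p' p'' f' f'') (hf : IsSmallExt f'') : Function.Injective (cmp F h) := by
  have hf_copy := hf
  obtain ⟨hsurj, hne, hprin, hmk⟩ := hf
  obtain ⟨t, ht⟩ := hprin.principal
  have hker : RingHom.ker f''.toAlgHom = Ideal.span {t} := ht
  have ht0 : t ≠ 0 := by
    rintro rfl
    apply hne
    rw [hker, Ideal.span_singleton_eq_bot]
  have htker : t ∈ RingHom.ker f''.toAlgHom := by
    rw [hker]; exact Ideal.mem_span_singleton_self t
  have htm : t ∈ maximalIdeal A'' := ker_le_maximalIdeal f'' htker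
  have htann : ∀ a ∈ maximalIdeal A'', a * t = 0 := by
    intro a ha
    have : a * t ∈ maximalIdeal A'' * RingHom.ker f''.toAlgHom := Ideal.mul_mem_mul ha htker
    rw [hmk] at this
    exact (Ideal.mem_bot).1 this
  have hft : f'' t = 0 := (RingHom.mem_ker).1 htker
  obtain ⟨s, hs1, hs2⟩ := h.surj 0 t (by rw [hft]; exact map_zero f'.toAlgHom)
  -- properties of s
  have hsker : s ∈ RingHom.ker p'.toAlgHom := (RingHom.mem_ker).2 hs1
  have hsm : s ∈ maximalIdeal B := ker_le_maximalIdeal p' hsker
  have hs0 : s ≠ 0 := by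
    rintro rfl
    apply ht0
    rw [← hs2]; exact map_zero p''.toAlgHom
  have hsann : ∀ a ∈ maximalIdeal B, a * s = 0 := by
    intro a ha
    apply h.inj
    · change p'.toAlgHom (a * s) = p'.toAlgHom 0
      rw [map_mul, map_zero]
      change p'.toAlgHom a * p' s = 0
      rw [hs1, mul_zero]
    · change p''.toAlgHom (a * s) = p''.toAlgHom 0
      rw [map_mul, map_zero]
      change p'' a * p'' s = 0
      rw [hs2]
      apply htann
      rw [mem_maximalIdeal_iff, res_app]
      exact (mem_maximalIdeal_iff B a).1 ha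
  have hskerEq : RingHom.ker p'.toAlgHom = Ideal.span {s} := by
    apply le_antisymm
    · intro b hb
      have hb' : p' b = 0 := (RingHom.mem_ker).1 hb
      have h1 : p'' b ∈ RingHom.ker f''.toAlgHom := by
        rw [RingHom.mem_ker]
        change f'' (p'' b) = 0
        rw [← h.w_apply, hb']; exact map_zero f'.toAlgHom
      rw [hker] at h1
      obtain ⟨c, hc⟩ := Ideal.mem_span_singleton'.1 h1
      obtain ⟨b', hb'res⟩ := B.res_surjective (A''.res c)
      have h3 : p'' b' * t = c * t := by
        have : p'' b' - c ∈ maximalIdeal A'' := by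
          rw [mem_maximalIdeal_iff, map_sub, res_app, hb'res, sub_self]
        have := htann _ this
        rw [sub_mul, sub_eq_zero] at this
        exact this
      have hbs : b = b' * s := by
        apply h.inj
        · change p' b = p'.toAlgHom (b' * s)
          rw [map_mul]
          change p' b = p' b' * p' s
          rw [hb', hs1, mul_zero]
        · change p'' b = p''.toAlgHom (b' * s)
          rw [map_mul]
          change p'' b = p'' b' * p'' s
          rw [hs2, h3, hc]
      rw [hbs]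
      exact Ideal.mem_span_singleton'.2 ⟨b', rfl⟩
    · rw [Ideal.span_singleton_le_iff_mem]; exact hsker
  -- fibre products
  have fp1B := isFibreProd_eps B
  have fp2B := isFibreProd_σ p' s hsm hsann hs0 hskerEq
  have fp1A := isFibreProd_eps A''
  have fp2A := isFibreProd_σ f'' t htm htann ht0 hker
  have hp'surj : Function.Surjective p' := (isSmallExt_fst h hf_copy).1
  -- q : eps B ⟶ eps A''
  obtain ⟨q, hq1, hq2⟩ := exists_lift_hom fp1A (p₁ B ≫ p'') (p₂ B)
    (by rw [eq_toBase ((p₁ B ≫ p'') ≫ toBase A''), eq_toBase (p₂ B ≫ toBase (dual Λ k))])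
  -- compat
  have hcompat : σ s hsm hsann ≫ p'' = q ≫ σ t htm htann := by
    apply hom_ext
    apply AlgHom.ext
    intro x
    change p'' (σ s hsm hsann x) = σ t htm htann (q x)
    rw [σ_apply, σ_apply]
    have e1 : TrivSqZeroExt.fst (q x : E A'') = p'' (TrivSqZeroExt.fst (x : E B)) := by
      have := congrArg (fun φ : eps B ⟶ A'' => φ x) hq1
      exact this
    have e2 : rval A'' (TrivSqZeroExt.snd (q x : E A'')) =
        rval B (TrivSqZeroExt.snd (x : E B)) := by
      have := congrArg (fun φ : eps B ⟶ dual Λ k => TrivSqZeroExt.snd (φ x : DualNumber k)) hq2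
      exact this
    rw [e1, e2]
    set c := rval B (TrivSqZeroExt.snd (x : E B)) with hc
    have e3 : lam t c = p'' (Function.surjInv B.res_surjective c) * t :=
      lam_eq htann (by rw [res_app, Function.surjInv_eq B.res_surjective c])
    rw [e3]
    change p''.toAlgHom (_ + lam s c) = _
    rw [map_add]
    unfold lam
    rw [map_mul]
    change _ + p'' _ * p'' s = _
    rw [hs2]
  intro z₁ z₂ hz
  have hz1 : F.map p' z₁ = F.map p' z₂ := congrArg (fun z => z.1.1) hz
  have hz2 : F.map p'' z₁ = F.map p'' z₂ := congrArg (fun z => z.1.2) hz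
  obtain ⟨w, hw⟩ := hS1 _ _ _ _ fp2B hp'surj ⟨(z₁, z₂), hz1⟩
  have hw1 : F.map (p₁ B) w = z₁ := congrArg (fun z => z.1.1) hw
  have hw2 : F.map (σ s hsm hsann) w = z₂ := congrArg (fun z => z.1.2) hw
  have hw'' : F.map q w = F.map (ι A'') (F.map p'' z₁) := by
    apply (h4 _ _ _ fp2A hf_copy).1
    apply FibProd.ext
    · change F.map (p₁ A'') (F.map q w) = F.map (p₁ A'') (F.map (ι A'') (F.map p'' z₁))
      rw [← Functor.map_comp_apply, hq1, Functor.map_comp_apply, hw1,
        ← Functor.map_comp_apply F (ι A''), ι_p₁, Functor.map_id_apply]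
    · change F.map (σ t htm htann) (F.map q w) =
        F.map (σ t htm htann) (F.map (ι A'') (F.map p'' z₁))
      rw [← Functor.map_comp_apply, ← hcompat, Functor.map_comp_apply, hw2, ← hz2,
        ← Functor.map_comp_apply F (ι A''), ι_σ, Functor.map_id_apply]
  have hv : F.map (p₂ B) w = F.map (p₂ B) (F.map (ι B) z₁) := by
    have e1 : F.map (p₂ B) w = F.map (p₂ A'') (F.map q w) := by
      rw [← Functor.map_comp_apply, hq2]
    rw [e1, hw'', ← Functor.map_comp_apply, ← Functor.map_comp_apply,
      ← Functor.map_comp_apply, ι_p₂, ι_p₂]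
    rw [← Category.assoc, eq_toBase (p'' ≫ toBase A'')]
  have hww : w = F.map (ι B) z₁ := by
    apply (h2 _ _ fp1B).1
    apply FibProd.ext
    · change F.map (p₁ B) w = F.map (p₁ B) (F.map (ι B) z₁)
      rw [hw1, ← Functor.map_comp_apply, ι_p₁, Functor.map_id_apply]
    · exact hv
  rw [← hw2, hww, ← Functor.map_comp_apply, ι_σ, Functor.map_id_apply]

theorem main {k : Type u} [Field k] (F : Art k k ⥤ Type v)
    (h1 : Hbar F) (h2 : Heps F) (h4 : HSq F)
    ⦃B A A' A'' : Art k k⦄ (p' : B ⟶ A') (p'' : B ⟶ A'') (f' : A' ⟶ A) (f'' : A'' ⟶ A)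
    (h : IsFibreProd p' p'' f' f'') (hf : Function.Surjective f'') :
    Function.Bijective (cmp F h) := by
  have hS1 : S1 F := cmp_surj_of_small F h1
  refine ⟨?_, hS1 _ _ _ _ h hf⟩
  exact cmp_inj_of_small F
    (fun B A A' A'' p' p'' f' f'' h hf => inj_small F hS1 h2 h4 p' p'' f' f'' h hf)
    p' p'' f' f'' h hf

end Groth.Agent.H13.ArtHom
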