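import Groth.Agent.H13.LCArt
import Groth.Prelude.Def_DerCA

/-!
# Inverse systems of Artinian modules: essential constancy from bijectivity to the limit
-/

set_option autoImplicit false
set_option linter.style.haveILetI false

open CategoryTheory Limits Opposite

namespace Groth.Agent.H13.ArtML

universe u

/-- An inverse system `X` of Artinian modules with a cone `c` from an Artinian module `H` such
that `H → lim X` is bijective (elementwise form) is essentially constant with value `H`. -/
theorem essConstant_of_artinian {A : Type u} [CommRing A] (X : ℕᵒᵖ ⥤ ModuleCat.{u} A)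
    (H : ModuleCat.{u} A) (c : (Functor.const ℕᵒᵖ).obj H ⟶ X)
    [IsArtinian A H] (hart : ∀ n : ℕ, IsArtinian A (X.obj (op n)))
    (hinj : ∀ x : H, (∀ n : ℕᵒᵖ, (c.app n) x = 0) → x = 0)
    (hsurj : ∀ y : (∀ n : ℕ, X.obj (op n)),
      (∀ (n m : ℕ) (h : n ≤ m), (X.map (homOfLE h).op) (y m) = y n) →
      ∃ x : H, ∀ n : ℕ, (c.app (op n)) x = y n) :
    DerCA.IsEssConstant X H c := by
  let t : ∀ (n m : ℕ), n ≤ m → (X.obj (op m) →ₗ[A] X.obj (op n)) :=
    fun n m h => (X.map (homOfLE h).op).hom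
  have t_id : ∀ (n : ℕ) (h : n ≤ n) (x : X.obj (op n)), t n n h x = x := by
    intro n h x
    have h1 : (homOfLE h).op = 𝟙 (op n) := Quiver.Hom.unop_inj (Subsingleton.elim _ _)
    show (X.map (homOfLE h).op).hom x = x
    rw [h1, X.map_id]
    rfl
  have t_comp : ∀ (n m k : ℕ) (h : n ≤ m) (h' : m ≤ k) (x : X.obj (op k)),
      t n m h (t m k h' x) = t n k (h.trans h') x := by
    intro n m k h h' x
    have h1 : (homOfLE (h.trans h')).op = (homOfLE h').op ≫ (homOfLE h).op :=
      Quiver.Hom.unop_inj (Subsingleton.elim _ _)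
    show (X.map (homOfLE h).op).hom ((X.map (homOfLE h').op).hom x)
      = (X.map (homOfLE (h.trans h')).op).hom x
    rw [h1, X.map_comp]
    rfl
  let cn : ∀ n : ℕ, H →ₗ[A] X.obj (op n) := fun n => (c.app (op n)).hom
  have t_cn : ∀ (n m : ℕ) (h : n ≤ m) (x : H), t n m h (cn m x) = cn n x := by
    intro n m h x
    have h1 : c.app (op n) = c.app (op m) ≫ X.map (homOfLE h).op :=
      (Category.id_comp (c.app (op n))).symm.trans (c.naturality (homOfLE h).op)
    show (X.map (homOfLE h).op).hom ((c.app (op m)).hom x) = (c.app (op n)).hom x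
    rw [h1]
    rfl
  -- Step 1: some `cn n0` is injective
  obtain ⟨n0, hinj0⟩ : ∃ n0, Function.Injective (cn n0) := by
    let f : ℕ →o (Submodule A H)ᵒᵈ :=
      ⟨fun n => OrderDual.toDual (LinearMap.ker (cn n)), fun n m h => by
        show LinearMap.ker (cn m) ≤ LinearMap.ker (cn n)
        intro x hx
        rw [LinearMap.mem_ker] at hx ⊢
        rw [← t_cn n m h x, hx, map_zero]⟩
    obtain ⟨n0, hn0⟩ := IsArtinian.monotone_stabilizes f
    refine ⟨n0, ?_⟩
    rw [← LinearMap.ker_eq_bot, eq_bot_iff]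
    intro x hx
    rw [Submodule.mem_bot]
    apply hinj
    intro n
    show cn n.unop x = 0
    rcases le_total n0 n.unop with h | h
    · have h1 : LinearMap.ker (cn n0) = LinearMap.ker (cn n.unop) :=
        congrArg OrderDual.ofDual (hn0 n.unop h)
      rw [h1] at hx
      exact hx
    · rw [← t_cn n.unop n0 h x, LinearMap.mem_ker.mp hx, map_zero]
  -- Step 2: stable images
  have hK : ∀ n : ℕ, ∃ k, ∃ hk : n ≤ k, ∀ (k' : ℕ) (hk' : n ≤ k'), k ≤ k' →
      LinearMap.range (t n k' hk') = LinearMap.range (t n k hk) := by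
    intro n
    haveI := hart n
    let f : ℕ →o (Submodule A (X.obj (op n)))ᵒᵈ :=
      ⟨fun m => OrderDual.toDual (LinearMap.range (t n (n + m) (Nat.le_add_right n m))),
        fun m m' h => by
        show LinearMap.range (t n (n + m') (Nat.le_add_right n m'))
          ≤ LinearMap.range (t n (n + m) (Nat.le_add_right n m))
        rintro _ ⟨w, rfl⟩
        exact ⟨t (n + m) (n + m') (Nat.add_le_add_left h n) w, t_comp _ _ _ _ _ _⟩⟩
    obtain ⟨m0, hm0⟩ := IsArtinian.monotone_stabilizes f
    refine ⟨n + m0, Nat.le_add_right n m0, ?_⟩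
    intro k' hk' hkk'
    obtain ⟨m, rfl⟩ := Nat.exists_eq_add_of_le hk'
    have hm : m0 ≤ m := Nat.le_of_add_le_add_left hkk'
    exact (congrArg OrderDual.ofDual (hm0 m hm)).symm
  choose K hK1 hK2 using hK
  -- Step 3: the stable images have surjective transition maps
  have hS : ∀ (n : ℕ) (y : X.obj (op n)), y ∈ LinearMap.range (t n (K n) (hK1 n)) →
      ∃ z : X.obj (op (n + 1)), z ∈ LinearMap.range (t (n + 1) (K (n + 1)) (hK1 (n + 1))) ∧
        t n (n + 1) (Nat.le_succ n) z = y := by
    intro n y hy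
    have hk1 : K n ≤ max (K n) (K (n + 1)) := le_max_left _ _
    have hk2 : K (n + 1) ≤ max (K n) (K (n + 1)) := le_max_right _ _
    rw [← hK2 n _ ((hK1 n).trans hk1) hk1] at hy
    obtain ⟨w, rfl⟩ := hy
    refine ⟨t (n + 1) _ ((hK1 (n + 1)).trans hk2) w, ?_, ?_⟩
    · rw [← hK2 (n + 1) _ ((hK1 (n + 1)).trans hk2) hk2]
      exact ⟨w, rfl⟩
    · rw [t_comp]
  -- Step 4: stable images lie in the image of `H`
  have hrange : ∀ n : ℕ, LinearMap.range (t n (K n) (hK1 n)) ≤ LinearMap.range (cn n) := by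
    intro n y hy
    choose g hg1 hg2 using hS
    let f : ∀ j : ℕ, {z : X.obj (op (n + j)) //
        z ∈ LinearMap.range (t (n + j) (K (n + j)) (hK1 (n + j)))} :=
      fun j => Nat.rec (motive := fun j => {z : X.obj (op (n + j)) //
        z ∈ LinearMap.range (t (n + j) (K (n + j)) (hK1 (n + j)))}) ⟨y, hy⟩
        (fun j ih => ⟨g (n + j) ih.1 ih.2, hg1 (n + j) ih.1 ih.2⟩) j
    have hf : ∀ (j j' : ℕ) (h : j ≤ j'),
        t (n + j) (n + j') (Nat.add_le_add_left h n) (f j').1 = (f j).1 := by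
      intro j j' h
      induction j', h using Nat.le_induction with
      | base => exact t_id _ _ _
      | succ j' h ih =>
        have h1 : t (n + j') (n + j' + 1) (Nat.le_succ _) (f (j' + 1)).1 = (f j').1 :=
          hg2 (n + j') (f j').1 (f j').2
        have h2 := t_comp (n + j) (n + j') (n + j' + 1) (Nat.add_le_add_left h n)
          (Nat.le_succ _) (f (j' + 1)).1
        rw [h1] at h2
        exact h2.symm.trans ih
    obtain ⟨x, hx⟩ := hsurj (fun m => t m (n + m) (Nat.le_add_left m n) (f m).1) (by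
      intro a b hab
      show t a b hab (t b (n + b) _ (f b).1) = t a (n + a) _ (f a).1
      rw [t_comp, ← hf a b hab, t_comp])
    refine ⟨x, ?_⟩
    exact (hx n).trans (hf 0 n (Nat.zero_le n))
  -- Step 5: assembly
  have hk0 : n0 ≤ K n0 := hK1 n0
  have hmem : ∀ y : X.obj (op (K n0)), t n0 (K n0) hk0 y ∈ LinearMap.range (cn n0) :=
    fun y => hrange n0 ⟨y, rfl⟩
  let e := LinearEquiv.ofInjective (cn n0) hinj0
  let s : X.obj (op (K n0)) →ₗ[A] H :=
    e.symm.toLinearMap ∘ₗ
      (LinearMap.codRestrict (LinearMap.range (cn n0)) (t n0 (K n0) hk0) hmem)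
  have hs : ∀ y, cn n0 (s y) = t n0 (K n0) hk0 y := by
    intro y
    have h1 := e.apply_symm_apply ⟨t n0 (K n0) hk0 y, hmem y⟩
    exact congrArg Subtype.val h1
  refine ⟨K n0, ModuleCat.ofHom s, ?_, ?_⟩
  · apply ModuleCat.hom_ext
    apply LinearMap.ext
    intro x
    apply hinj0
    show cn n0 (s (cn (K n0) x)) = cn n0 x
    rw [hs, t_cn]
  · intro j
    have h1 : j ≤ max j n0 := le_max_left _ _
    have h2 : n0 ≤ max j n0 := le_max_right _ _
    have h3 : K (max j n0) ≤ max (K (max j n0)) (K n0) := le_max_left _ _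
    have h4 : K n0 ≤ max (K (max j n0)) (K n0) := le_max_right _ _
    have h5 : max j n0 ≤ max (K (max j n0)) (K n0) := (hK1 _).trans h3
    refine ⟨max (K (max j n0)) (K n0), h4, h1.trans h5, ?_⟩
    apply ModuleCat.hom_ext
    apply LinearMap.ext
    intro x
    show t j _ (h1.trans h5) x = cn j (s (t (K n0) _ h4 x))
    have hx : t (max j n0) _ h5 x ∈ LinearMap.range (cn (max j n0)) := by
      apply hrange (max j n0)
      rw [← hK2 (max j n0) _ h5 h3]
      exact ⟨x, rfl⟩
    obtain ⟨h', hh'⟩ := hx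
    have e1 : s (t (K n0) _ h4 x) = h' := by
      apply hinj0
      rw [hs, t_comp, ← t_cn n0 (max j n0) h2 h', hh', t_comp]
    rw [e1, ← t_cn j (max j n0) h1 h', hh', t_comp]

end Groth.Agent.H13.ArtML
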