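import Mathlib
import Groth.Agent.H15.ArtInd

/-!
# Deformation functors with trivial tangent space (helper for S15131)
-/

set_option autoImplicit false
universe u v

open CategoryTheory

namespace Groth.Agent.H13.ArtTriv

open ArtFun ArtFun.Art Groth.Agent.H15.ArtEps Groth.Agent.H15.ArtInd

variable {k : Type u} [Field k]

/-- the structure morphism `k → A` -/
noncomputable def fromBase (A : Art k k) : base k k ⟶ A :=
  ⟨Algebra.ofId k A, AlgHom.ext fun c => by
    exact A.res.commutes c⟩

theorem main (F : Art k k ⥤ Type v) (h0 : H0 F) (h1 : Hbar F) (h2 : Heps F)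
    (ht : Subsingleton (TangentSpace F)) (A : Art k k) :
    Nonempty (F.obj A) ∧ Subsingleton (F.obj A) := by
  obtain ⟨⟨x0⟩, hsub⟩ := h0
  refine ⟨⟨F.map (fromBase A) x0⟩, ⟨fun y₁ y₂ => ?_⟩⟩
  let H : Art k k ⥤ Type v := (Functor.const _).obj PUnit
  let ψ : F ⟶ H := { app := fun _ => ↾(fun _ => PUnit.unit), naturality := fun _ _ _ => rfl }
  have hS1 : S1 F := cmp_surj_of_small F h1
  refine inj_of_surj ψ hS1 h2 ?_ ?_ (toBase A) A.res_surjective y₁ y₂ (hsub.elim _ _) rfl
  · intro B A A' A'' p' p'' f' f'' h _ z₁ z₂ _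
    rfl
  · intro a b _
    exact ht.elim a b

end Groth.Agent.H13.ArtTriv
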