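import Mathlib

/-! Flat modules over Artinian local rings (helper13). -/

namespace Groth.Agent.H13.ArtinLocal

open TensorProduct IsLocalRing Module

universe u v

variable {A : Type u} [CommRing A]

/-- `⊤ = I • ⊤` with `I` nilpotent forces the module to be trivial. -/
theorem subsingleton_of_top_le_smul_top {I : Ideal A} (hI : IsNilpotent I)
    {M : Type v} [AddCommGroup M] [Module A M]
    (h : (⊤ : Submodule A M) ≤ I • (⊤ : Submodule A M)) : Subsingleton M := by
  obtain ⟨n, hn⟩ := hI
  have key : ∀ m : ℕ, (⊤ : Submodule A M) ≤ I ^ m • (⊤ : Submodule A M) := by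
    intro m
    induction m with
    | zero => simp
    | succ m ih =>
      calc (⊤ : Submodule A M) ≤ I ^ m • (⊤ : Submodule A M) := ih
        _ ≤ I ^ m • (I • (⊤ : Submodule A M)) := Submodule.smul_mono le_rfl h
        _ = I ^ (m + 1) • (⊤ : Submodule A M) := by rw [← Submodule.mul_smul, pow_succ]
  have := key n
  rw [hn, Ideal.zero_eq_bot, Submodule.bot_smul] at this
  rw [← Submodule.subsingleton_iff A]
  exact subsingleton_of_bot_eq_top (le_antisymm bot_le this)

variable [IsLocalRing A]

theorem isNilpotent_maximalIdeal [IsArtinianRing A] : IsNilpotent (maximalIdeal A) := by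
  have := IsArtinianRing.isNilpotent_jacobson_bot (R := A)
  rwa [IsLocalRing.jacobson_eq_maximalIdeal ⊥ bot_ne_top] at this

/-- Nilpotent Nakayama: `k ⊗ M = 0` implies `M = 0`. -/
theorem subsingleton_of_subsingleton_tensor (hm : IsNilpotent (maximalIdeal A))
    {M : Type v} [AddCommGroup M] [Module A M]
    (h : Subsingleton (ResidueField A ⊗[A] M)) : Subsingleton M := by
  apply subsingleton_of_top_le_smul_top hm
  intro x _
  rw [← LinearMap.ker_tensorProductMk (I := maximalIdeal A) (Q := M)]
  rw [LinearMap.mem_ker]
  exact @Subsingleton.elim _ h _ _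

/-- Surjectivity can be checked modulo the maximal ideal. -/
theorem surjective_of_lTensor_surjective (hm : IsNilpotent (maximalIdeal A))
    {P L : Type v} [AddCommGroup P] [Module A P] [AddCommGroup L] [Module A L]
    (h : P →ₗ[A] L) (hs : Function.Surjective (h.lTensor (ResidueField A))) :
    Function.Surjective h := by
  have hQ : Subsingleton (L ⧸ LinearMap.range h) := by
    apply subsingleton_of_subsingleton_tensor hm
    have h1 : Function.Surjective ((LinearMap.range h).mkQ.lTensor (ResidueField A)) :=
      LinearMap.lTensor_surjective _ (Submodule.mkQ_surjective _)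
    have h2 : (LinearMap.range h).mkQ.lTensor (ResidueField A) ∘ₗ h.lTensor (ResidueField A) = 0 := by
      rw [← LinearMap.lTensor_comp]
      have : (LinearMap.range h).mkQ ∘ₗ h = 0 := by
        ext x
        simp
      rw [this, LinearMap.lTensor_zero]
    refine ⟨fun a b => ?_⟩
    obtain ⟨a', rfl⟩ := h1 a
    obtain ⟨b', rfl⟩ := h1 b
    obtain ⟨a'', rfl⟩ := hs a'
    obtain ⟨b'', rfl⟩ := hs b'
    have ha := LinearMap.congr_fun h2 a''
    have hb := LinearMap.congr_fun h2 b''
    simp only [LinearMap.comp_apply, LinearMap.zero_apply] at ha hb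
    rw [ha, hb]
  rw [← LinearMap.range_eq_top]
  exact Submodule.Quotient.subsingleton_iff.mp hQ

/-- A family whose image in `k ⊗ M` spans, spans `M` (nilpotent Nakayama). -/
theorem span_eq_top_of_span_tmul (hm : IsNilpotent (maximalIdeal A))
    {M : Type v} [AddCommGroup M] [Module A M] {ι : Type*} (v : ι → M)
    (hv : Submodule.span (ResidueField A)
      (Set.range fun i => (1 : ResidueField A) ⊗ₜ[A] v i) = ⊤) :
    Submodule.span A (Set.range v) = ⊤ := by
  set N := Submodule.span A (Set.range v) with hN
  have hQ : Subsingleton (M ⧸ N) := by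
    apply subsingleton_of_subsingleton_tensor hm
    have h1 : Function.Surjective (N.mkQ.baseChange (ResidueField A)) :=
      LinearMap.lTensor_surjective _ (Submodule.mkQ_surjective _)
    have h2 : N.mkQ.baseChange (ResidueField A) = 0 := by
      apply LinearMap.ext_on hv
      rintro _ ⟨i, rfl⟩
      have : N.mkQ (v i) = 0 := by
        rw [Submodule.mkQ_apply, Submodule.Quotient.mk_eq_zero]
        exact Submodule.subset_span ⟨i, rfl⟩
      simp [LinearMap.baseChange_tmul, this]
    refine ⟨fun a b => ?_⟩
    obtain ⟨a', rfl⟩ := h1 a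
    obtain ⟨b', rfl⟩ := h1 b
    rw [h2]; rfl
  exact Submodule.Quotient.subsingleton_iff.mp hQ

/-- Flat modules over a local ring with nilpotent maximal ideal admit a basis lifting
any chosen basis of the reduction. -/
theorem exists_basis_of_flat (hm : IsNilpotent (maximalIdeal A))
    (P : Type v) [AddCommGroup P] [Module A P] [Module.Flat A P] :
    ∃ (ι : Type (max u v)) (v : ι → P), LinearIndependent A v ∧ Submodule.span A (Set.range v) = ⊤ ∧
      LinearIndependent (ResidueField A) (fun i => (1 : ResidueField A) ⊗ₜ[A] v i) := by
  let w := Module.Free.chooseBasis (ResidueField A) (ResidueField A ⊗[A] P)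
  have ⟨v, eq⟩ := (TensorProduct.mk_surjective A P (ResidueField A)
    Ideal.Quotient.mk_surjective).comp_left w
  have eq' : (fun i => (1 : ResidueField A) ⊗ₜ[A] v i) = w := eq
  have eq'' : (TensorProduct.mk A (ResidueField A) P 1) ∘ v = w := eq
  refine ⟨_, v, IsLocalRing.linearIndependent_of_flat _ (eq'' ▸ w.linearIndependent), ?_, ?_⟩
  · apply span_eq_top_of_span_tmul hm
    rw [eq']
    exact w.span_eq
  · rw [eq']
    exact w.linearIndependent

theorem free_of_flat (hm : IsNilpotent (maximalIdeal A))
    (P : Type v) [AddCommGroup P] [Module A P] [Module.Flat A P] : Module.Free A P := by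
  obtain ⟨ι, v, hli, hsp, _⟩ := exists_basis_of_flat hm P
  exact Module.Free.of_basis (Module.Basis.mk hli hsp.ge)

/-- Injectivity of a map between flat modules can be checked modulo the maximal ideal. -/
theorem injective_of_lTensor_injective (hm : IsNilpotent (maximalIdeal A))
    {P L : Type v} [AddCommGroup P] [Module A P] [AddCommGroup L] [Module A L]
    [Module.Flat A P] [Module.Flat A L]
    (h : P →ₗ[A] L) (hi : Function.Injective (h.lTensor (ResidueField A))) :
    Function.Injective h := by
  obtain ⟨ι, v, hli, hsp, hk⟩ := exists_basis_of_flat hm P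
  have h1 : LinearIndependent (ResidueField A)
      (fun i => (1 : ResidueField A) ⊗ₜ[A] h (v i)) := by
    have : (fun i => (1 : ResidueField A) ⊗ₜ[A] h (v i)) =
        (h.baseChange (ResidueField A)) ∘ (fun i => (1 : ResidueField A) ⊗ₜ[A] v i) := by
      funext i
      simp [LinearMap.baseChange_tmul]
    rw [this]
    exact hk.map' _ (LinearMap.ker_eq_bot.mpr hi)
  have h2 : LinearIndependent A (h ∘ v) := IsLocalRing.linearIndependent_of_flat _ h1
  rw [← LinearMap.ker_eq_bot, LinearMap.ker_eq_bot']
  intro x hx
  have hxs : x ∈ Submodule.span A (Set.range v) := by rw [hsp]; trivial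
  obtain ⟨c, rfl⟩ := (Finsupp.mem_span_range_iff_exists_finsupp).mp hxs
  rw [Finsupp.sum, map_sum] at hx
  simp only [map_smul] at hx
  have := (linearIndependent_iff'.mp h2) c.support (fun i => c i) (by simpa using hx)
  have hc : c = 0 := by
    ext i
    by_cases hi : i ∈ c.support
    · exact this i hi
    · simpa using hi
  simp [hc]

/-- Local criterion over a local ring with nilpotent maximal ideal:
if `P ⊗ 𝔪 → P ⊗ A` is injective then `P` is free. -/
theorem free_of_lTensor_maximalIdeal_injective (hm : IsNilpotent (maximalIdeal A))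
    (P : Type v) [AddCommGroup P] [Module A P]
    (hT : Function.Injective ((maximalIdeal A).subtype.lTensor P)) : Module.Free A P := by
  let w := Module.Free.chooseBasis (ResidueField A) (ResidueField A ⊗[A] P)
  have ⟨v, eq⟩ := (TensorProduct.mk_surjective A P (ResidueField A)
    Ideal.Quotient.mk_surjective).comp_left w
  have eq' : (fun i => (1 : ResidueField A) ⊗ₜ[A] v i) = w := eq
  have hsp : Submodule.span A (Set.range v) = ⊤ := by
    apply span_eq_top_of_span_tmul hm
    rw [eq']
    exact w.span_eq
  let u := Finsupp.linearCombination A v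
  have hu : Function.Surjective u := by
    rw [← LinearMap.range_eq_top, Finsupp.range_linearCombination, hsp]
  -- the reduction of `u` is injective
  let B : Module.Basis (Module.Free.ChooseBasisIndex (ResidueField A) (ResidueField A ⊗[A] P))
      (ResidueField A) (ResidueField A ⊗[A]
        (Module.Free.ChooseBasisIndex (ResidueField A) (ResidueField A ⊗[A] P) →₀ A)) :=
    (Finsupp.basisSingleOne (R := A)
      (ι := Module.Free.ChooseBasisIndex (ResidueField A) (ResidueField A ⊗[A] P))).baseChange
      (ResidueField A)
  have hub : u.baseChange (ResidueField A) = (B.equiv w (Equiv.refl _)).toLinearMap := by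
    apply B.ext
    intro i
    have : (1 : ResidueField A) ⊗ₜ[A] v i = w i := congrFun eq' i
    rw [LinearEquiv.coe_coe, Module.Basis.equiv_apply, Equiv.refl_apply]
    rw [show B i = (1 : ResidueField A) ⊗ₜ[A] Finsupp.single i (1 : A) from by simp [B]]
    rw [LinearMap.baseChange_tmul]
    simp [u, this]
  have hui : Function.Injective (u.lTensor (ResidueField A)) := by
    have : (u.lTensor (ResidueField A) : _ → _) = u.baseChange (ResidueField A) := rfl
    rw [this, hub]
    exact (B.equiv w (Equiv.refl _)).injective
  -- the kernel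
  have hKinj : Function.Injective ((LinearMap.ker u).subtype.lTensor (A ⧸ maximalIdeal A)) := by
    have h1 := LinearMap.exact_subtype_mkQ (maximalIdeal A)
    have h2 := Submodule.mkQ_surjective (maximalIdeal A)
    have h3 := LinearMap.exact_subtype_ker_map u
    have h5 := (LinearMap.lTensor_inj_iff_rTensor_inj _ _).mp hT
    have key := @lTensor_injective_of_exact_of_exact_of_rTensor_injective A _ (maximalIdeal A) A
      (A ⧸ maximalIdeal A) (LinearMap.ker u) (_ →₀ A) P _ _ _ _
      (Submodule.Quotient.addCommGroup _) (Submodule.Quotient.module _) _ _ _ _ _ _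
      (maximalIdeal A).subtype (maximalIdeal A).mkQ (LinearMap.ker u).subtype u h1 h2 h3 hu h5
      (Module.Flat.lTensor_preserves_injective_linearMap _ (Submodule.injective_subtype _))
    exact key
  have hKs : Subsingleton (ResidueField A ⊗[A] (LinearMap.ker u)) := by
    refine ⟨fun a b => ?_⟩
    apply hKinj
    apply hui
    have h0 : u.lTensor (ResidueField A) ∘ₗ (LinearMap.ker u).subtype.lTensor (ResidueField A) = 0 := by
      rw [← LinearMap.lTensor_comp]
      have : u ∘ₗ (LinearMap.ker u).subtype = 0 := by
        ext x
        exact x.2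
      rw [this, LinearMap.lTensor_zero]
    have ha := LinearMap.congr_fun h0 a
    have hb := LinearMap.congr_fun h0 b
    simp only [LinearMap.comp_apply, LinearMap.zero_apply] at ha hb
    exact ha.trans hb.symm
  have hK0 : Subsingleton (LinearMap.ker u) := subsingleton_of_subsingleton_tensor hm hKs
  have hinj : Function.Injective u := by
    rw [← LinearMap.ker_eq_bot]
    exact (Submodule.subsingleton_iff_eq_bot).mp hK0
  exact Module.Free.of_equiv (LinearEquiv.ofBijective u ⟨hinj, hu⟩)

/-- If `0 → M → N → P → 0` is exact with `N` flat and `k ⊗ M → k ⊗ N` injective, then `P` is free. -/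
theorem free_of_exact_of_lTensor_injective (hm : IsNilpotent (maximalIdeal A))
    {M N P : Type v} [AddCommGroup M] [Module A M] [AddCommGroup N] [Module A N]
    [AddCommGroup P] [Module A P] [Module.Flat A N] (f : M →ₗ[A] N) (g : N →ₗ[A] P)
    (hg : Function.Surjective g) (hfg : Function.Exact f g)
    (hk : Function.Injective (f.lTensor (ResidueField A))) : Module.Free A P := by
  apply free_of_lTensor_maximalIdeal_injective hm
  have hk' : Function.Injective (f.lTensor (A ⧸ maximalIdeal A)) := hk
  have h1 := LinearMap.exact_subtype_mkQ (maximalIdeal A)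
  have h2 := Submodule.mkQ_surjective (maximalIdeal A)
  have key := @lTensor_injective_of_exact_of_exact_of_rTensor_injective A _ M N P
    (maximalIdeal A) A (A ⧸ maximalIdeal A) _ _ _ _ _ _ _ _ _ _
    (Submodule.Quotient.addCommGroup _) (Submodule.Quotient.module _)
    f g (maximalIdeal A).subtype (maximalIdeal A).mkQ hfg hg h1 h2
    ((LinearMap.lTensor_inj_iff_rTensor_inj _ _).mp hk')
    (Module.Flat.lTensor_preserves_injective_linearMap _ (Submodule.injective_subtype _))
  exact key

/-- If `0 → M → N → P → 0` is exact with `N` and `P` flat, then `M` is flat. -/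
theorem flat_of_exact_of_flat
    {M N P : Type v} [AddCommGroup M] [Module A M] [AddCommGroup N] [Module A N]
    [AddCommGroup P] [Module A P] [Module.Flat A N] [Module.Flat A P]
    (f : M →ₗ[A] N) (g : N →ₗ[A] P) (hf : Function.Injective f)
    (hg : Function.Surjective g) (hfg : Function.Exact f g) : Module.Flat A M := by
  rw [Module.Flat.iff_rTensor_injective']
  intro I
  have h1 : Function.Injective (f.lTensor I) :=
    LinearMap.lTensor_injective_of_exact_of_flat g hg f hf hfg I
  have h2 : Function.Injective (I.subtype.rTensor N) :=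
    Module.Flat.rTensor_preserves_injective_linearMap _ (Submodule.injective_subtype _)
  have h3 : (f.lTensor A) ∘ₗ (I.subtype.rTensor M) = (I.subtype.rTensor N) ∘ₗ (f.lTensor I) := by
    rw [LinearMap.lTensor_comp_rTensor, LinearMap.rTensor_comp_lTensor]
  have h4 : Function.Injective ((f.lTensor A) ∘ₗ (I.subtype.rTensor M)) := by
    rw [h3]
    exact h2.comp h1
  exact Function.Injective.of_comp h4

/-- A four-term complex of flat modules with exact reduction. -/
theorem free_and_exact_of_reduction_exact (hm : IsNilpotent (maximalIdeal A))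
    {P Q R M : Type v} [AddCommGroup P] [Module A P] [AddCommGroup Q] [Module A Q]
    [AddCommGroup R] [Module A R] [AddCommGroup M] [Module A M]
    [Module.Flat A Q] [Module.Flat A R]
    (f : P →ₗ[A] Q) (g : Q →ₗ[A] R) (h : R →ₗ[A] M)
    (hfg : g ∘ₗ f = 0) (hgh : Function.Exact g h) (hh : Function.Surjective h)
    (hred : Function.Exact (f.lTensor (ResidueField A)) (g.lTensor (ResidueField A))) :
    Module.Free A M ∧ Function.Exact f g := by
  let g' : Q →ₗ[A] LinearMap.range g := g.rangeRestrict
  have hg' : Function.Surjective g' := g.surjective_rangeRestrict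
  have hιg' : (LinearMap.range g).subtype ∘ₗ g' = g := by
    ext x; rfl
  have hg'f : g' ∘ₗ f = 0 := by
    ext x
    exact LinearMap.congr_fun hfg x
  have hBh : Function.Exact (LinearMap.range g).subtype h := by
    rw [LinearMap.exact_iff, Submodule.range_subtype]
    exact LinearMap.exact_iff.mp hgh
  have c1 : Function.Injective ((LinearMap.range g).subtype.lTensor (ResidueField A)) := by
    rw [injective_iff_map_eq_zero]
    intro z hz
    obtain ⟨q, rfl⟩ := LinearMap.lTensor_surjective (ResidueField A) hg' z
    have h0 : g.lTensor (ResidueField A) q = 0 := by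
      rw [← hιg', LinearMap.lTensor_comp]
      exact hz
    obtain ⟨p, rfl⟩ := (hred q).mp h0
    rw [← LinearMap.comp_apply, ← LinearMap.lTensor_comp, hg'f, LinearMap.lTensor_zero]
    rfl
  have hMfree := free_of_exact_of_lTensor_injective hm (LinearMap.range g).subtype h hh hBh c1
  haveI : Module.Flat A M := inferInstance
  haveI : Module.Flat A (LinearMap.range g) :=
    flat_of_exact_of_flat (LinearMap.range g).subtype h (Submodule.injective_subtype _) hh hBh
  refine ⟨hMfree, ?_⟩
  have hfZ : ∀ x, f x ∈ LinearMap.ker g := fun x => LinearMap.congr_fun hfg x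
  let f' : P →ₗ[A] LinearMap.ker g := f.codRestrict (LinearMap.ker g) hfZ
  have hZexact : Function.Exact (LinearMap.ker g).subtype g' := by
    intro q
    constructor
    · intro hq
      refine ⟨⟨q, ?_⟩, rfl⟩
      have := congrArg Subtype.val hq
      exact this
    · rintro ⟨z, rfl⟩
      apply Subtype.ext
      exact z.2
  have hZinj : Function.Injective ((LinearMap.ker g).subtype.lTensor (ResidueField A)) :=
    LinearMap.lTensor_injective_of_exact_of_flat g' hg' (LinearMap.ker g).subtype
      (Submodule.injective_subtype _) hZexact (ResidueField A)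
  have hf's : Function.Surjective (f'.lTensor (ResidueField A)) := by
    intro z
    have h0 : g.lTensor (ResidueField A) ((LinearMap.ker g).subtype.lTensor (ResidueField A) z) = 0 := by
      rw [← LinearMap.comp_apply, ← LinearMap.lTensor_comp]
      have : g ∘ₗ (LinearMap.ker g).subtype = 0 := by
        ext x
        exact x.2
      rw [this, LinearMap.lTensor_zero]
      rfl
    obtain ⟨p, hp⟩ := (hred _).mp h0
    refine ⟨p, hZinj ?_⟩
    rw [← hp, ← LinearMap.comp_apply, ← LinearMap.lTensor_comp]
    rfl
  have hf'surj := surjective_of_lTensor_surjective hm f' hf's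
  intro q
  constructor
  · intro hq
    obtain ⟨p, hp⟩ := hf'surj ⟨q, hq⟩
    exact ⟨p, congrArg Subtype.val hp⟩
  · rintro ⟨p, rfl⟩
    exact LinearMap.congr_fun hfg p

/-- Flatness of the first term of `0 → I → P₀ → P₁` with exact reduction. -/
theorem flat_of_reduction_exact (hm : IsNilpotent (maximalIdeal A))
    {I P0 P1 : Type v} [AddCommGroup I] [Module A I] [AddCommGroup P0] [Module A P0]
    [AddCommGroup P1] [Module A P1] [Module.Flat A P0] [Module.Flat A P1]
    (d0 : I →ₗ[A] P0) (d1 : P0 →ₗ[A] P1) (h01 : d1 ∘ₗ d0 = 0)
    (hinj : Function.Injective (d0.lTensor (ResidueField A)))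
    (hred : Function.Exact (d0.lTensor (ResidueField A)) (d1.lTensor (ResidueField A))) :
    Module.Flat A I := by
  obtain ⟨hMfree, hex⟩ := free_and_exact_of_reduction_exact hm d0 d1 (LinearMap.range d1).mkQ h01
    (LinearMap.exact_map_mkQ_range d1) (Submodule.mkQ_surjective _) hred
  haveI : Module.Flat A (P1 ⧸ LinearMap.range d1) := inferInstance
  haveI : Module.Flat A (LinearMap.range d1) :=
    flat_of_exact_of_flat (LinearMap.range d1).subtype (LinearMap.range d1).mkQ
      (Submodule.injective_subtype _) (Submodule.mkQ_surjective _)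
      (LinearMap.exact_subtype_mkQ _)
  -- Z = ker d1
  have hZexact : Function.Exact (LinearMap.ker d1).subtype d1.rangeRestrict := by
    intro q
    constructor
    · intro hq
      refine ⟨⟨q, ?_⟩, rfl⟩
      exact congrArg Subtype.val hq
    · rintro ⟨z, rfl⟩
      apply Subtype.ext
      exact z.2
  haveI : Module.Flat A (LinearMap.ker d1) :=
    flat_of_exact_of_flat (LinearMap.ker d1).subtype d1.rangeRestrict
      (Submodule.injective_subtype _) d1.surjective_rangeRestrict hZexact
  have hd0Z : ∀ x, d0 x ∈ LinearMap.ker d1 := fun x => LinearMap.congr_fun h01 x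
  let d0' : I →ₗ[A] LinearMap.ker d1 := d0.codRestrict (LinearMap.ker d1) hd0Z
  have hd0's : Function.Surjective d0' := by
    rintro ⟨z, hz⟩
    obtain ⟨x, hx⟩ := (hex z).mp hz
    exact ⟨x, Subtype.ext hx⟩
  have hd0'i : Function.Injective (d0'.lTensor (ResidueField A)) := by
    have : (LinearMap.ker d1).subtype.lTensor (ResidueField A) ∘ₗ d0'.lTensor (ResidueField A)
        = d0.lTensor (ResidueField A) := by
      rw [← LinearMap.lTensor_comp]
      rfl
    have h2 : Function.Injective ((LinearMap.ker d1).subtype.lTensor (ResidueField A) ∘ₗ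
        d0'.lTensor (ResidueField A)) := by
      rw [this]; exact hinj
    exact Function.Injective.of_comp h2
  have hNinj : Function.Injective ((LinearMap.ker d0').subtype.lTensor (ResidueField A)) :=
    LinearMap.lTensor_injective_of_exact_of_flat d0' hd0's (LinearMap.ker d0').subtype
      (Submodule.injective_subtype _) (LinearMap.exact_subtype_ker_map d0') (ResidueField A)
  have hNs : Subsingleton (ResidueField A ⊗[A] (LinearMap.ker d0')) := by
    refine ⟨fun a b => ?_⟩
    apply hNinj
    apply hd0'i
    have h0 : d0'.lTensor (ResidueField A) ∘ₗ (LinearMap.ker d0').subtype.lTensor (ResidueField A) = 0 := by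
      rw [← LinearMap.lTensor_comp]
      have : d0' ∘ₗ (LinearMap.ker d0').subtype = 0 := by
        ext x
        exact congrArg Subtype.val x.2
      rw [this, LinearMap.lTensor_zero]
    have ha := LinearMap.congr_fun h0 a
    have hb := LinearMap.congr_fun h0 b
    simp only [LinearMap.comp_apply, LinearMap.zero_apply] at ha hb
    exact ha.trans hb.symm
  have hN0 : Subsingleton (LinearMap.ker d0') := subsingleton_of_subsingleton_tensor hm hNs
  have hinj' : Function.Injective d0' := by
    rw [← LinearMap.ker_eq_bot]
    exact (Submodule.subsingleton_iff_eq_bot).mp hN0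
  exact Module.Flat.of_linearEquiv (LinearEquiv.ofBijective d0' ⟨hinj', hd0's⟩)

end Groth.Agent.H13.ArtinLocal
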