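import Mathlib
import Groth.Prelude

/-!
# Associated primes of `Hom_A(B, A)` for a finite ring map
-/

set_option autoImplicit false
set_option linter.style.haveILetI false
set_option linter.unusedSectionVars false

open TensorProduct

namespace Groth.Agent.H13.AssOmega

universe u v

/-- A nonzero functional on a finite torsion-free extension of domains. -/
theorem exists_functional (A' : Type u) (C : Type v) [CommRing A'] [IsDomain A'] [CommRing C]
    [Algebra A' C] [Module.Finite A' C] (hinj : Function.Injective (algebraMap A' C)) :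
    ∃ ψ : C →ₗ[A'] A', ψ 1 ≠ 0 := by
  classical
  let F := FractionRing A'
  have h11 : ((1 : F) ⊗ₜ[A'] (1 : C)) ≠ 0 := by
    have hflat : Function.Injective ((Algebra.linearMap A' C).lTensor F) :=
      Module.Flat.lTensor_preserves_injective_linearMap _ hinj
    intro h0
    have h1 : (Algebra.linearMap A' C).lTensor F ((1 : F) ⊗ₜ[A'] (1 : A')) = 0 := by
      rw [LinearMap.lTensor_tmul, Algebra.linearMap_apply, map_one]
      exact h0
    have h2 := hflat (h1.trans (map_zero _).symm)
    have h3 := congrArg (TensorProduct.rid A' F) h2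
    rw [TensorProduct.rid_tmul, one_smul, map_zero] at h3
    exact one_ne_zero h3
  obtain ⟨lam, hlam⟩ := Module.Projective.exists_dual_ne_zero F h11
  let g : C →ₗ[A'] F := (lam.restrictScalars A') ∘ₗ (TensorProduct.mk A' F C 1)
  have hg1 : g 1 ≠ 0 := hlam
  obtain ⟨s, hs⟩ := (Module.Finite.fg_top (R := A') (M := C))
  obtain ⟨d, hd⟩ := IsLocalization.exist_integer_multiples_of_finset (nonZeroDivisors A')
    (s.image g)
  have hint : ∀ c : C, ∃ a : A', algebraMap A' F a = (d : A') • g c := by
    intro c
    have hc : c ∈ Submodule.span A' (s : Set C) := hs ▸ Submodule.mem_top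
    refine Submodule.span_induction (p := fun c _ => ∃ a : A', algebraMap A' F a = (d : A') • g c)
      ?_ ?_ ?_ ?_ hc
    · intro x hx
      obtain ⟨a, ha⟩ := hd (g x) (Finset.mem_image_of_mem g hx)
      exact ⟨a, ha⟩
    · exact ⟨0, by simp⟩
    · rintro x y _ _ ⟨a, ha⟩ ⟨b, hb⟩
      exact ⟨a + b, by rw [map_add, ha, hb, map_add, smul_add]⟩
    · rintro r x _ ⟨a, ha⟩
      exact ⟨r * a, by rw [map_mul, ha, map_smul, smul_comm, Algebra.smul_def r]⟩
  have hFinj : Function.Injective (algebraMap A' F) := IsFractionRing.injective A' F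
  let ψfun : C → A' := fun c => (hint c).choose
  have hψ : ∀ c, algebraMap A' F (ψfun c) = (d : A') • g c := fun c => (hint c).choose_spec
  let ψ : C →ₗ[A'] A' :=
    { toFun := ψfun
      map_add' := fun x y => hFinj (by rw [hψ, map_add, map_add, smul_add, hψ, hψ])
      map_smul' := fun r x => hFinj (by
        rw [hψ, map_smul, RingHom.id_apply, smul_eq_mul, map_mul, hψ, smul_comm,
          Algebra.smul_def r]) }
  refine ⟨ψ, fun h0 => ?_⟩
  have h1 : algebraMap A' F (ψ 1) = (d : A') • g 1 := hψ 1
  rw [h0, map_zero] at h1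
  have h2 : algebraMap A' F (d : A') * g 1 = 0 := by
    rw [← Algebra.smul_def]
    exact h1.symm
  rcases mul_eq_zero.mp h2 with h3 | h3
  · exact (nonZeroDivisors.ne_zero d.2) (hFinj (h3.trans (map_zero _).symm))
  · exact hg1 h3

lemma mem_ass_iff' {R : Type u} [CommRing R] [IsNoetherianRing R] {X : Type v} [AddCommGroup X]
    [Module R X] (p : Ideal R) :
    p ∈ associatedPrimes R X ↔ p.IsPrime ∧ ∃ x : X, ∀ a : R, a ∈ p ↔ a • x = 0 := by
  rw [AssociatedPrimes.mem_iff, isAssociatedPrime_iff]
  constructor
  · rintro ⟨hp, x, hx⟩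
    refine ⟨hp, x, fun a => ?_⟩
    rw [hx, Submodule.mem_colon_singleton, Submodule.mem_bot]
  · rintro ⟨hp, x, hx⟩
    refine ⟨hp, x, ?_⟩
    ext a
    rw [hx a, Submodule.mem_colon_singleton, Submodule.mem_bot]

theorem main {A : Type u} {B : Type v} [CommRing A] [CommRing B]
    [Algebra A B] [IsNoetherianRing A] [IsNoetherianRing B] [Module.Finite A B] :
    associatedPrimes B (Disc.Omega A B) =
      {q : Ideal B | q.IsPrime ∧ q.comap (algebraMap A B) ∈ associatedPrimes A A} := by
  classical
  have hsmul : ∀ (a : A) (φ : Disc.Omega A B) (x : B),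
      (algebraMap A B a • φ).toLinearMap x = a * φ.toLinearMap x := by
    intro a φ x
    rw [Disc.Omega.smul_toLinearMap_apply, ← Algebra.smul_def, LinearMap.map_smul, smul_eq_mul]
  ext q
  constructor
  · intro hq
    obtain ⟨hqp, φ, hφ⟩ := (mem_ass_iff' q).mp hq
    refine ⟨hqp, ?_⟩
    haveI : (q.comap (algebraMap A B)).IsPrime := Ideal.comap_isPrime _ q
    have hann : Module.annihilator A (LinearMap.range φ.toLinearMap) =
        q.comap (algebraMap A B) := by
      ext a
      rw [Module.mem_annihilator, Ideal.mem_comap, hφ]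
      constructor
      · intro h
        apply Disc.Omega.ext
        refine LinearMap.ext fun x => ?_
        rw [hsmul]
        have h1 := h ⟨φ.toLinearMap x, x, rfl⟩
        exact congrArg Subtype.val h1
      · rintro h ⟨_, x, rfl⟩
        apply Subtype.ext
        have h1 := congrArg (fun ψ : Disc.Omega A B => ψ.toLinearMap x) h
        simp only [hsmul] at h1
        exact h1
    have hmin : q.comap (algebraMap A B) ∈
        (Module.annihilator A (LinearMap.range φ.toLinearMap)).minimalPrimes := by
      rw [hann, Ideal.minimalPrimes_eq_subsingleton_self]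
      exact Set.mem_singleton _
    have h1 := Module.associatedPrimes.minimalPrimes_annihilator_subset_associatedPrimes A
      (LinearMap.range φ.toLinearMap) hmin
    exact associatedPrimes.subset_of_injective
      (f := (LinearMap.range φ.toLinearMap).subtype) (Submodule.injective_subtype _) h1
  · rintro ⟨hqp, hP⟩
    haveI := hqp
    obtain ⟨hPp, y, hy⟩ := (mem_ass_iff' (q.comap (algebraMap A B))).mp hP
    haveI := hPp
    haveI : Algebra.IsIntegral A B := Algebra.IsIntegral.of_finite A B
    haveI : Module.Finite (A ⧸ q.comap (algebraMap A B)) (B ⧸ q) :=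
      Module.Finite.of_restrictScalars_finite A _ _
    obtain ⟨ψ, hψ⟩ := exists_functional (A ⧸ q.comap (algebraMap A B)) (B ⧸ q)
      Ideal.algebraMap_quotient_injective
    let ι : (A ⧸ q.comap (algebraMap A B)) →ₗ[A] A :=
      Submodule.liftQ (q.comap (algebraMap A B)) (LinearMap.toSpanSingleton A A y) (by
        intro a ha
        rw [LinearMap.mem_ker, LinearMap.toSpanSingleton_apply]
        exact (hy a).mp ha)
    have hι : Function.Injective ι := by
      rw [← LinearMap.ker_eq_bot]
      apply Submodule.ker_liftQ_eq_bot'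
      ext a
      rw [LinearMap.mem_ker, LinearMap.toSpanSingleton_apply]
      exact hy a
    let φ₀ : B →ₗ[A] A :=
      ι ∘ₗ (ψ.restrictScalars A) ∘ₗ (Ideal.Quotient.mkₐ A q).toLinearMap
    have hφ₀ : ∀ x : B, φ₀ x = ι (ψ (Ideal.Quotient.mk q x)) := fun x => rfl
    rw [mem_ass_iff']
    refine ⟨hqp, ⟨φ₀⟩, fun b => ?_⟩
    constructor
    · intro hb
      apply Disc.Omega.ext
      refine LinearMap.ext fun x => ?_
      rw [Disc.Omega.smul_toLinearMap_apply]
      show φ₀ (b * x) = 0
      rw [hφ₀, Ideal.Quotient.eq_zero_iff_mem.mpr (q.mul_mem_right x hb), map_zero, map_zero]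
    · intro hb
      by_contra hbq
      have hc : Ideal.Quotient.mk q b ≠ 0 := fun h => hbq (Ideal.Quotient.eq_zero_iff_mem.mp h)
      have hne := Ideal.comap_ne_bot_of_integral_mem (R := A ⧸ q.comap (algebraMap A B))
        (I := Ideal.span {Ideal.Quotient.mk q b}) hc (Ideal.subset_span rfl)
        (Algebra.IsIntegral.isIntegral _)
      obtain ⟨a', ha', ha'0⟩ := Submodule.exists_mem_ne_zero_of_ne_bot hne
      rw [Ideal.mem_comap, Ideal.mem_span_singleton'] at ha'
      obtain ⟨c', hc'⟩ := ha'
      obtain ⟨b', rfl⟩ := Ideal.Quotient.mk_surjective c'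
      have h1 : (b • (⟨φ₀⟩ : Disc.Omega A B)).toLinearMap b' = 0 := by
        rw [hb]
        rfl
      rw [Disc.Omega.smul_toLinearMap_apply] at h1
      change φ₀ (b * b') = 0 at h1
      rw [hφ₀, map_mul, mul_comm] at h1
      rw [hc'] at h1
      have h2 : ψ (algebraMap (A ⧸ q.comap (algebraMap A B)) (B ⧸ q) a') = 0 :=
        hι (h1.trans (map_zero ι).symm)
      rw [Algebra.algebraMap_eq_smul_one, LinearMap.map_smul, smul_eq_mul] at h2
      rcases mul_eq_zero.mp h2 with h3 | h3
      · exact ha'0 h3
      · exact hψ h3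

end Groth.Agent.H13.AssOmega
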