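import Mathlib.CategoryTheory.Bicategory.Basic
import Mathlib.CategoryTheory.Equivalence

set_option autoImplicit false
open CategoryTheory Bicategory
universe w v u

namespace Groth.Agent.H13

variable {B : Type u} [Bicategory.{w, v} B] {a b : B}

/-- Precomposition with an invertible 1-morphism is an equivalence of hom categories. -/
theorem precomp_isEquivalence (c : B) (f : a ⟶ b) (g : b ⟶ a) (e₁ : f ≫ g ≅ 𝟙 a) (e₂ : g ≫ f ≅ 𝟙 b) :
    (Bicategory.precomp c f).IsEquivalence := by
  let η : 𝟭 (b ⟶ c) ≅ Bicategory.precomp c f ⋙ Bicategory.precomp c g :=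
    (leftUnitorNatIso b c).symm ≪≫ (precomposing b b c).mapIso e₂.symm ≪≫
      associatorNatIsoRight g f c
  let ε : Bicategory.precomp c g ⋙ Bicategory.precomp c f ≅ 𝟭 (a ⟶ c) :=
    (associatorNatIsoRight f g c).symm ≪≫ (precomposing a a c).mapIso e₁ ≪≫ leftUnitorNatIso a c
  exact (CategoryTheory.Equivalence.mk (Bicategory.precomp c f) (Bicategory.precomp c g) η ε).isEquivalence_functor

/-- Postcomposition with an invertible 1-morphism is an equivalence of hom categories. -/
theorem postcomp_isEquivalence (c : B) (f : a ⟶ b) (g : b ⟶ a) (e₁ : f ≫ g ≅ 𝟙 a) (e₂ : g ≫ f ≅ 𝟙 b) :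
    (Bicategory.postcomp c f).IsEquivalence := by
  let η : 𝟭 (c ⟶ a) ≅ Bicategory.postcomp c f ⋙ Bicategory.postcomp c g :=
    (rightUnitorNatIso c a).symm ≪≫ (postcomposing c a a).mapIso e₁.symm ≪≫
      (associatorNatIsoLeft c f g).symm
  let ε : Bicategory.postcomp c g ⋙ Bicategory.postcomp c f ≅ 𝟭 (c ⟶ b) :=
    associatorNatIsoLeft c g f ≪≫ (postcomposing c b b).mapIso e₂ ≪≫ rightUnitorNatIso c b
  exact (CategoryTheory.Equivalence.mk (Bicategory.postcomp c f) (Bicategory.postcomp c g) η ε).isEquivalence_functor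

end Groth.Agent.H13
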