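import Groth.Agent.H13.LCJac
import Groth.Agent.H29.DepthLib

/-!
# Vanishing of the top local cohomology from one module of full support
-/

set_option autoImplicit false
set_option linter.style.haveILetI false
set_option linter.unusedSectionVars false

open CategoryTheory Limits Opposite Pointwise

namespace Groth.Agent.H13.LC

universe u

variable {R : Type u} [CommRing R] [IsNoetherianRing R] (I : Ideal R)

lemma wb_lt_of_add_one_le (x : WithBot ℕ∞) (d : ℕ) (h : x + 1 ≤ (d : WithBot ℕ∞)) :
    x < (d : WithBot ℕ∞) := by
  rcases wb_aux x d h with h1 | ⟨h1, h2⟩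
  · rw [h1]
    exact WithBot.bot_lt_coe _
  · refine lt_of_le_of_lt h2 ?_
    have : d - 1 < d := by omega
    exact_mod_cast this

/-- From vanishing of `H^d_I(M)` to vanishing of `H^d_I(R/p)` for a top-dimensional prime in the
support of `M`. -/
theorem subsingleton_quot_prime_of_mem_support (d : ℕ) (hd : ringKrullDim R = d) (p : Ideal R)
    [hp : p.IsPrime] (hpd : ringKrullDim (R ⧸ p) = d) (n : ℕ) :
    ∀ (M : Type u) [AddCommGroup M] [Module R M] [Module.Finite R M] (v : Fin n → M),
      Submodule.span R (Set.range v) = ⊤ →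
      (⟨p, hp⟩ : PrimeSpectrum R) ∈ Module.support R M →
      Subsingleton ((localCohomology I d).obj (ModuleCat.of R M)) →
      Subsingleton ((localCohomology I d).obj (ModuleCat.of R (R ⧸ p))) := by
  have hGV : ∀ (X : Type u) [AddCommGroup X] [Module R X],
      Subsingleton ((localCohomology I (d + 1)).obj (ModuleCat.of R X)) := by
    intro X _ _
    apply subsingleton_of_supportDim_lt
    refine lt_of_le_of_lt ((Module.supportDim_le_ringKrullDim R X).trans hd.le) ?_
    exact_mod_cast Nat.lt_succ_self d
  induction n with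
  | zero =>
    intro M _ _ _ v hv hsupp _
    exfalso
    obtain ⟨m, hm⟩ := Module.mem_support_iff_exists_annihilator.mp hsupp
    have hm0 : m = 0 := by
      have h1 : m ∈ Submodule.span R (Set.range v) := by rw [hv]; trivial
      have h2 : Set.range v = ∅ := Set.range_eq_empty v
      rw [h2, Submodule.span_empty, Submodule.mem_bot] at h1
      exact h1
    have h1 : (1 : R) ∈ (Submodule.span R {m}).annihilator := by
      rw [Submodule.mem_annihilator_span_singleton, hm0, smul_zero]
    exact hp.ne_top ((Ideal.eq_top_iff_one _).mpr (hm h1))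
  | succ n ih =>
    intro M _ _ _ v hv hsupp hM
    let m₁ : M := v 0
    let S₁ : Submodule R M := Submodule.span R {m₁}
    let vbar : Fin n → M ⧸ S₁ := fun j => S₁.mkQ (v j.succ)
    have hvbar : Submodule.span R (Set.range vbar) = ⊤ := by
      rw [eq_top_iff]
      have h1 : (⊤ : Submodule R (M ⧸ S₁)) = Submodule.map S₁.mkQ ⊤ := by
        rw [Submodule.map_top, Submodule.range_mkQ]
      rw [h1, ← hv, Submodule.map_span, Submodule.span_le]
      rintro _ ⟨_, ⟨i, rfl⟩, rfl⟩
      refine Fin.cases ?_ (fun j => ?_) i
      · have : S₁.mkQ (v 0) = 0 := by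
          rw [Submodule.mkQ_apply, Submodule.Quotient.mk_eq_zero]
          exact Submodule.mem_span_singleton_self _
        rw [this]
        exact Submodule.zero_mem _
      · exact Submodule.subset_span ⟨j, rfl⟩
    have hMbar : Subsingleton ((localCohomology I d).obj (ModuleCat.of R (M ⧸ S₁))) :=
      subsingleton_of_surjective I d S₁.mkQ (Submodule.mkQ_surjective _) hM (hGV _)
    by_cases hs : (⟨p, hp⟩ : PrimeSpectrum R) ∈ Module.support R (M ⧸ S₁)
    · exact ih (M ⧸ S₁) vbar hvbar hs hMbar
    · rw [Module.support_eq_zeroLocus, PrimeSpectrum.mem_zeroLocus, Set.not_subset] at hs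
      obtain ⟨c, hcann, hcp⟩ := hs
      have hcp' : c ∉ p := hcp
      have hcM : ∀ m : M, c • m ∈ S₁ := by
        intro m
        have := Module.mem_annihilator.mp hcann (S₁.mkQ m)
        rwa [← _root_.map_smul, Submodule.mkQ_apply, Submodule.Quotient.mk_eq_zero] at this
      obtain ⟨m, hm⟩ := Module.mem_support_iff_exists_annihilator.mp hsupp
      have hann : ∀ r : R, r • m₁ = 0 → r ∈ p := by
        intro r hr
        have h1 : r * c ∈ (Submodule.span R {m}).annihilator := by
          rw [Submodule.mem_annihilator_span_singleton, mul_smul]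
          obtain ⟨t, ht⟩ := Submodule.mem_span_singleton.mp (hcM m)
          rw [← ht, smul_comm, hr, smul_zero]
        exact (hp.mem_or_mem (hm h1)).resolve_right hcp'
      let τ : R →ₗ[R] M := LinearMap.toSpanSingleton R M m₁
      have hτrange : LinearMap.range τ = S₁ := LinearMap.range_toSpanSingleton m₁
      let e := τ.quotKerEquivRange
      let μ : M →ₗ[R] LinearMap.range τ :=
        (LinearMap.lsmul R M c).codRestrict (LinearMap.range τ) (fun m => by
          rw [hτrange]
          exact hcM m)
      have hkerle : LinearMap.ker τ ≤ Submodule.comap (LinearMap.id : R →ₗ[R] R) p := by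
        intro r hr
        exact hann r hr
      let ρ : (R ⧸ LinearMap.ker τ) →ₗ[R] (R ⧸ p) :=
        Submodule.mapQ (LinearMap.ker τ) p LinearMap.id hkerle
      let φ : M →ₗ[R] (R ⧸ p) := ρ ∘ₗ e.symm.toLinearMap ∘ₗ μ
      have hφm₁ : φ m₁ = Submodule.Quotient.mk c := by
        have h1 : μ m₁ = e (Submodule.Quotient.mk c) := by
          apply Subtype.ext
          change c • m₁ = τ c
          rfl
        change ρ (e.symm (μ m₁)) = _
        rw [h1, LinearEquiv.symm_apply_apply]
        rfl
      let L : Submodule R (R ⧸ p) := LinearMap.range φ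
      have hcL : (Submodule.Quotient.mk c : R ⧸ p) ∈ L := ⟨m₁, hφm₁⟩
      have hL : Subsingleton ((localCohomology I d).obj (ModuleCat.of R L)) :=
        subsingleton_of_surjective I d φ.rangeRestrict φ.surjective_rangeRestrict hM (hGV _)
      -- the quotient has small dimension
      have hle : p ⊔ Ideal.span {c} ≤ LinearMap.ker (L.mkQ ∘ₗ p.mkQ) := by
        rw [sup_le_iff]
        constructor
        · intro x hx
          rw [LinearMap.mem_ker, LinearMap.comp_apply]
          have : p.mkQ x = 0 := by
            rw [Submodule.mkQ_apply, Submodule.Quotient.mk_eq_zero]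
            exact hx
          rw [this, map_zero]
        · rw [Ideal.span_le, Set.singleton_subset_iff]
          change c ∈ LinearMap.ker (L.mkQ ∘ₗ p.mkQ)
          rw [LinearMap.mem_ker, LinearMap.comp_apply, Submodule.mkQ_apply, Submodule.mkQ_apply,
            Submodule.Quotient.mk_eq_zero]
          exact hcL
      let σ : (R ⧸ (p ⊔ Ideal.span {c})) →ₗ[R] ((R ⧸ p) ⧸ L) :=
        (p ⊔ Ideal.span {c}).liftQ (L.mkQ ∘ₗ p.mkQ) hle
      have hσ : Function.Surjective σ := by
        rw [← LinearMap.range_eq_top, Submodule.range_liftQ, LinearMap.range_eq_top]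
        exact (Submodule.mkQ_surjective L).comp (Submodule.mkQ_surjective p)
      have hdimQ : Module.supportDim R ((R ⧸ p) ⧸ L) < (d : WithBot ℕ∞) := by
        refine lt_of_le_of_lt (Module.supportDim_le_of_surjective σ hσ) ?_
        rw [Module.supportDim_quotient_eq_ringKrullDim]
        apply wb_lt_of_add_one_le
        rw [← hpd]
        exact Groth.Agent.H29.ringKrullDim_quotient_succ_le_of_lt R p (p ⊔ Ideal.span {c})
          le_sup_left c (Ideal.mem_sup_right (Ideal.mem_span_singleton_self c)) hcp'
      have hQ : Subsingleton ((localCohomology I d).obj (ModuleCat.of R ((R ⧸ p) ⧸ L))) :=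
        subsingleton_of_supportDim_lt I _ d hdimQ
      exact subsingleton_mid I d L.subtype L.mkQ (LinearMap.exact_subtype_mkQ L)
        L.injective_subtype (Submodule.mkQ_surjective _) hL hQ

/-- If `H^d_I(M) = 0` for one finite module whose support contains all top-dimensional minimal
primes, then `H^i_I = 0` for all `i ≥ d = dim R`. -/
theorem subsingleton_top_of_full_support (d : ℕ) (hd : ringKrullDim R = d) (M : Type u)
    [AddCommGroup M] [Module R M] [Module.Finite R M]
    (hsupp : ∀ p ∈ minimalPrimes R, ringKrullDim (R ⧸ p) = d → ∀ hp : p.IsPrime,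
      (⟨p, hp⟩ : PrimeSpectrum R) ∈ Module.support R M)
    (hvan : Subsingleton ((localCohomology I d).obj (ModuleCat.of R M)))
    (N : Type u) [AddCommGroup N] [Module R N] (i : ℕ) (hi : d ≤ i) :
    Subsingleton ((localCohomology I i).obj (ModuleCat.of R N)) := by
  rcases hi.lt_or_eq with hlt | rfl
  · exact subsingleton_of_supportDim_lt I N i
      (lt_of_le_of_lt ((Module.supportDim_le_ringKrullDim R N).trans hd.le)
        (by exact_mod_cast hlt))
  apply subsingleton_of_fg I d
  intro N' _ _ hN'
  refine IsNoetherianRing.induction_on_isQuotientEquivQuotientPrime R hN'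
    (motive := fun X _ _ _ => Subsingleton ((localCohomology I d).obj (ModuleCat.of R X)))
    ?_ ?_ ?_
  · intro X _ _ _ _
    exact subsingleton_of_subsingleton I d (ModuleCat.of R X)
  · intro X _ _ _ p f
    apply subsingleton_of_linearEquiv I d f.symm
    haveI := p.2
    by_cases hpd : ringKrullDim (R ⧸ p.1) = d
    · have hmin : p.1 ∈ minimalPrimes R := by
        refine ⟨⟨p.2, bot_le⟩, fun q ⟨hq, _⟩ hqp => ?_⟩
        by_contra hnot
        obtain ⟨x, hxp, hxq⟩ := SetLike.not_le_iff_exists.mp hnot
        haveI := hq
        have h1 := Groth.Agent.H29.ringKrullDim_quotient_succ_le_of_lt R q p.1 hqp x hxp hxq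
        have h2 : ringKrullDim (R ⧸ q) ≤ d := (ringKrullDim_quotient_le q).trans hd.le
        rw [hpd] at h1
        have h3 : ((d + 1 : ℕ) : WithBot ℕ∞) ≤ (d : ℕ) := by
          have := h1.trans h2
          exact_mod_cast this
        have h4 : d + 1 ≤ d := by exact_mod_cast h3
        omega
      obtain ⟨n, v, hv⟩ := Module.Finite.exists_fin (R := R) (M := M)
      exact subsingleton_quot_prime_of_mem_support I d hd p.1 hpd n M v hv
        (hsupp p.1 hmin hpd p.2) hvan
    · apply subsingleton_of_supportDim_lt
      rw [Module.supportDim_quotient_eq_ringKrullDim]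
      exact lt_of_le_of_ne ((ringKrullDim_quotient_le p.1).trans hd.le) hpd
  · intro N₁ _ _ _ N₂ _ _ _ N₃ _ _ _ f g hf hg hfg h₁ h₃
    exact subsingleton_mid I d f g hfg hf hg h₁ h₃

end Groth.Agent.H13.LC
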