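import Groth.Agent.H13.LCVanish

/-!
# Grothendieck's vanishing theorem for local cohomology
-/

set_option autoImplicit false
set_option linter.style.haveILetI false

open CategoryTheory Limits Opposite Pointwise

namespace Groth.Agent.H13.LC

universe u

variable {R : Type u} [CommRing R] (I : Ideal R)

theorem subsingleton_of_linearEquiv (i : ℕ) {A B : Type u} [AddCommGroup A] [Module R A]
    [AddCommGroup B] [Module R B] (e : A ≃ₗ[R] B)
    (hA : Subsingleton ((localCohomology I i).obj (ModuleCat.of R A))) :
    Subsingleton ((localCohomology I i).obj (ModuleCat.of R B)) := by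
  let iso := (localCohomology I i).mapIso e.toModuleIso
  have hinj : Function.Injective iso.inv.hom :=
    (ModuleCat.mono_iff_injective iso.inv).mp inferInstance
  exact hinj.subsingleton

/-- If `a ∈ I` is `M`-regular and `H^i_I(M/aM) = 0` then `H^{i+1}_I(M) = 0`. -/
theorem subsingleton_succ_of_isSMulRegular (i : ℕ) {M : Type u} [AddCommGroup M] [Module R M]
    (a : R) (ha : a ∈ I) (hreg : IsSMulRegular M a)
    (hC : Subsingleton ((localCohomology I i).obj (ModuleCat.of R (QuotSMulTop a M)))) :
    Subsingleton ((localCohomology I (i + 1)).obj (ModuleCat.of R M)) := by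
  refine subsingleton_succ_of_regular I i a ha (a • (⊤ : Submodule R M)).mkQ
    (Submodule.mkQ_surjective _) ?_ ?_ hC
  · intro m
    rw [Submodule.mkQ_apply, Submodule.Quotient.mk_eq_zero,
      Submodule.mem_smul_pointwise_iff_exists]
    constructor
    · rintro ⟨m', -, rfl⟩
      exact ⟨m', rfl⟩
    · rintro ⟨m', rfl⟩
      exact ⟨m', trivial, rfl⟩
  · intro x y hxy
    exact hreg hxy

lemma wb_aux (x : WithBot ℕ∞) (e : ℕ) (h : x + 1 ≤ (e : WithBot ℕ∞)) :
    x = ⊥ ∨ (0 < e ∧ x ≤ ((e - 1 : ℕ) : WithBot ℕ∞)) := by
  induction x using WithBot.recBotCoe with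
  | bot => exact Or.inl rfl
  | coe n =>
    right
    have h1 : n + 1 ≤ (e : ℕ∞) := by exact_mod_cast h
    have hn : n ≠ ⊤ := by
      rintro rfl
      simp at h1
    lift n to ℕ using hn
    have h2 : n + 1 ≤ e := by exact_mod_cast h1
    refine ⟨by omega, ?_⟩
    have h3 : n ≤ e - 1 := by omega
    show ((n : ℕ∞) : WithBot ℕ∞) ≤ (((e - 1 : ℕ) : ℕ∞) : WithBot ℕ∞)
    exact WithBot.coe_le_coe.mpr (by exact_mod_cast h3)

lemma wb_aux2 (x : WithBot ℕ∞) (j : ℕ) (h : x < ((j + 1 : ℕ) : WithBot ℕ∞)) :
    x ≤ (j : WithBot ℕ∞) := by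
  induction x using WithBot.recBotCoe with
  | bot => exact bot_le
  | coe n =>
    have h1 : n < ((j + 1 : ℕ) : ℕ∞) := by exact_mod_cast h
    have hn : n ≠ ⊤ := ne_top_of_lt h1
    lift n to ℕ using hn
    have h2 : n < j + 1 := by exact_mod_cast h1
    have h3 : n ≤ j := by omega
    show ((n : ℕ∞) : WithBot ℕ∞) ≤ ((j : ℕ∞) : WithBot ℕ∞)
    exact WithBot.coe_le_coe.mpr (by exact_mod_cast h3)

variable [IsNoetherianRing R]

/-- Grothendieck vanishing for finitely generated modules. -/
theorem subsingleton_of_supportDim_le (e : ℕ) :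
    ∀ (M : Type u) [AddCommGroup M] [Module R M], Module.Finite R M →
      Module.supportDim R M ≤ e → ∀ i, e < i →
      Subsingleton ((localCohomology I i).obj (ModuleCat.of R M)) := by
  induction e using Nat.strong_induction_on with
  | _ e IH =>
  intro M _ _ hM
  refine IsNoetherianRing.induction_on_isQuotientEquivQuotientPrime R hM
    (motive := fun N _ _ _ => Module.supportDim R N ≤ e → ∀ i, e < i →
      Subsingleton ((localCohomology I i).obj (ModuleCat.of R N))) ?_ ?_ ?_
  · intro N _ _ _ _ _ i _
    exact subsingleton_of_subsingleton I i (ModuleCat.of R N)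
  · intro N _ _ _ p f hdim i hi
    apply subsingleton_of_linearEquiv I i f.symm
    have hdim' : Module.supportDim R (R ⧸ p.1) ≤ e := (Module.supportDim_eq_of_equiv f) ▸ hdim
    obtain ⟨j, rfl⟩ : ∃ j, i = j + 1 := ⟨i - 1, by omega⟩
    by_cases hIp : I ≤ p.1
    · apply subsingleton_of_isPowerTorsion I j
      intro m
      refine ⟨1, fun a ha => ?_⟩
      rw [pow_one] at ha
      obtain ⟨r, rfl⟩ := Ideal.Quotient.mk_surjective m
      rw [← Ideal.Quotient.mk_eq_mk, ← Submodule.Quotient.mk_smul, Submodule.Quotient.mk_eq_zero]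
      exact Ideal.mul_mem_right _ _ (hIp ha)
    · obtain ⟨a, haI, hap⟩ := SetLike.not_le_iff_exists.mp hIp
      haveI := p.2
      have hreg : IsSMulRegular (R ⧸ p.1) a := by
        intro x y hxy
        obtain ⟨x, rfl⟩ := Ideal.Quotient.mk_surjective x
        obtain ⟨y, rfl⟩ := Ideal.Quotient.mk_surjective y
        have h1 : Ideal.Quotient.mk p.1 (a * (x - y)) = 0 := by
          rw [mul_sub, map_sub, sub_eq_zero]
          exact hxy
        rw [Ideal.Quotient.eq_zero_iff_mem] at h1
        have h2 := (p.2.mem_or_mem h1).resolve_left hap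
        rw [← sub_eq_zero, ← map_sub, Ideal.Quotient.eq_zero_iff_mem]
        exact h2
      have h1 : Module.supportDim R (QuotSMulTop a (R ⧸ p.1)) + 1 ≤
          Module.supportDim R (R ⧸ p.1) :=
        Module.supportDim_quotSMulTop_succ_le_of_notMem_minimalPrimes
          (fun q hq => hreg.notMem_of_mem_minimalPrimes hq)
      apply subsingleton_succ_of_isSMulRegular I j a haI hreg
      rcases wb_aux _ e (h1.trans hdim') with h2 | ⟨h2, h3⟩
      · haveI := (Module.supportDim_eq_bot_iff_subsingleton R _).mp h2
        exact subsingleton_of_subsingleton I j _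
      · exact IH (e - 1) (by omega) _ inferInstance h3 j (by omega)
  · intro N₁ _ _ _ N₂ _ _ _ N₃ _ _ _ f g hf hg hfg h₁ h₃ hdim i hi
    exact subsingleton_mid I i f g hfg hf hg
      (h₁ ((Module.supportDim_le_of_injective f hf).trans hdim) i hi)
      (h₃ ((Module.supportDim_le_of_surjective g hg).trans hdim) i hi)

/-- Grothendieck vanishing for arbitrary modules. -/
theorem subsingleton_of_supportDim_lt (M : Type u) [AddCommGroup M] [Module R M] (i : ℕ)
    (hi : Module.supportDim R M < (i : WithBot ℕ∞)) :
    Subsingleton ((localCohomology I i).obj (ModuleCat.of R M)) := by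
  have key : ∀ x : (localCohomology I i).obj (ModuleCat.of R M), x = 0 := by
    intro x
    obtain ⟨N, hN, y, rfl⟩ := exists_fg_rep I i M x
    have hfin : Module.Finite R N := Module.Finite.iff_fg.mpr hN
    have hle : Module.supportDim R N ≤ Module.supportDim R M :=
      Module.supportDim_le_of_injective N.subtype N.injective_subtype
    have hsub : Subsingleton ((localCohomology I i).obj (ModuleCat.of R N)) := by
      rcases Nat.eq_zero_or_pos i with rfl | hpos
      · have h0 : Module.supportDim R N = ⊥ := by
          have h1 : Module.supportDim R N < ((0 : ℕ) : WithBot ℕ∞) := lt_of_le_of_lt hle hi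
          induction h : Module.supportDim R N using WithBot.recBotCoe with
          | bot => rfl
          | coe n =>
            rw [h] at h1
            have : n < ((0 : ℕ) : ℕ∞) := by exact_mod_cast h1
            simp at this
        haveI := (Module.supportDim_eq_bot_iff_subsingleton R _).mp h0
        exact subsingleton_of_subsingleton I 0 _
      · obtain ⟨j, rfl⟩ : ∃ j, i = j + 1 := ⟨i - 1, by omega⟩
        exact subsingleton_of_supportDim_le I j N hfin
          (wb_aux2 _ j (lt_of_le_of_lt hle hi)) (j + 1) (by omega)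
    rw [hsub.elim y 0]
    exact map_zero _
  exact ⟨fun x y => by rw [key x, key y]⟩

end Groth.Agent.H13.LC
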