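import Groth.Agent.H13.LCBasic

/-!
# Additivity of local cohomology
-/

set_option autoImplicit false

open CategoryTheory Limits Opposite

namespace Groth.Agent.H13.DerivedLES

universe v v' u u'

variable {C : Type u} [Category.{v} C] [Abelian C] [HasProjectiveResolutions C]
  {D : Type u'} [Category.{v'} D] [Abelian D]

lemma natTrans_leftDerived_add {F G : C ⥤ D} [F.Additive] [G.Additive] (α β : F ⟶ G)
    (X : C) (n : ℕ) :
    (NatTrans.leftDerived (α + β) n).app X =
      (NatTrans.leftDerived α n).app X + (NatTrans.leftDerived β n).app X := by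
  rw [(projectiveResolution X).leftDerived_app_eq (α + β) n,
    (projectiveResolution X).leftDerived_app_eq α n,
    (projectiveResolution X).leftDerived_app_eq β n]
  have : (NatTrans.mapHomologicalComplex (α + β) (ComplexShape.down ℕ)).app
      (projectiveResolution X).complex =
      (NatTrans.mapHomologicalComplex α (ComplexShape.down ℕ)).app
        (projectiveResolution X).complex +
      (NatTrans.mapHomologicalComplex β (ComplexShape.down ℕ)).app
        (projectiveResolution X).complex := by
    ext k
    rfl
  rw [this]
  simp only [HomologicalComplex.homologyFunctor_map]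
  rw [HomologicalComplex.homologyMap_add]
  erw [Preadditive.add_comp, Preadditive.comp_add]

end Groth.Agent.H13.DerivedLES

namespace Groth.Agent.H13.ExtLES

universe v u w

variable {R : Type w} [CommRing R] {C : Type u} [Category.{v} C] [Abelian C] [Linear R C]
  [EnoughProjectives C]

lemma FYmap_add {Y Y' : C} (g g' : Y ⟶ Y') : FYmap R (g + g') = FYmap R g + FYmap R g' := by
  ext X
  apply Quiver.Hom.unop_inj
  ext (h : X ⟶ Y)
  exact Preadditive.comp_add _ _ _ h g g'

theorem ext_map_add₂ (X : C) {Y Y' : C} (g g' : Y ⟶ Y') (n : ℕ) :
    ((Ext R C n).obj (op X)).map (g + g') =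
      ((Ext R C n).obj (op X)).map g + ((Ext R C n).obj (op X)).map g' := by
  change ((NatTrans.leftDerived (FYmap R (g + g')) n).app X).unop =
    ((NatTrans.leftDerived (FYmap R g) n).app X).unop +
      ((NatTrans.leftDerived (FYmap R g') n).app X).unop
  rw [FYmap_add, DerivedLES.natTrans_leftDerived_add]
  rfl

end Groth.Agent.H13.ExtLES

namespace Groth.Agent.H13.LC

universe u

variable {R : Type u} [CommRing R] (I : Ideal R)

lemma map_add (i : ℕ) {M M' : ModuleCat.{u} R} (f g : M ⟶ M') :
    (localCohomology I i).map (f + g) =
      (localCohomology I i).map f + (localCohomology I i).map g := by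
  apply hom_ext_ιM
  intro j
  rw [ιM_map, Preadditive.comp_add, ιM_map, ιM_map, ← Preadditive.add_comp]
  congr 1
  exact ExtLES.ext_map_add₂ (XI I j) f g i

instance additive (i : ℕ) : (localCohomology I i).Additive where
  map_add := map_add I i _ _

end Groth.Agent.H13.LC
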