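import Groth.Agent.H13.LCDepth
import Groth.Agent.H13.LCAdd

/-!
# Faltings: finiteness of local cohomology versus annihilation by a power of the ideal
-/

set_option autoImplicit false
set_option linter.style.haveILetI false

open CategoryTheory Limits Opposite Pointwise RingTheory.Sequence

namespace Groth.Agent.H13.LC

universe u

variable {R : Type u} [CommRing R] (I : Ideal R)

lemma exists_pow_kills_of_finite (N : Type u) [AddCommGroup N] [Module R N] [Module.Finite R N]
    (h : LocCoh.IsPowerTorsion I N) : ∃ k : ℕ, ∀ a ∈ I ^ k, ∀ x : N, a • x = 0 := by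
  classical
  obtain ⟨s, hs⟩ := Module.finite_def.mp ‹Module.Finite R N›
  choose n hn using h
  refine ⟨s.sup n, fun a ha x => ?_⟩
  have hx : x ∈ Submodule.span R (s : Set N) := hs ▸ Submodule.mem_top
  induction hx using Submodule.span_induction with
  | mem y hy => exact hn y a (Ideal.pow_le_pow_right (Finset.le_sup hy) ha)
  | zero => exact smul_zero a
  | add y z _ _ hy hz => rw [smul_add, hy, hz, add_zero]
  | smul r y _ hy => rw [smul_comm, hy, smul_zero]

/-- Annihilation passes to the middle of an exact sequence, adding exponents. -/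
lemma kills_mid {A B C : Type u} [AddCommGroup A] [Module R A] [AddCommGroup B] [Module R B]
    [AddCommGroup C] [Module R C] (f : A →ₗ[R] B) (g : B →ₗ[R] C) (h : Function.Exact f g)
    (k l : ℕ) (hA : ∀ a ∈ I ^ k, ∀ x : A, a • x = 0) (hC : ∀ a ∈ I ^ l, ∀ x : C, a • x = 0) :
    ∀ a ∈ I ^ (k + l), ∀ x : B, a • x = 0 := by
  intro c hc x
  rw [pow_add] at hc
  refine Submodule.mul_induction_on hc ?_ ?_
  · intro u hu v hv
    have h1 : g (v • x) = 0 := by rw [_root_.map_smul, hC v hv]
    obtain ⟨y, hy⟩ := (h _).mp h1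
    rw [mul_smul, ← hy, ← _root_.map_smul, hA u hu, map_zero]
  · intro c d hc hd
    rw [add_smul, hc, hd, add_zero]

variable [IsNoetherianRing R]

lemma torsionSub_quotient_eq_bot (M : Type u) [AddCommGroup M] [Module R M] [Module.Finite R M] :
    DRing.torsionSub I (M ⧸ DRing.torsionSub I M) = ⊥ := by
  haveI : IsNoetherian R M := isNoetherian_of_isNoetherianRing_of_finite R M
  obtain ⟨b, hb⟩ := exists_pow_kills_of_finite I (DRing.torsionSub I M)
    (isPowerTorsion_torsionSub I M)
  rw [eq_bot_iff]
  rintro mbar ⟨a, ha⟩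
  obtain ⟨m, rfl⟩ := Submodule.mkQ_surjective _ mbar
  rw [Submodule.mem_bot, Submodule.mkQ_apply, Submodule.Quotient.mk_eq_zero]
  refine ⟨b + a, fun c hc => ?_⟩
  rw [pow_add] at hc
  refine Submodule.mul_induction_on hc ?_ ?_
  · intro u hu v hv
    have hvm : v • m ∈ DRing.torsionSub I M := by
      have := ha v hv
      rwa [← _root_.map_smul, Submodule.mkQ_apply, Submodule.Quotient.mk_eq_zero] at this
    have := hb u hu ⟨v • m, hvm⟩
    rw [mul_smul]
    exact congrArg Subtype.val this
  · intro c d hc hd
    rw [add_smul, hc, hd, add_zero]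

lemma exists_isSMulRegular_of_torsionSub_eq_bot (M : Type u) [AddCommGroup M] [Module R M]
    [Module.Finite R M] (htors : DRing.torsionSub I M = ⊥) : ∃ x ∈ I, IsSMulRegular M x := by
  apply Groth.Agent.H29.exists_isSMulRegular_mem_of_forall_not_le R M I
  intro q hq hIq
  obtain ⟨-, m, hm⟩ := isAssociatedPrime_iff.mp hq
  have hm0 : m ≠ 0 := by
    rintro rfl
    have : (1 : R) ∈ q := by rw [hm]; simp
    exact hq.isPrime.ne_top ((Ideal.eq_top_iff_one q).mpr this)
  have hmt : m ∈ DRing.torsionSub I M := by
    refine ⟨1, fun a ha => ?_⟩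
    rw [pow_one] at ha
    have : a ∈ q := hIq ha
    rw [hm, Submodule.mem_colon_singleton] at this
    simpa using this
  rw [htors, Submodule.mem_bot] at hmt
  exact hm0 hmt

lemma finite_H0 (M : Type u) [AddCommGroup M] [Module R M] [Module.Finite R M] :
    Module.Finite R ((localCohomology I 0).obj (ModuleCat.of R M)) := by
  haveI : IsNoetherian R M := isNoetherian_of_isNoetherianRing_of_finite R M
  exact Module.Finite.of_injective (ε I (ModuleCat.of R M)).hom (ε_injective I _)

/-- Faltings: if a power of `I` kills `H^i_I(M)` for all `i ≤ n` then these are finite. -/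
theorem finite_of_kills (n : ℕ) :
    ∀ (M : Type u) [AddCommGroup M] [Module R M], Module.Finite R M → ∀ k : ℕ,
      (∀ i ≤ n, ∀ a ∈ I ^ k, ∀ x : (localCohomology I i).obj (ModuleCat.of R M), a • x = 0) →
      ∀ i ≤ n, Module.Finite R ((localCohomology I i).obj (ModuleCat.of R M)) := by
  induction n with
  | zero =>
    intro M _ _ hfin k _ i hi
    obtain rfl : i = 0 := by omega
    exact finite_H0 I M
  | succ n ih =>
    intro M _ _ hfin k hk i hi
    rcases Nat.lt_or_ge i (n + 1) with hlt | hge
    · exact ih M hfin k (fun j hj => hk j (by omega)) i (by omega)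
    obtain rfl : i = n + 1 := by omega
    -- pass to `M' = M / Γ_I(M)`
    have htors' := torsionSub_quotient_eq_bot I M
    have hbij := fun j (hj : 0 < j) => map_mkQ_bijective I M j hj
    have hk' : ∀ j ≤ n + 1, ∀ a ∈ I ^ k, ∀ x : (localCohomology I j).obj
        (ModuleCat.of R (M ⧸ DRing.torsionSub I M)), a • x = 0 := by
      intro j hj a ha x
      rcases Nat.eq_zero_or_pos j with rfl | hpos
      · haveI := subsingleton_H0 I (ModuleCat.of R (M ⧸ DRing.torsionSub I M)) htors'
        exact Subsingleton.elim _ _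
      · obtain ⟨x0, rfl⟩ := (hbij j hpos).2 x
        rw [← _root_.map_smul, hk j hj a ha x0, map_zero]
    obtain ⟨x, hxI, hreg⟩ := exists_isSMulRegular_of_torsionSub_eq_bot I
      (M ⧸ DRing.torsionSub I M) htors'
    have hyI : x ^ k ∈ I ^ k := Ideal.pow_mem_pow hxI k
    have hyreg : IsSMulRegular (M ⧸ DRing.torsionSub I M) (x ^ k) := hreg.pow k
    have hinj : Function.Injective ((x ^ k) • (LinearMap.id :
        (M ⧸ DRing.torsionSub I M) →ₗ[R] (M ⧸ DRing.torsionSub I M))) := fun a b hab => hyreg hab
    have hS := scLin_shortExact _ _ (exact_smul_mkQ (M := M ⧸ DRing.torsionSub I M) (x ^ k)) hinj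
      (Submodule.mkQ_surjective _)
    -- annihilation for the quotient
    have hkN : ∀ j ≤ n, ∀ a ∈ I ^ (k + k), ∀ z : (localCohomology I j).obj
        (ModuleCat.of R (QuotSMulTop (x ^ k) (M ⧸ DRing.torsionSub I M))), a • z = 0 := by
      intro j hj
      exact kills_mid I _ _ (exact₃ I _ hS j) k k (hk' j (by omega)) (hk' (j + 1) (by omega))
    have hfinN := ih (QuotSMulTop (x ^ k) (M ⧸ DRing.torsionSub I M)) inferInstance (k + k) hkN n
      le_rfl
    -- δ is surjective
    have hsurj : Function.Surjective (δ I _ hS n).hom := by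
      intro z
      have h1 : ((localCohomology I (n + 1)).map (scLin _ _
          (exact_smul_mkQ (M := M ⧸ DRing.torsionSub I M) (x ^ k))).f).hom z = 0 :=
        (map_smul_id_apply I (n + 1) _ (x ^ k) z).trans (hk' (n + 1) le_rfl _ hyI z)
      exact (exact₁ I _ hS n z).mp h1
    have hfinM' : Module.Finite R ((localCohomology I (n + 1)).obj
        (ModuleCat.of R (M ⧸ DRing.torsionSub I M))) := by
      haveI : Module.Finite R ((localCohomology I n).obj (scLin _ _
          (exact_smul_mkQ (M := M ⧸ DRing.torsionSub I M) (x ^ k))).X₃) := hfinN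
      exact Module.Finite.of_surjective (δ I _ hS n).hom hsurj
    exact Module.Finite.equiv (LinearEquiv.ofBijective _ (hbij (n + 1) (Nat.succ_pos n))).symm

end Groth.Agent.H13.LC
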