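import Groth.Agent.H13.LCPrincipal

/-!
# Cohomological dimension and the number of generators
-/

set_option autoImplicit false

open CategoryTheory Limits Opposite

namespace Groth.Agent.H13.LC

universe u

variable {R : Type u} [CommRing R]

lemma torsionSub_anti {I J : Ideal R} (h : I ≤ J) (M : Type u) [AddCommGroup M] [Module R M] :
    DRing.torsionSub J M ≤ DRing.torsionSub I M := by
  rintro m ⟨n, hn⟩
  exact ⟨n, fun a ha => hn a (Ideal.pow_right_mono h n ha)⟩

lemma mem_torsionSub_sup {I K : Ideal R} {M : Type u} [AddCommGroup M] [Module R M] {m : M}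
    (h1 : m ∈ DRing.torsionSub I M) (h2 : m ∈ DRing.torsionSub K M) :
    m ∈ DRing.torsionSub (I ⊔ K) M := by
  obtain ⟨n, hn⟩ := h1
  obtain ⟨k, hk⟩ := h2
  refine ⟨n + k, fun b hb => ?_⟩
  have hb' := Ideal.sup_pow_add_le_pow_sup_pow hb
  obtain ⟨b1, hb1, b2, hb2, rfl⟩ := Submodule.mem_sup.mp hb'
  rw [add_smul, hn b1 hb1, hk b2 hb2, add_zero]

lemma torsionSub_eq_bot_of_subsingleton_H0 (I : Ideal R) (M : Type u) [AddCommGroup M]
    [Module R M] (h : Subsingleton ((localCohomology I 0).obj (ModuleCat.of R M))) :
    DRing.torsionSub I M = ⊥ := by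
  rw [eq_bot_iff]
  intro m hm
  have hm' : m ∈ DRing.torsionSub I (ModuleCat.of R M) := hm
  rw [← range_ε] at hm'
  obtain ⟨x, rfl⟩ := hm'
  rw [Subsingleton.elim x 0, map_zero]
  exact Submodule.zero_mem _

section Noeth

variable [IsNoetherianRing R]

/-- Fact A: on `K`-power-torsion modules, vanishing of `H^i_I` implies vanishing of
`H^i_{I ⊔ K}`. -/
theorem subsingleton_sup_of_isPowerTorsion (I K : Ideal R) (i : ℕ) :
    ∀ (N : Type u) [AddCommGroup N] [Module R N], LocCoh.IsPowerTorsion K N →
      Subsingleton ((localCohomology I i).obj (ModuleCat.of R N)) →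
      Subsingleton ((localCohomology (I ⊔ K) i).obj (ModuleCat.of R N)) := by
  rcases i with _ | i
  · intro N _ _ _ h
    apply subsingleton_H0
    have := torsionSub_eq_bot_of_subsingleton_H0 I N h
    exact eq_bot_iff.mpr (le_trans (torsionSub_anti le_sup_left N) (le_of_eq this))
  induction i with
  | zero =>
    intro N _ _ hN h
    obtain ⟨A, _, _, f, hf, hA, hAt⟩ := exists_embedding K N hN
    have hS := scInj_shortExact f hf
    have hinj : Injective (ModuleCat.of R A) := Module.injective_object_of_injective_module R A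
    have hIsurj : Function.Surjective ((localCohomology I 0).map (scInj f).g).hom := by
      intro y
      have : (δ I (scInj f) hS 0).hom y = 0 :=
        @Subsingleton.elim _ h _ _
      exact (exact₃ I (scInj f) hS 0 y).mp this
    have hJsurj : Function.Surjective ((localCohomology (I ⊔ K) 0).map (scInj f).g).hom := by
      apply H0_map_surjective
      intro q hq
      have hq' : q ∈ DRing.torsionSub I (scInj f).X₃ := torsionSub_anti le_sup_left _ hq
      rw [← range_ε] at hq'
      obtain ⟨y', rfl⟩ := hq'
      obtain ⟨z', rfl⟩ := hIsurj y'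
      refine ⟨(ε I (scInj f).X₂).hom z', ?_, (ε_naturality_apply I (scInj f).g z').symm⟩
      apply mem_torsionSub_sup
      · rw [← range_ε]; exact ⟨z', rfl⟩
      · exact hAt _
    have key : ∀ x : (localCohomology (I ⊔ K) 1).obj (ModuleCat.of R N), x = 0 := by
      intro x
      have h1 : ((localCohomology (I ⊔ K) 1).map (scInj f).f).hom x = 0 :=
        (subsingleton_of_injective (I ⊔ K) 0 (ModuleCat.of R A)).elim _ _
      obtain ⟨y, rfl⟩ := (exact₁ (I ⊔ K) (scInj f) hS 0 x).mp h1
      obtain ⟨z, rfl⟩ := hJsurj y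
      exact (exact₃ (I ⊔ K) (scInj f) hS 0).apply_apply_eq_zero z
    exact ⟨fun x y => by rw [key x, key y]⟩
  | succ p ih =>
    intro N _ _ hN h
    obtain ⟨A, _, _, f, hf, hA, hAt⟩ := exists_embedding K N hN
    have hS := scInj_shortExact f hf
    have hinj : Injective (ModuleCat.of R A) := Module.injective_object_of_injective_module R A
    have hC : LocCoh.IsPowerTorsion K (A ⧸ LinearMap.range f) := isPowerTorsion_quotient K hAt _
    have hδinj : Function.Injective (δ I (scInj f) hS (p + 1)).hom := by
      rw [injective_iff_map_eq_zero]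
      intro y hy
      obtain ⟨z, rfl⟩ := (exact₃ I (scInj f) hS (p + 1) y).mp hy
      have : Subsingleton ((localCohomology I (p + 1)).obj (scInj f).X₂) :=
        subsingleton_of_injective I p (ModuleCat.of R A)
      rw [Subsingleton.elim z 0]
      exact map_zero _
    have hQI : Subsingleton ((localCohomology I (p + 1)).obj
        (ModuleCat.of R (A ⧸ LinearMap.range f))) :=
      ⟨fun x y => hδinj (@Subsingleton.elim _ h _ _)⟩
    have hQJ : Subsingleton ((localCohomology (I ⊔ K) (p + 1)).obj (scInj f).X₃) :=
      ih _ hC hQI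
    have key : ∀ x : (localCohomology (I ⊔ K) (p + 1 + 1)).obj (ModuleCat.of R N), x = 0 := by
      intro x
      have h1 : ((localCohomology (I ⊔ K) (p + 1 + 1)).map (scInj f).f).hom x = 0 :=
        (subsingleton_of_injective (I ⊔ K) (p + 1) (ModuleCat.of R A)).elim _ _
      obtain ⟨y, rfl⟩ := (exact₁ (I ⊔ K) (scInj f) hS (p + 1) x).mp h1
      rw [Subsingleton.elim y 0]
      exact map_zero _
    exact ⟨fun x y => by rw [key x, key y]⟩

/-- Adding one generator raises the cohomological dimension by at most one. -/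
theorem cdLE_sup_span_singleton (I : Ideal R) (a : R) (d : ℕ) (hI : LocCoh.CdLE R I d) :
    LocCoh.CdLE R (I ⊔ Ideal.span {a}) (d + 1) := by
  intro M _ _ i hi
  obtain ⟨i, rfl⟩ : ∃ j, i = j + 1 := ⟨i - 1, by omega⟩
  have hdi : d < i := by omega
  let K : Ideal R := Ideal.span {a}
  let J : Ideal R := I ⊔ K
  let L := LocalizedModule (Submonoid.powers a) M
  let η : M →ₗ[R] L := LocalizedModule.mkLinearMap (Submonoid.powers a) M
  let T := DRing.torsionSub K M
  have hker : LinearMap.ker η = T := ker_mkLinearMap_powers a M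
  let η' : (M ⧸ T) →ₗ[R] L := T.liftQ η (le_of_eq hker.symm)
  have hη' : Function.Injective η' := by
    rw [← LinearMap.ker_eq_bot]
    exact Submodule.ker_liftQ_eq_bot' T η hker.symm
  have hrange : LinearMap.range η' = LinearMap.range η := Submodule.range_liftQ T η _
  have hS2 := scInj_shortExact η' hη'
  have hS1 := scSub_shortExact T
  have hL : ∀ k, Subsingleton ((localCohomology J k).obj (scInj η').X₂) := fun k =>
    subsingleton_of_smul_bijective J a
      (Ideal.mem_sup_right (Ideal.mem_span_singleton_self a)) L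
      (smul_bijective_localizedModule a M) k
  have hQ : LocCoh.IsPowerTorsion K (L ⧸ LinearMap.range η') :=
    isPowerTorsion_coker_localization a M _ (le_of_eq hrange.symm)
  have hT : Subsingleton ((localCohomology J (i + 1)).obj (scSub T).X₁) :=
    subsingleton_sup_of_isPowerTorsion I K (i + 1) T (isPowerTorsion_torsionSub K M)
      (hI T (i + 1) (by omega))
  have hC : Subsingleton ((localCohomology J i).obj (scInj η').X₃) :=
    subsingleton_sup_of_isPowerTorsion I K i _ hQ (hI _ i hdi)
  have hM' : ∀ x : (localCohomology J (i + 1)).obj (ModuleCat.of R (M ⧸ T)), x = 0 := by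
    intro x
    have := hL (i + 1)
    have h1 : ((localCohomology J (i + 1)).map (scInj η').f).hom x = 0 := Subsingleton.elim _ _
    obtain ⟨y, rfl⟩ := (exact₁ J (scInj η') hS2 i x).mp h1
    rw [Subsingleton.elim y 0]
    exact map_zero _
  have key : ∀ x : (localCohomology J (i + 1)).obj (ModuleCat.of R M), x = 0 := by
    intro x
    have h1 : ((localCohomology J (i + 1)).map (scSub T).g).hom x = 0 := hM' _
    obtain ⟨y, rfl⟩ := (exact₂ J (scSub T) hS1 (i + 1) x).mp h1
    rw [Subsingleton.elim y 0]
    exact map_zero _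
  exact ⟨fun x y => by rw [key x, key y]⟩

lemma cdLE_bot : LocCoh.CdLE R (⊥ : Ideal R) 0 := by
  intro M _ _ i hi
  obtain ⟨i, rfl⟩ : ∃ j, i = j + 1 := ⟨i - 1, by omega⟩
  apply subsingleton_of_isPowerTorsion
  intro m
  refine ⟨1, fun a ha => ?_⟩
  rw [pow_one, Ideal.mem_bot] at ha
  rw [ha, zero_smul]

/-- `cd(R, (s)) ≤ |s|` over a Noetherian ring. -/
theorem cdLE_span_finset (s : Finset R) : LocCoh.CdLE R (Ideal.span (s : Set R)) s.card := by
  classical
  induction s using Finset.induction_on with
  | empty =>
    rw [Finset.coe_empty, Ideal.span_empty, Finset.card_empty]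
    exact cdLE_bot
  | insert a s ha ih =>
    rw [Finset.coe_insert, Ideal.span_insert, Finset.card_insert_of_notMem ha, sup_comm]
    exact cdLE_sup_span_singleton _ a _ ih

end Noeth

end Groth.Agent.H13.LC
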