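import Groth.Agent.H13.LCDExact
import Groth.Agent.H13.LCGen

/-!
# Local cohomology depends only on the radical of the ideal (vanishing form)
-/

set_option autoImplicit false
set_option linter.style.haveILetI false

open CategoryTheory Limits Opposite Pointwise

namespace Groth.Agent.H13.LC

universe u

variable {R : Type u} [CommRing R]

lemma torsionSub_le_of_le_radical (J J' : Ideal R) (hfg : J'.FG) (h : J' ≤ J.radical)
    (M : Type u) [AddCommGroup M] [Module R M] :
    DRing.torsionSub J M ≤ DRing.torsionSub J' M := by
  obtain ⟨a, ha⟩ := Ideal.exists_pow_le_of_le_radical_of_fg h hfg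
  rintro x ⟨n, hn⟩
  refine ⟨a * n, fun b hb => hn b ?_⟩
  rw [pow_mul] at hb
  exact Ideal.pow_right_mono ha n hb

lemma torsionSub_eq_of_radical_eq [IsNoetherianRing R] (J J' : Ideal R)
    (h : J.radical = J'.radical) (M : Type u) [AddCommGroup M] [Module R M] :
    DRing.torsionSub J M = DRing.torsionSub J' M :=
  le_antisymm
    (torsionSub_le_of_le_radical J J' (IsNoetherian.noetherian _)
      (h ▸ Ideal.le_radical) M)
    (torsionSub_le_of_le_radical J' J (IsNoetherian.noetherian _)
      (h ▸ Ideal.le_radical) M)

/-- If two ideals have the same torsion functor, vanishing of local cohomology transfers. -/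
theorem subsingleton_of_torsionSub_eq (J J' : Ideal R)
    (hT : ∀ (N : Type u) [AddCommGroup N] [Module R N],
      DRing.torsionSub J N = DRing.torsionSub J' N) (i : ℕ) :
    ∀ (M : Type u) [AddCommGroup M] [Module R M],
      Subsingleton ((localCohomology J i).obj (ModuleCat.of R M)) →
      Subsingleton ((localCohomology J' i).obj (ModuleCat.of R M)) := by
  induction i with
  | zero =>
    intro M _ _ h
    apply subsingleton_H0
    change DRing.torsionSub J' M = ⊥
    rw [← hT]
    exact torsionSub_eq_bot_of_subsingleton_H0 J M h
  | succ i ih =>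
    intro M _ _ h
    obtain ⟨E, _, _, f, hf, hE⟩ := exists_injective_embedding (R := R) M
    haveI hEo : Injective (ModuleCat.of R E) := Module.injective_object_of_injective_module R _
    have hex := LinearMap.exact_map_mkQ_range f
    have hg := Submodule.mkQ_surjective (LinearMap.range f)
    have hS := scLin_shortExact f _ hex hf hg
    haveI h1 : Subsingleton ((localCohomology J (i + 1)).obj (ModuleCat.of R E)) :=
      subsingleton_of_injective J i _
    haveI h1' : Subsingleton ((localCohomology J' (i + 1)).obj (ModuleCat.of R E)) :=
      subsingleton_of_injective J' i _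
    have hδ' : Function.Surjective (δ J' _ hS i).hom := by
      intro y
      exact (exact₁ J' _ hS i y).mp (h1'.elim _ _)
    suffices hsurj : Function.Surjective
        ((localCohomology J' i).map (scLin f _ hex).g).hom by
      refine ⟨fun a b => ?_⟩
      obtain ⟨za, rfl⟩ := hδ' a
      obtain ⟨zb, rfl⟩ := hδ' b
      obtain ⟨wa, rfl⟩ := hsurj za
      obtain ⟨wb, rfl⟩ := hsurj zb
      exact ((exact₃ J' _ hS i).apply_apply_eq_zero wa).trans
        ((exact₃ J' _ hS i).apply_apply_eq_zero wb).symm
    have hsurjJ : Function.Surjective ((localCohomology J i).map (scLin f _ hex).g).hom := by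
      intro z
      exact (exact₃ J _ hS i z).mp (h.elim _ _)
    rcases i with _ | i
    · apply H0_map_surjective
      intro q hq
      have hq' : q ∈ DRing.torsionSub J (E ⧸ LinearMap.range f) := by
        rw [hT]
        exact hq
      have hq'' : q ∈ LinearMap.range (ε J (scLin f _ hex).X₃).hom := by
        rw [range_ε]
        exact hq'
      obtain ⟨z, rfl⟩ := hq''
      obtain ⟨w, rfl⟩ := hsurjJ z
      refine ⟨(ε J _).hom w, ?_, (ε_naturality_apply J _ w).symm⟩
      have hw : (ε J (scLin f _ hex).X₂).hom w ∈ DRing.torsionSub J E := by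
        have : (ε J (scLin f _ hex).X₂).hom w ∈ LinearMap.range (ε J (scLin f _ hex).X₂).hom :=
          ⟨w, rfl⟩
        rw [range_ε] at this
        exact this
      rw [hT] at hw
      exact hw
    · have hQ : Subsingleton ((localCohomology J (i + 1)).obj
          (ModuleCat.of R (E ⧸ LinearMap.range f))) := by
        refine ⟨fun a b => ?_⟩
        obtain ⟨wa, rfl⟩ := hsurjJ a
        obtain ⟨wb, rfl⟩ := hsurjJ b
        have hE1 : Subsingleton ((localCohomology J (i + 1)).obj (ModuleCat.of R E)) :=
          subsingleton_of_injective J i _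
        exact congrArg _ (hE1.elim wa wb)
      have hQ' := ih (E ⧸ LinearMap.range f) hQ
      intro z
      exact ⟨0, hQ'.elim _ _⟩

/-- Over a Noetherian ring, vanishing of local cohomology depends only on the radical. -/
theorem subsingleton_iff_of_radical_eq [IsNoetherianRing R] (J J' : Ideal R)
    (h : J.radical = J'.radical) (i : ℕ) (M : Type u) [AddCommGroup M] [Module R M] :
    Subsingleton ((localCohomology J i).obj (ModuleCat.of R M)) ↔
      Subsingleton ((localCohomology J' i).obj (ModuleCat.of R M)) :=
  ⟨subsingleton_of_torsionSub_eq J J' (fun N _ _ => torsionSub_eq_of_radical_eq J J' h N) i M,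
    subsingleton_of_torsionSub_eq J' J (fun N _ _ => torsionSub_eq_of_radical_eq J' J h.symm N) i M⟩

/-- Cohomological dimension depends only on the radical. -/
theorem cdLE_of_radical_eq [IsNoetherianRing R] (J J' : Ideal R)
    (h : J.radical = J'.radical) (d : ℕ) (hJ : LocCoh.CdLE R J d) : LocCoh.CdLE R J' d :=
  fun M _ _ i hi => (subsingleton_iff_of_radical_eq J J' h i M).mp (hJ M i hi)

end Groth.Agent.H13.LC
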