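import Groth.Agent.H13.LCBaseIndep
import Groth.Agent.H13.LCNonVan
import Groth.Agent.H13.LCRad

/-!
# Cohomological dimension: base change, and the bound `ht p ≤ cd(I)` for minimal primes
-/

set_option autoImplicit false
set_option linter.style.haveILetI false

open CategoryTheory Limits Opposite Pointwise

namespace Groth.Agent.H13.LC

universe u

variable {R : Type u} [CommRing R] [IsNoetherianRing R]

/-- Cohomological dimension does not increase under base change (independence of the base). -/
theorem cdLE_map (R' : Type u) [CommRing R'] [IsNoetherianRing R'] [Algebra R R'] (I : Ideal R)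
    (d : ℕ) (h : LocCoh.CdLE R I d) : LocCoh.CdLE R' (I.map (algebraMap R R')) d := by
  intro M' _ _ i hi
  letI : Module R M' := Module.compHom M' (algebraMap R R')
  haveI : IsScalarTower R R' M' := ⟨fun r r' x => by
    change (r • r') • x = (algebraMap R R' r) • (r' • x)
    rw [Algebra.smul_def, mul_smul]⟩
  obtain ⟨φ, -⟩ := exists_equiv (R := R) (R' := R') I i M'
  haveI : Subsingleton ((localCohomology I i).obj (ModuleCat.of R M')) := h M' i hi
  exact φ.injective.subsingleton

/-- The height of a minimal prime of `I` is at most the cohomological dimension of `I`. -/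
theorem height_le_of_cdLE (I : Ideal R) (d : ℕ) (hcd : LocCoh.CdLE R I d) (p : Ideal R)
    (hp : p ∈ I.minimalPrimes) : p.height ≤ d := by
  haveI : p.IsPrime := hp.1.1
  have hcd' := cdLE_map (Localization.AtPrime p) I d hcd
  have hrad : (I.map (algebraMap R (Localization.AtPrime p))).radical =
      (IsLocalRing.maximalIdeal (Localization.AtPrime p)).radical := by
    rw [IsLocalization.AtPrime.radical_map_of_mem_minimalPrimes (Localization.AtPrime p) p I hp,
      IsLocalization.AtPrime.map_eq_maximalIdeal p (Localization.AtPrime p),
      Ideal.IsPrime.radical inferInstance]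
  have hcd'' := cdLE_of_radical_eq _ _ hrad d hcd'
  have hdim := IsLocalization.AtPrime.ringKrullDim_eq_height p (Localization.AtPrime p)
  have hfin : p.height ≠ ⊤ := Ideal.height_ne_top hp.1.1.ne_top
  obtain ⟨h, hh⟩ := ENat.ne_top_iff_exists.mp hfin
  rw [← hh]
  by_contra hgt
  rw [not_le] at hgt
  have hlt : d < h := by exact_mod_cast hgt
  have hnt := nontrivial_top (R := Localization.AtPrime p) (Localization.AtPrime p) h (by
    rw [Module.supportDim_self_eq_ringKrullDim, hdim, ← hh]
    rfl)
  exact not_subsingleton _ (hcd'' (Localization.AtPrime p) h hlt)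

end Groth.Agent.H13.LC
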