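import Groth.Agent.H13.LCRadIso
import Groth.Agent.H13.LCLocal
import Groth.Agent.H13.LCFaltings

/-!
# Annihilators of local cohomology: non-annihilation results
-/

set_option autoImplicit false
set_option linter.style.haveILetI false

open CategoryTheory Limits Opposite TensorProduct

namespace Groth.Agent.H13.LC

universe u

variable {R : Type u} [CommRing R]

/-- The height of an ideal is attained at a minimal prime. -/
theorem exists_minimalPrimes_height_eq (I : Ideal R) (h : ℕ) (hh : I.height = h) :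
    ∃ p ∈ I.minimalPrimes, p.height = h := by
  by_contra hcon
  have hcon' : ∀ p ∈ I.minimalPrimes, p.height ≠ h := fun p hp hph => hcon ⟨p, hp, hph⟩
  have h1 : ((h + 1 : ℕ) : ℕ∞) ≤ I.height := by
    rw [Ideal.height_eq_inf_minimalPrimes]
    refine le_iInf₂ (fun p hp => ?_)
    have h2 : I.height ≤ p.height := by
      rw [Ideal.height_eq_inf_minimalPrimes I]
      exact iInf₂_le p hp
    rw [hh] at h2
    have h3 : (h : ℕ∞) < p.height := lt_of_le_of_ne h2 (Ne.symm (hcon' p hp))
    rw [Nat.cast_add, Nat.cast_one]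
    exact Order.add_one_le_of_lt h3
  rw [hh] at h1
  have : h + 1 ≤ h := by exact_mod_cast h1
  omega

/-- Local cohomology of isomorphic modules. -/
theorem exists_linearEquiv_of_linearEquiv (I : Ideal R) (i : ℕ) {A B : Type u} [AddCommGroup A]
    [Module R A] [AddCommGroup B] [Module R B] (e : A ≃ₗ[R] B) :
    Nonempty (((localCohomology I i).obj (ModuleCat.of R A)) ≃ₗ[R]
      ((localCohomology I i).obj (ModuleCat.of R B))) :=
  ⟨((localCohomology I i).mapIso e.toModuleIso).toLinearEquiv⟩

/-- If `γ` kills `H`, its image kills `R' ⊗ H`. -/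
lemma kills_baseChange (R' : Type u) [CommRing R'] [Algebra R R'] {H : Type u} [AddCommGroup H]
    [Module R H] (γ : R) (h : ∀ y : H, γ • y = 0) (w : R' ⊗[R] H) :
    algebraMap R R' γ • w = 0 := by
  induction w using TensorProduct.induction_on with
  | zero => exact smul_zero _
  | tmul d x =>
    rw [TensorProduct.smul_tmul', smul_eq_mul, ← Algebra.smul_def, TensorProduct.smul_tmul, h x,
      TensorProduct.tmul_zero]
  | add y z hy hz => rw [smul_add, hy, hz, add_zero]

/-- Over a one-dimensional Noetherian local domain, no nonzero element kills `H^1_m`. -/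
theorem not_kills_elt [IsNoetherianRing R] [IsLocalRing R] [IsDomain R]
    (hdim : ringKrullDim R = 1) (γ : R) (hγ : γ ≠ 0) :
    ¬ ∀ y : (localCohomology (IsLocalRing.maximalIdeal R) 1).obj (ModuleCat.of R R),
      γ • y = 0 := by
  intro hkill
  haveI : Ring.KrullDimLE 1 R := Ring.krullDimLE_iff.mpr (by rw [hdim]; rfl)
  have hrad : IsLocalRing.maximalIdeal R ≤ (Ideal.span {γ}).radical := by
    rw [Ideal.radical_eq_sInf]
    refine le_sInf (fun P hP => ?_)
    have hPne : P ≠ ⊥ := by
      rintro rfl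
      exact hγ ((Ideal.mem_bot).mp (hP.1 (Ideal.mem_span_singleton_self γ)))
    have hmax : P.IsMaximal := hP.2.isMaximal_of_ne_bot hPne
    exact (IsLocalRing.eq_maximalIdeal hmax).ge
  obtain ⟨j, hj⟩ := Ideal.exists_pow_le_of_le_radical_of_fg hrad (IsNoetherian.noetherian _)
  refine not_kills (R := R) 0 R (Module.Finite.self R) ?_ ⟨j, fun a ha y => ?_⟩
  · rw [Module.supportDim_self_eq_ringKrullDim, hdim]
    rfl
  · obtain ⟨r, rfl⟩ := Ideal.mem_span_singleton'.mp (hj ha)
    rw [mul_smul, hkill, smul_zero]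

/-- If `p ∈ Ass M` does not contain `b` and the image of `a` in `R/p` has height one, then no
power of `b` kills `H^1_a(M)`. -/
theorem not_le_radical_annihilator_H1 [IsNoetherianRing R] (a b : Ideal R) (M : Type u)
    [AddCommGroup M] [Module R M] [Module.Finite R M] (p : Ideal R) [hpp : p.IsPrime]
    (hp : p ∈ associatedPrimes R M) (hb : ¬ b ≤ p)
    (hht : ((a ⊔ p).map (Ideal.Quotient.mk p)).height = 1) :
    ¬ b ≤ (Module.annihilator R ((localCohomology a 1).obj (ModuleCat.of R M))).radical := by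
  intro hle
  obtain ⟨k, hk⟩ := Ideal.exists_pow_le_of_le_radical_of_fg hle (IsNoetherian.noetherian b)
  have hkM : ∀ u ∈ b ^ k, ∀ y : (localCohomology a 1).obj (ModuleCat.of R M), u • y = 0 :=
    fun u hu => Module.mem_annihilator.mp (hk hu)
  -- the embedding `R/p ↪ M`
  obtain ⟨-, m0, hm0⟩ := isAssociatedPrime_iff.mp hp
  have hker : LinearMap.ker (LinearMap.toSpanSingleton R M m0) = p := by
    ext r
    rw [LinearMap.mem_ker, LinearMap.toSpanSingleton_apply, hm0, Submodule.mem_colon_singleton]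
    simp
  let ι : (R ⧸ p) →ₗ[R] M :=
    Submodule.liftQ p (LinearMap.toSpanSingleton R M m0) (le_of_eq hker.symm)
  have hι : Function.Injective ι := by
    rw [← LinearMap.ker_eq_bot]
    exact Submodule.ker_liftQ_eq_bot' p _ hker.symm
  have hex := LinearMap.exact_map_mkQ_range ι
  have hS := scLin_shortExact ι _ hex hι (Submodule.mkQ_surjective _)
  haveI : Module.Finite R ((localCohomology a 0).obj
      (ModuleCat.of R (M ⧸ LinearMap.range ι))) := finite_H0 a _
  obtain ⟨j, hj⟩ := exists_pow_kills_of_finite a _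
    (isPowerTorsion a 0 (ModuleCat.of R (M ⧸ LinearMap.range ι)))
  have hkN : ∀ u ∈ b ^ k, ∀ v ∈ a ^ j,
      ∀ y : (localCohomology a 1).obj (ModuleCat.of R (R ⧸ p)), v • u • y = 0 := by
    intro u hu v hv y
    have h1 : ((localCohomology a 1).map (scLin ι _ hex).f).hom (u • y) = 0 :=
      (((localCohomology a 1).map (scLin ι _ hex).f).hom.map_smul u y).trans (hkM u hu _)
    obtain ⟨z, hz⟩ := (exact₁ a _ hS 0 (u • y)).mp h1
    have h2 : v • (δ a _ hS 0).hom z = 0 :=
      ((δ a _ hS 0).hom.map_smul v z).symm.trans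
        ((congrArg (δ a _ hS 0).hom (hj v hv z)).trans (map_zero _))
    exact (congrArg (v • ·) hz.symm).trans h2
  -- an element outside `p` killing `H^1_a(R/p)`
  have ha : ¬ a ≤ p := by
    intro hap
    have h0 : (a ⊔ p).map (Ideal.Quotient.mk p) = ⊥ := by
      rw [sup_eq_right.mpr hap, Ideal.map_quotient_self]
    rw [h0, Ideal.height_bot] at hht
    exact zero_ne_one hht
  obtain ⟨α, hαa, hαp⟩ := SetLike.not_le_iff_exists.mp ha
  obtain ⟨β, hβb, hβp⟩ := SetLike.not_le_iff_exists.mp hb
  have hcp : α ^ j * β ^ k ∉ p := fun h => (hpp.mem_or_mem h).elim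
    (fun h' => hαp (hpp.mem_of_pow_mem j h')) (fun h' => hβp (hpp.mem_of_pow_mem k h'))
  have hcN : ∀ y : (localCohomology a 1).obj (ModuleCat.of R (R ⧸ p)),
      (α ^ j * β ^ k) • y = 0 := fun y => by
    rw [mul_smul]
    exact hkN (β ^ k) (Ideal.pow_mem_pow hβb k) (α ^ j) (Ideal.pow_mem_pow hαa j) y
  -- independence of the base
  obtain ⟨φ, hφ⟩ := exists_equiv (R := R) (R' := R ⧸ p) a 1 (R ⧸ p)
  have hγ : algebraMap R (R ⧸ p) (α ^ j * β ^ k) ≠ 0 := by
    intro h
    exact hcp (Ideal.Quotient.eq_zero_iff_mem.mp h)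
  have hγkill : ∀ x : (localCohomology (a.map (algebraMap R (R ⧸ p))) 1).obj
      (ModuleCat.of (R ⧸ p) (R ⧸ p)), algebraMap R (R ⧸ p) (α ^ j * β ^ k) • x = 0 :=
    fun x => φ.injective (by rw [hφ, hcN, map_zero])
  -- height one
  have hāht : (a.map (algebraMap R (R ⧸ p))).height = 1 := by
    have h1 : (a ⊔ p).map (Ideal.Quotient.mk p) = a.map (algebraMap R (R ⧸ p)) := by
      rw [Ideal.map_sup, Ideal.map_quotient_self, sup_bot_eq]
      rfl
    rw [← h1]
    exact hht
  obtain ⟨q, hq, hqh⟩ := exists_minimalPrimes_height_eq (a.map (algebraMap R (R ⧸ p))) 1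
    (by exact_mod_cast hāht)
  haveI : q.IsPrime := hq.1.1
  obtain ⟨e2⟩ := exists_baseChange_equiv (Localization.AtPrime q)
    (a.map (algebraMap R (R ⧸ p))) 1 (R ⧸ p)
  obtain ⟨e3⟩ := exists_linearEquiv_of_linearEquiv
    (A := TensorProduct (R ⧸ p) (Localization.AtPrime q) (R ⧸ p))
    (B := Localization.AtPrime q) ((a.map (algebraMap R (R ⧸ p))).map
    (algebraMap (R ⧸ p) (Localization.AtPrime q))) 1
    (TensorProduct.AlgebraTensorModule.rid (R ⧸ p) (Localization.AtPrime q)
      (Localization.AtPrime q))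
  have hrad : ((a.map (algebraMap R (R ⧸ p))).map
      (algebraMap (R ⧸ p) (Localization.AtPrime q))).radical =
      (IsLocalRing.maximalIdeal (Localization.AtPrime q)).radical := by
    rw [IsLocalization.AtPrime.radical_map_of_mem_minimalPrimes (Localization.AtPrime q) q _ hq,
      IsLocalization.AtPrime.map_eq_maximalIdeal q (Localization.AtPrime q),
      Ideal.IsPrime.radical inferInstance]
  obtain ⟨e4⟩ := exists_linearEquiv_of_radical_eq _ _ hrad 1 (Localization.AtPrime q)
  have hdim : ringKrullDim (Localization.AtPrime q) = 1 := by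
    rw [IsLocalization.AtPrime.ringKrullDim_eq_height q (Localization.AtPrime q), hqh]
    rfl
  refine not_kills_elt (R := Localization.AtPrime q) hdim
    (algebraMap (R ⧸ p) (Localization.AtPrime q)
      (algebraMap R (R ⧸ p) (α ^ j * β ^ k))) ?_ ?_
  · intro h0
    apply hγ
    exact (IsLocalization.injective (Localization.AtPrime q)
      (Ideal.primeCompl_le_nonZeroDivisors q)) (by rw [h0, map_zero])
  · intro y
    obtain ⟨w, rfl⟩ := (e2 ≪≫ₗ e3 ≪≫ₗ e4).surjective y
    rw [← _root_.map_smul, kills_baseChange (Localization.AtPrime q) _ hγkill w, map_zero]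

end Groth.Agent.H13.LC
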