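import Groth.Agent.H13.LCTors2

/-!
# Local cohomology and localization at one element
-/

set_option autoImplicit false

open CategoryTheory Limits Opposite

namespace Groth.Agent.H13.LC

universe u

variable {R : Type u} [CommRing R]

/-- If `a ∈ J` acts bijectively on `M`, then `H^i_J(M) = 0` for all `i`. -/
theorem subsingleton_of_smul_bijective (J : Ideal R) (a : R) (ha : a ∈ J) (M : Type u)
    [AddCommGroup M] [Module R M] (hM : Function.Bijective (fun m : M => a • m)) (i : ℕ) :
    Subsingleton ((localCohomology J i).obj (ModuleCat.of R M)) := by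
  let e : M ≃ₗ[R] M := LinearEquiv.ofBijective (LinearMap.lsmul R M a) hM
  let g : ModuleCat.of R M ⟶ ModuleCat.of R M := a • 𝟙 _
  let h : ModuleCat.of R M ⟶ ModuleCat.of R M := ModuleCat.ofHom e.symm.toLinearMap
  have hgh : g ≫ h = 𝟙 _ := by
    ext m
    change e.symm (a • m) = m
    exact e.symm_apply_apply m
  have hHg : (localCohomology J i).map g = a • 𝟙 _ := by
    rw [map_smul, (localCohomology J i).map_id]
  have hinj : ∀ x : (localCohomology J i).obj (ModuleCat.of R M), a • x = 0 → x = 0 := by
    intro x hx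
    have h1 : ((localCohomology J i).map (g ≫ h)).hom x = x := by
      rw [hgh, (localCohomology J i).map_id]; rfl
    rw [(localCohomology J i).map_comp, hHg] at h1
    have h2 : ((a • 𝟙 ((localCohomology J i).obj (ModuleCat.of R M))) ≫
        (localCohomology J i).map h).hom x =
        ((localCohomology J i).map h).hom (a • x) := rfl
    rw [h2, hx, map_zero] at h1
    exact h1.symm
  have key : ∀ x : (localCohomology J i).obj (ModuleCat.of R M), x = 0 := by
    intro x
    obtain ⟨n, hn⟩ := isPowerTorsion J i (ModuleCat.of R M) x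
    have hx : a ^ n • x = 0 := hn _ (Ideal.pow_mem_pow ha n)
    clear hn
    induction n with
    | zero => simpa using hx
    | succ n ih =>
      apply ih
      apply hinj
      rw [← mul_smul, ← pow_succ']
      exact hx
  exact ⟨fun x y => by rw [key x, key y]⟩

lemma mem_torsionSub_span_singleton (a : R) {M : Type u} [AddCommGroup M] [Module R M] (m : M) :
    m ∈ DRing.torsionSub (Ideal.span {a}) M ↔ ∃ n : ℕ, a ^ n • m = 0 := by
  constructor
  · rintro ⟨n, hn⟩
    exact ⟨n, hn _ (Ideal.pow_mem_pow (Ideal.mem_span_singleton_self a) n)⟩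
  · rintro ⟨n, hn⟩
    refine ⟨n, fun b hb => ?_⟩
    rw [Ideal.span_singleton_pow, Ideal.mem_span_singleton'] at hb
    obtain ⟨c, rfl⟩ := hb
    rw [mul_smul, hn, smul_zero]

lemma ker_mkLinearMap_powers (a : R) (M : Type u) [AddCommGroup M] [Module R M] :
    LinearMap.ker (LocalizedModule.mkLinearMap (Submonoid.powers a) M) =
      DRing.torsionSub (Ideal.span {a}) M := by
  ext m
  rw [LinearMap.mem_ker, IsLocalizedModule.eq_zero_iff (Submonoid.powers a),
    mem_torsionSub_span_singleton]
  constructor
  · rintro ⟨⟨_, n, rfl⟩, hs⟩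
    exact ⟨n, hs⟩
  · rintro ⟨n, hn⟩
    exact ⟨⟨a ^ n, n, rfl⟩, hn⟩

lemma smul_bijective_localizedModule (a : R) (M : Type u) [AddCommGroup M] [Module R M] :
    Function.Bijective (fun l : LocalizedModule (Submonoid.powers a) M => a • l) := by
  have := IsLocalizedModule.map_units (LocalizedModule.mkLinearMap (Submonoid.powers a) M)
    ⟨a, Submonoid.mem_powers a⟩
  exact (Module.End.isUnit_iff _).mp this

/-- The cokernel of `M → M_a` is `(a)`-power torsion; more generally for a map with the same
range. -/
lemma isPowerTorsion_coker_localization (a : R) (M : Type u) [AddCommGroup M] [Module R M]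
    (p : Submodule R (LocalizedModule (Submonoid.powers a) M))
    (hp : LinearMap.range (LocalizedModule.mkLinearMap (Submonoid.powers a) M) ≤ p) :
    LocCoh.IsPowerTorsion (Ideal.span {a}) (LocalizedModule (Submonoid.powers a) M ⧸ p) := by
  intro q
  obtain ⟨l, rfl⟩ := p.mkQ_surjective q
  obtain ⟨⟨m, ⟨_, n, rfl⟩⟩, hs⟩ :=
    IsLocalizedModule.surj (Submonoid.powers a)
      (LocalizedModule.mkLinearMap (Submonoid.powers a) M) l
  replace hs : a ^ n • l = LocalizedModule.mkLinearMap (Submonoid.powers a) M m := hs
  have : (p.mkQ l) ∈ DRing.torsionSub (Ideal.span {a})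
      (LocalizedModule (Submonoid.powers a) M ⧸ p) := by
    rw [mem_torsionSub_span_singleton]
    refine ⟨n, ?_⟩
    rw [← _root_.map_smul, hs]
    exact (Submodule.Quotient.mk_eq_zero p).mpr (hp ⟨m, rfl⟩)
  exact this

/-- `H^1_{(a)}(M) ≅ coker (M → M_a)` over a Noetherian ring. -/
theorem h1_principal [IsNoetherianRing R] (a : R) (M : Type u) [AddCommGroup M] [Module R M] :
    Nonempty ((LocalizedModule (Submonoid.powers a) M ⧸
      LinearMap.range (LocalizedModule.mkLinearMap (Submonoid.powers a) M)) ≃ₗ[R]
        (localCohomology (Ideal.span {a}) 1).obj (ModuleCat.of R M)) := by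
  let I : Ideal R := Ideal.span {a}
  let L := LocalizedModule (Submonoid.powers a) M
  let η : M →ₗ[R] L := LocalizedModule.mkLinearMap (Submonoid.powers a) M
  let T := DRing.torsionSub I M
  have hker : LinearMap.ker η = T := ker_mkLinearMap_powers a M
  let η' : (M ⧸ T) →ₗ[R] L := T.liftQ η (le_of_eq hker.symm)
  have hη' : Function.Injective η' := by
    rw [← LinearMap.ker_eq_bot]
    exact Submodule.ker_liftQ_eq_bot' T η hker.symm
  have hrange : LinearMap.range η' = LinearMap.range η := Submodule.range_liftQ T η _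
  have hS := scInj_shortExact η' hη'
  -- vanishing for `L`
  have hL : ∀ i, Subsingleton ((localCohomology I i).obj (scInj η').X₂) := fun i =>
    subsingleton_of_smul_bijective I a (Ideal.mem_span_singleton_self a) L
      (smul_bijective_localizedModule a M) i
  have hQ : LocCoh.IsPowerTorsion I (L ⧸ LinearMap.range η') :=
    isPowerTorsion_coker_localization a M _ (le_of_eq hrange.symm)
  -- `δ` is bijective
  have hδ : Function.Bijective (δ I (scInj η') hS 0).hom := by
    constructor
    · rw [injective_iff_map_eq_zero]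
      intro y hy
      obtain ⟨z, rfl⟩ := (exact₃ I (scInj η') hS 0 y).mp hy
      have := hL 0
      rw [Subsingleton.elim z 0]
      exact map_zero _
    · intro x
      have := hL 1
      have h1 : ((localCohomology I 1).map (scInj η').f).hom x = 0 := Subsingleton.elim _ _
      exact (exact₁ I (scInj η') hS 0 x).mp h1
  let e1 : (L ⧸ LinearMap.range η) ≃ₗ[R] (L ⧸ LinearMap.range η') :=
    Submodule.quotEquivOfEq _ _ hrange.symm
  let e2 : (localCohomology I 0).obj (ModuleCat.of R (L ⧸ LinearMap.range η')) ≃ₗ[R]
      (L ⧸ LinearMap.range η') := H0equiv I (ModuleCat.of R (L ⧸ LinearMap.range η')) hQ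
  let e3 : (localCohomology I 0).obj (ModuleCat.of R (L ⧸ LinearMap.range η')) ≃ₗ[R]
      (localCohomology I 1).obj (ModuleCat.of R (M ⧸ T)) :=
    LinearEquiv.ofBijective (δ I (scInj η') hS 0).hom hδ
  let e4 : (localCohomology I 1).obj (ModuleCat.of R M) ≃ₗ[R]
      (localCohomology I 1).obj (ModuleCat.of R (M ⧸ T)) :=
    LinearEquiv.ofBijective ((localCohomology I 1).map (ModuleCat.ofHom T.mkQ)).hom
      (map_mkQ_bijective I M 1 Nat.one_pos)
  exact ⟨e1.trans (e2.symm.trans (e3.trans e4.symm))⟩

end Groth.Agent.H13.LC
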