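import Groth.Agent.H13.LCDepth

/-!
# Cohomological dimension of a sum of ideals
-/

set_option autoImplicit false
set_option linter.style.haveILetI false

open CategoryTheory Limits Opposite

namespace Groth.Agent.H13.LC

universe u

variable {R : Type u} [CommRing R] [IsNoetherianRing R]

/-- `Γ_K(M/Γ_K(M)) = 0` over a Noetherian ring (no finiteness assumption on `M`). -/
theorem torsionSub_quotient_eq_bot' (K : Ideal R) (M : Type u) [AddCommGroup M] [Module R M] :
    DRing.torsionSub K (M ⧸ DRing.torsionSub K M) = ⊥ := by
  classical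
  rw [eq_bot_iff]
  rintro mbar ⟨a, ha⟩
  obtain ⟨m, rfl⟩ := Submodule.mkQ_surjective _ mbar
  rw [Submodule.mem_bot, Submodule.mkQ_apply, Submodule.Quotient.mk_eq_zero]
  obtain ⟨s, hs⟩ : (K ^ a).FG := IsNoetherian.noetherian _
  have hmem : ∀ v ∈ K ^ a, v • m ∈ DRing.torsionSub K M := by
    intro v hv
    have := ha v hv
    rwa [← _root_.map_smul, Submodule.mkQ_apply, Submodule.Quotient.mk_eq_zero] at this
  have hex : ∀ r : R, ∃ b : ℕ, r ∈ s → ∀ u ∈ K ^ b, u • r • m = 0 := by
    intro r
    by_cases hr : r ∈ s
    · have hrK : r ∈ K ^ a := hs ▸ Submodule.subset_span hr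
      obtain ⟨b, hb⟩ := hmem r hrK
      exact ⟨b, fun _ => hb⟩
    · exact ⟨0, fun h => absurd h hr⟩
  choose b hb using hex
  have key : ∀ u ∈ K ^ (s.sup b), ∀ v ∈ K ^ a, u • v • m = 0 := by
    intro u hu v hv
    rw [← hs] at hv
    induction hv using Submodule.span_induction with
    | mem r hr => exact hb r hr u (Ideal.pow_le_pow_right (Finset.le_sup hr) hu)
    | zero => rw [zero_smul, smul_zero]
    | add x y _ _ hx hy => rw [add_smul, smul_add, hx, hy, add_zero]
    | smul t x _ hx => rw [smul_eq_mul, mul_smul, smul_comm u t, hx, smul_zero]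
  refine ⟨s.sup b + a, fun c hc => ?_⟩
  rw [pow_add] at hc
  refine Submodule.mul_induction_on hc ?_ ?_
  · intro u hu v hv
    rw [mul_smul]
    exact key u hu v hv
  · intro c d hc hd
    rw [add_smul, hc, hd, add_zero]

/-- The quotient of an injective module by its `K`-torsion is injective. -/
theorem injective_quotient_torsionSub (K : Ideal R) (E : Type u) [AddCommGroup E] [Module R E]
    [hE : Module.Injective R E] : Module.Injective R (E ⧸ DRing.torsionSub K E) := by
  have hT := torsionSub_injective K E
  obtain ⟨ρ, hρ⟩ := hT.out (DRing.torsionSub K E).subtype (Submodule.injective_subtype _)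
    LinearMap.id
  let σ : (E ⧸ DRing.torsionSub K E) →ₗ[R] E :=
    (DRing.torsionSub K E).liftQ (LinearMap.id - (DRing.torsionSub K E).subtype ∘ₗ ρ) (by
      intro t ht
      have := hρ ⟨t, ht⟩
      simp only [Submodule.subtype_apply, LinearMap.id_coe, id_eq] at this
      simp [LinearMap.mem_ker, this])
  have hσ : ∀ x, (DRing.torsionSub K E).mkQ (σ x) = x := by
    intro x
    obtain ⟨e, rfl⟩ := (DRing.torsionSub K E).mkQ_surjective x
    have : σ ((DRing.torsionSub K E).mkQ e) = e - (ρ e : E) := rfl
    rw [this, map_sub]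
    have h0 : (DRing.torsionSub K E).mkQ (ρ e : E) = 0 := by
      rw [Submodule.mkQ_apply, Submodule.Quotient.mk_eq_zero]
      exact (ρ e).2
    rw [h0, sub_zero]
  constructor
  intro X Y _ _ _ _ f hf g
  obtain ⟨h, hh⟩ := hE.out f hf (σ ∘ₗ g)
  exact ⟨(DRing.torsionSub K E).mkQ ∘ₗ h, fun x => by
    rw [LinearMap.comp_apply, hh, LinearMap.comp_apply, hσ]⟩

/-- A module all of whose `K`-local cohomology vanishes has vanishing `L`-local cohomology for
every `L ⊇ K`. -/
theorem subsingleton_of_invisible (K L : Ideal R) (hKL : K ≤ L) (n : ℕ) :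
    ∀ (N : Type u) [AddCommGroup N] [Module R N],
      (∀ j, Subsingleton ((localCohomology K j).obj (ModuleCat.of R N))) →
      Subsingleton ((localCohomology L n).obj (ModuleCat.of R N)) := by
  induction n with
  | zero =>
    intro N _ _ h
    apply subsingleton_H0
    have := torsionSub_eq_bot_of_subsingleton_H0 K N (h 0)
    exact eq_bot_iff.mpr (le_trans (torsionSub_anti hKL N) (le_of_eq this))
  | succ n ih =>
    intro N _ _ h
    let E : ModuleCat.{u} R := Injective.under (ModuleCat.of R N)
    let e : ModuleCat.of R N ⟶ E := Injective.ι (ModuleCat.of R N)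
    have he : Function.Injective e.hom := (ModuleCat.mono_iff_injective e).mp inferInstance
    haveI hEo : Injective (ModuleCat.of R E) :=
      (inferInstanceAs (Injective (Injective.under (ModuleCat.of R N))))
    haveI hE : Module.Injective R E := Module.injective_module_of_injective_object R E
    haveI hE'' := injective_quotient_torsionSub K E
    haveI hE''o : Injective (ModuleCat.of R (E ⧸ DRing.torsionSub K E)) :=
      Module.injective_object_of_injective_module R _
    let φ : N →ₗ[R] (E ⧸ DRing.torsionSub K E) := (DRing.torsionSub K E).mkQ ∘ₗ e.hom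
    have hNtors : DRing.torsionSub K N = ⊥ := torsionSub_eq_bot_of_subsingleton_H0 K N (h 0)
    have hφ : Function.Injective φ := by
      rw [← LinearMap.ker_eq_bot, eq_bot_iff]
      intro x hx
      rw [LinearMap.mem_ker, LinearMap.comp_apply, Submodule.mkQ_apply,
        Submodule.Quotient.mk_eq_zero] at hx
      obtain ⟨a, ha⟩ := hx
      have hxN : x ∈ DRing.torsionSub K N := by
        refine ⟨a, fun r hr => he ?_⟩
        rw [_root_.map_smul, map_zero]
        exact ha r hr
      rw [hNtors] at hxN
      exact hxN
    have hE''K : ∀ j, Subsingleton ((localCohomology K j).obj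
        (ModuleCat.of R (E ⧸ DRing.torsionSub K E))) := by
      intro j
      rcases j with _ | j
      · exact subsingleton_H0 K _ (torsionSub_quotient_eq_bot' K E)
      · exact subsingleton_of_injective K j _
    have hQ : ∀ j, Subsingleton ((localCohomology K j).obj
        (ModuleCat.of R ((E ⧸ DRing.torsionSub K E) ⧸ LinearMap.range φ))) := fun j =>
      subsingleton_right K j φ _ (LinearMap.exact_map_mkQ_range φ) hφ
        (Submodule.mkQ_surjective _) (hE''K j) (h (j + 1))
    exact subsingleton_of_injective' L n φ _ (LinearMap.exact_map_mkQ_range φ) hφ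
      (Submodule.mkQ_surjective _) (subsingleton_of_injective L n _) (ih _ hQ)

/-- Key step: if `cd I ≤ a` and `H^j_K(M) = 0` for all `j > q` then `H^n_{I ⊔ K}(M) = 0` for
all `n > a + q`. -/
theorem subsingleton_sup_of_cd (I K : Ideal R) (a : ℕ) (hI : LocCoh.CdLE R I a) (q : ℕ) :
    ∀ (M : Type u) [AddCommGroup M] [Module R M],
      (∀ j, q < j → Subsingleton ((localCohomology K j).obj (ModuleCat.of R M))) →
      ∀ n, a + q < n → Subsingleton ((localCohomology (I ⊔ K) n).obj (ModuleCat.of R M)) := by
  induction q with
  | zero =>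
    intro M _ _ h n hn
    have hT : Subsingleton ((localCohomology (I ⊔ K) n).obj
        (ModuleCat.of R (DRing.torsionSub K M))) :=
      subsingleton_sup_of_isPowerTorsion I K n _ (isPowerTorsion_torsionSub K M)
        (hI _ n (by omega))
    have hinv : ∀ j, Subsingleton ((localCohomology K j).obj
        (ModuleCat.of R (M ⧸ DRing.torsionSub K M))) := by
      intro j
      rcases Nat.eq_zero_or_pos j with rfl | hj
      · exact subsingleton_H0 K _ (torsionSub_quotient_eq_bot' K M)
      · have hbij := map_mkQ_bijective K M j hj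
        haveI := h j hj
        exact hbij.2.subsingleton
    have hM' := subsingleton_of_invisible K (I ⊔ K) le_sup_right n _ hinv
    exact subsingleton_mid (I ⊔ K) n (DRing.torsionSub K M).subtype (DRing.torsionSub K M).mkQ
      (LinearMap.exact_subtype_mkQ _) (Submodule.injective_subtype _)
      (Submodule.mkQ_surjective _) hT hM'
  | succ q ih =>
    intro M _ _ h n hn
    obtain ⟨n, rfl⟩ : ∃ k, n = k + 1 := ⟨n - 1, by omega⟩
    let E : ModuleCat.{u} R := Injective.under (ModuleCat.of R M)
    let e : ModuleCat.of R M ⟶ E := Injective.ι (ModuleCat.of R M)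
    have he : Function.Injective e.hom := (ModuleCat.mono_iff_injective e).mp inferInstance
    haveI hEo : Injective (ModuleCat.of R E) :=
      (inferInstanceAs (Injective (Injective.under (ModuleCat.of R M))))
    have hQ : ∀ j, q < j → Subsingleton ((localCohomology K j).obj
        (ModuleCat.of R (E ⧸ LinearMap.range e.hom))) := by
      intro j hj
      obtain ⟨j, rfl⟩ : ∃ k, j = k + 1 := ⟨j - 1, by omega⟩
      exact subsingleton_right K (j + 1) e.hom _ (LinearMap.exact_map_mkQ_range e.hom) he
        (Submodule.mkQ_surjective _) (subsingleton_of_injective K j (ModuleCat.of R E))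
        (h (j + 1 + 1) (by omega))
    have hQL := ih (E ⧸ LinearMap.range e.hom) hQ n (by omega)
    exact subsingleton_of_injective' (I ⊔ K) n e.hom _ (LinearMap.exact_map_mkQ_range e.hom) he
      (Submodule.mkQ_surjective _) (subsingleton_of_injective (I ⊔ K) n (ModuleCat.of R E)) hQL

/-- `cd (I ⊔ J) ≤ cd I + cd J`. -/
theorem cdLE_sup (I J : Ideal R) (a b : ℕ) (hI : LocCoh.CdLE R I a) (hJ : LocCoh.CdLE R J b) :
    LocCoh.CdLE R (I ⊔ J) (a + b) := by
  intro M _ _ i hi
  exact subsingleton_sup_of_cd I J a hI b M (fun j hj => hJ M j hj) i hi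

end Groth.Agent.H13.LC
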