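import Groth.Agent.H13.LCPsi
import Groth.Agent.H13.LCSum
import Groth.Agent.H13.LCDExact
import Groth.Agent.H13.LCIso
import Groth.Agent.H13.LCPrincipal
import Groth.Agent.H13.LCGen
import Groth.Agent.H13.LCAnn1

/-!
# The comparison map `H^i_{a+(b)}(M) ⟶ H^i_a(M)`: image and kernel
-/

set_option autoImplicit false
set_option linter.style.haveILetI false

open CategoryTheory Limits Opposite

namespace Groth.Agent.H13.LC

universe u

variable {R : Type u} [CommRing R] (a : Ideal R) (b : R)

section Torsion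

lemma mem_torsionSub_sup_span {M : Type u} [AddCommGroup M] [Module R M] (m : M) (k n : ℕ)
    (hk : ∀ c ∈ a ^ k, c • m = 0) (hn : b ^ n • m = 0) :
    m ∈ DRing.torsionSub (a ⊔ Ideal.span {b}) M := by
  refine ⟨k + n, fun c hc => ?_⟩
  have h1 := Ideal.sup_pow_add_le_pow_sup_pow hc
  obtain ⟨u, hu, v, hv, rfl⟩ := Submodule.mem_sup.mp h1
  rw [Ideal.span_singleton_pow, Ideal.mem_span_singleton'] at hv
  obtain ⟨w, rfl⟩ := hv
  rw [add_smul, hk u hu, mul_smul, hn, smul_zero, add_zero]

lemma torsionSub_sup_span_le {M : Type u} [AddCommGroup M] [Module R M] (m : M)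
    (hm : m ∈ DRing.torsionSub (a ⊔ Ideal.span {b}) M) :
    m ∈ DRing.torsionSub a M ∧ ∃ n : ℕ, b ^ n • m = 0 := by
  obtain ⟨N, hN⟩ := hm
  refine ⟨⟨N, fun c hc => hN c (Ideal.pow_right_mono le_sup_left N hc)⟩, N, ?_⟩
  exact hN _ (Ideal.pow_mem_pow (le_sup_right (a := a) (Ideal.mem_span_singleton_self b)) N)

end Torsion

section Div

/-- On an injective module without `b`-torsion, `b` acts surjectively. -/
lemma exists_smul_eq_of_injective (E : Type u) [AddCommGroup E] [Module R E]
    [hE : Module.Injective R E] (htors : DRing.torsionSub (Ideal.span {b}) E = ⊥) (e : E) :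
    ∃ e' : E, b • e' = e := by
  let κ : Submodule R R := LinearMap.ker (LinearMap.lsmul R R b)
  let f : (R ⧸ κ) →ₗ[R] R := κ.liftQ (LinearMap.lsmul R R b) le_rfl
  have hf : Function.Injective f := by
    rw [← LinearMap.ker_eq_bot]
    exact Submodule.ker_liftQ_eq_bot' κ _ rfl
  have hκ : κ ≤ LinearMap.ker (LinearMap.toSpanSingleton R E e) := by
    intro r hr
    rw [LinearMap.mem_ker, LinearMap.lsmul_apply, smul_eq_mul] at hr
    rw [LinearMap.mem_ker, LinearMap.toSpanSingleton_apply]
    have h1 : r • e ∈ DRing.torsionSub (Ideal.span {b}) E := by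
      rw [mem_torsionSub_span_singleton]
      exact ⟨1, by rw [pow_one, smul_smul, hr, zero_smul]⟩
    rw [htors] at h1
    exact h1
  let g : (R ⧸ κ) →ₗ[R] E := κ.liftQ (LinearMap.toSpanSingleton R E e) hκ
  obtain ⟨φ, hφ⟩ := hE.out f hf g
  refine ⟨φ 1, ?_⟩
  have h1 := hφ (Submodule.Quotient.mk 1)
  have h2 : f (Submodule.Quotient.mk 1) = b • (1 : R) := by
    change (LinearMap.lsmul R R b) 1 = _
    rfl
  have h3 : g (Submodule.Quotient.mk 1) = e := by
    change (LinearMap.toSpanSingleton R E e) 1 = e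
    rw [LinearMap.toSpanSingleton_apply, one_smul]
  rw [h2, h3, _root_.map_smul] at h1
  exact h1

lemma exists_pow_smul_eq_of_injective (E : Type u) [AddCommGroup E] [Module R E]
    [Module.Injective R E] (htors : DRing.torsionSub (Ideal.span {b}) E = ⊥) (n : ℕ) (e : E) :
    ∃ e' : E, b ^ n • e' = e := by
  induction n with
  | zero => exact ⟨e, by rw [pow_zero, one_smul]⟩
  | succ n ih =>
    obtain ⟨e₁, he₁⟩ := ih
    obtain ⟨e₂, he₂⟩ := exists_smul_eq_of_injective b E htors e₁
    exact ⟨e₂, by rw [pow_succ, mul_smul, he₂, he₁]⟩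

/-- In an injective module over a Noetherian ring every element is divisible by `b ^ n` up to
`b`-torsion. -/
lemma exists_pow_smul_sub_eq_zero [IsNoetherianRing R] (E : Type u) [AddCommGroup E] [Module R E]
    [Module.Injective R E] (n : ℕ) (e : E) :
    ∃ (e' : E) (k : ℕ), b ^ k • (e - b ^ n • e') = 0 := by
  haveI := injective_quotient_torsionSub (Ideal.span {b}) E
  obtain ⟨ebar, hebar⟩ := exists_pow_smul_eq_of_injective b (E ⧸ DRing.torsionSub (Ideal.span {b}) E)
    (torsionSub_quotient_eq_bot' (Ideal.span {b}) E) n (Submodule.Quotient.mk e)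
  obtain ⟨e', rfl⟩ := Submodule.Quotient.mk_surjective _ ebar
  have h1 : e - b ^ n • e' ∈ DRing.torsionSub (Ideal.span {b}) E := by
    rw [← Submodule.Quotient.mk_eq_zero, Submodule.Quotient.mk_sub, Submodule.Quotient.mk_smul,
      hebar, sub_self]
  rw [mem_torsionSub_span_singleton] at h1
  obtain ⟨k, hk⟩ := h1
  exact ⟨e', k, hk⟩

end Div

section KL

lemma δ_surjective_of_injective (J : Ideal R) (S : ShortComplex (ModuleCat.{u} R))
    (hS : S.ShortExact) [Injective S.X₂] (j : ℕ) : Function.Surjective (δ J S hS j).hom := by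
  intro x
  haveI := subsingleton_of_injective J j S.X₂
  exact (exact₁ J S hS j x).mp (Subsingleton.elim _ _)

lemma δ_injective_of_injective (J : Ideal R) (S : ShortComplex (ModuleCat.{u} R))
    (hS : S.ShortExact) [Injective S.X₂] (j : ℕ) :
    Function.Injective (δ J S hS (j + 1)).hom := by
  rw [injective_iff_map_eq_zero]
  intro y hy
  obtain ⟨z, rfl⟩ := (exact₃ J S hS (j + 1) y).mp hy
  haveI := subsingleton_of_injective J j S.X₂
  rw [Subsingleton.elim z 0, map_zero]

lemma δ_map_g (J : Ideal R) (S : ShortComplex (ModuleCat.{u} R)) (hS : S.ShortExact) (j : ℕ)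
    (e : (localCohomology J j).obj S.X₂) :
    (δ J S hS j).hom (((localCohomology J j).map S.g).hom e) = 0 :=
  (exact₃ J S hS j _).mpr ⟨e, rfl⟩

variable [IsNoetherianRing R]

/-- In `H^0_a(E)` with `E` injective, every element is divisible by `b ^ n` up to `b`-torsion. -/
lemma exists_pow_smul_sub_eq_zero_H0 (E : ModuleCat.{u} R) [Injective E] (n : ℕ)
    (e : (localCohomology a 0).obj E) :
    ∃ (e' : (localCohomology a 0).obj E) (k : ℕ), b ^ k • (e - b ^ n • e') = 0 := by
  haveI : Module.Injective R E := Module.injective_module_of_injective_object R E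
  haveI := torsionSub_injective a E
  have he : (ε a E).hom e ∈ DRing.torsionSub a E := by rw [← range_ε]; exact ⟨e, rfl⟩
  obtain ⟨e', k, hk⟩ := exists_pow_smul_sub_eq_zero b (DRing.torsionSub a E) n ⟨_, he⟩
  have he' : (e' : E) ∈ LinearMap.range (ε a E).hom := by rw [range_ε]; exact e'.2
  obtain ⟨e'', he''⟩ := he'
  refine ⟨e'', k, ε_injective a E ?_⟩
  rw [map_zero, _root_.map_smul, map_sub, _root_.map_smul, he'']
  exact congrArg Subtype.val hk

/-- The image of the comparison map contains the `b`-power torsion. -/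
theorem mem_range_Ψ_of_pow_smul_eq_zero (j : ℕ) :
    ∀ (M : Type u) [AddCommGroup M] [Module R M]
      (x : (localCohomology a j).obj (ModuleCat.of R M)) (n : ℕ), b ^ n • x = 0 →
      ∃ y, (Ψ (le_sup_left : a ≤ a ⊔ Ideal.span {b}) j (ModuleCat.of R M)).hom y = x := by
  induction j with
  | zero =>
    intro M _ _ x n hx
    have hm : (ε a (ModuleCat.of R M)).hom x ∈ DRing.torsionSub a (ModuleCat.of R M) := by
      rw [← range_ε]; exact ⟨x, rfl⟩
    obtain ⟨k, hk⟩ := hm
    have hbn : b ^ n • (ε a (ModuleCat.of R M)).hom x = 0 := by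
      rw [← _root_.map_smul, hx, map_zero]
    have hm' := mem_torsionSub_sup_span a b _ k n hk hbn
    rw [← range_ε] at hm'
    obtain ⟨y, hy⟩ := hm'
    refine ⟨y, ε_injective a _ ?_⟩
    rw [Ψ_ε_apply]
    exact hy
  | succ j ih =>
    intro M _ _ x n hx
    obtain ⟨E₀, _, _, f, hf, hE⟩ := exists_injective_embedding (R := R) M
    have hS := scInj_shortExact f hf
    haveI hinj : Injective (scInj f).X₂ := Module.injective_object_of_injective_module R E₀
    obtain ⟨c, hc⟩ := δ_surjective_of_injective a (scInj f) hS j x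
    have h1 : (δ a (scInj f) hS j).hom (b ^ n • c) = 0 :=
      ((δ a (scInj f) hS j).hom.map_smul (b ^ n) c).trans ((congrArg (b ^ n • ·) hc).trans hx)
    obtain ⟨e, he⟩ := (exact₃ a (scInj f) hS j (b ^ n • c)).mp h1
    have hdiv : ∃ (e'' : (localCohomology a j).obj (scInj f).X₂) (k : ℕ),
        b ^ k • (e - b ^ n • e'') = 0 := by
      rcases j with _ | j'
      · exact exists_pow_smul_sub_eq_zero_H0 a b (scInj f).X₂ n e
      · haveI := subsingleton_of_injective a j' (scInj f).X₂
        exact ⟨0, 0, Subsingleton.elim _ _⟩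
    obtain ⟨e'', k, hk⟩ := hdiv
    have hc₁ : b ^ (k + n) • (c - ((localCohomology a j).map (scInj f).g).hom e'') = 0 := by
      have h2 : ((localCohomology a j).map (scInj f).g).hom (b ^ k • (e - b ^ n • e'')) =
          b ^ (k + n) • (c - ((localCohomology a j).map (scInj f).g).hom e'') := by
        rw [_root_.map_smul, map_sub, _root_.map_smul, he, pow_add, mul_smul, ← smul_sub]
      rw [← h2, hk, map_zero]
    obtain ⟨c', hc'⟩ := ih (E₀ ⧸ LinearMap.range f)
      (c - ((localCohomology a j).map (scInj f).g).hom e'') (k + n) hc₁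
    refine ⟨(δ (a ⊔ Ideal.span {b}) (scInj f) hS j).hom c', ?_⟩
    have h3 := Ψ_δ_apply (le_sup_left : a ≤ a ⊔ Ideal.span {b}) (scInj f) hS j c'
    refine h3.symm.trans ?_
    refine (congrArg (δ a (scInj f) hS j).hom hc').trans ?_
    rw [map_sub, δ_map_g, sub_zero]
    exact hc

/-- The image of the comparison map is exactly the `b`-power torsion. -/
theorem mem_range_Ψ_iff (j : ℕ) (M : Type u) [AddCommGroup M] [Module R M]
    (x : (localCohomology a j).obj (ModuleCat.of R M)) :
    x ∈ LinearMap.range (Ψ (le_sup_left : a ≤ a ⊔ Ideal.span {b}) j (ModuleCat.of R M)).hom ↔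
      ∃ n : ℕ, b ^ n • x = 0 := by
  constructor
  · rintro ⟨y, rfl⟩
    obtain ⟨N, hN⟩ := isPowerTorsion (a ⊔ Ideal.span {b}) j (ModuleCat.of R M) y
    refine ⟨N, ?_⟩
    rw [← _root_.map_smul, hN _ (Ideal.pow_mem_pow
      (le_sup_right (a := a) (Ideal.mem_span_singleton_self b)) N), map_zero]
  · rintro ⟨n, hn⟩
    exact mem_range_Ψ_of_pow_smul_eq_zero a b j M x n hn

end KL

section Kernel

variable [IsNoetherianRing R]

/-- If `Γ_I(N) = 0` then `H^1_{I'}(N) → H^1_I(N)` is injective. -/
theorem Ψ_one_injective_of_torsionSub_eq_bot {I I' : Ideal R} (h : I ≤ I') (N : Type u)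
    [AddCommGroup N] [Module R N] (hN : DRing.torsionSub I N = ⊥) :
    Function.Injective (Ψ h 1 (ModuleCat.of R N)).hom := by
  obtain ⟨E₁, _, _, f, hf, hE⟩ := exists_injective_embedding (R := R) N
  haveI := hE
  haveI hE₀ := injective_quotient_torsionSub I E₁
  let φ : N →ₗ[R] (E₁ ⧸ DRing.torsionSub I E₁) := (DRing.torsionSub I E₁).mkQ ∘ₗ f
  have hφ : Function.Injective φ := by
    rw [injective_iff_map_eq_zero]
    intro n hn
    have h1 : f n ∈ DRing.torsionSub I E₁ := (Submodule.Quotient.mk_eq_zero _).mp hn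
    obtain ⟨k, hk⟩ := h1
    have h2 : n ∈ DRing.torsionSub I N :=
      ⟨k, fun c hc => hf (by rw [_root_.map_smul, hk c hc, map_zero])⟩
    rw [hN] at h2
    exact h2
  have hS := scInj_shortExact φ hφ
  haveI hinj : Injective (scInj φ).X₂ :=
    Module.injective_object_of_injective_module R (E₁ ⧸ DRing.torsionSub I E₁)
  have h0 : Subsingleton ((localCohomology I 0).obj (scInj φ).X₂) :=
    subsingleton_H0 I _ (torsionSub_quotient_eq_bot' I E₁)
  rw [injective_iff_map_eq_zero]
  intro x hx
  obtain ⟨c, rfl⟩ := δ_surjective_of_injective I' (scInj φ) hS 0 x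
  have h1 : (δ I (scInj φ) hS 0).hom ((Ψ h 0 (scInj φ).X₃).hom c) = 0 :=
    (Ψ_δ_apply h (scInj φ) hS 0 c).trans hx
  obtain ⟨e, he⟩ := (exact₃ I (scInj φ) hS 0 _).mp h1
  have h2 : (Ψ h 0 (scInj φ).X₃).hom c = 0 := by
    rw [← he, Subsingleton.elim e 0, map_zero]
  have h3 : c = 0 := Ψ_zero_injective h (scInj φ).X₃ (h2.trans (map_zero _).symm)
  exact (congrArg (δ I' (scInj φ) hS 0).hom h3).trans (map_zero _)

omit [IsNoetherianRing R] in
/-- Transport of kernels along a commutative square with bijective left side and injective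
right side. -/
lemma nonempty_ker_equiv {A A' B B' : Type u} [AddCommGroup A] [Module R A] [AddCommGroup A']
    [Module R A'] [AddCommGroup B] [Module R B] [AddCommGroup B'] [Module R B']
    (Ψ₁ : A →ₗ[R] B) (Ψ₂ : A' →ₗ[R] B') (α : A →ₗ[R] A') (β : B →ₗ[R] B')
    (hα : Function.Bijective α) (hβ : Function.Injective β)
    (hcomm : ∀ x, β (Ψ₁ x) = Ψ₂ (α x)) :
    Nonempty (LinearMap.ker Ψ₁ ≃ₗ[R] LinearMap.ker Ψ₂) := by
  let θ : LinearMap.ker Ψ₁ →ₗ[R] LinearMap.ker Ψ₂ :=
    LinearMap.codRestrict _ (α ∘ₗ (LinearMap.ker Ψ₁).subtype) (fun x => by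
      rw [LinearMap.mem_ker, LinearMap.comp_apply, Submodule.subtype_apply, ← hcomm,
        LinearMap.mem_ker.mp x.2, map_zero])
  refine ⟨LinearEquiv.ofBijective θ ⟨?_, ?_⟩⟩
  · intro x y hxy
    have h1 : α x.1 = α y.1 := congrArg Subtype.val hxy
    exact Subtype.ext (hα.1 h1)
  · intro y
    obtain ⟨x, hx⟩ := hα.2 y.1
    have hxker : x ∈ LinearMap.ker Ψ₁ := by
      rw [LinearMap.mem_ker]
      apply hβ
      rw [hcomm, hx, LinearMap.mem_ker.mp y.2, map_zero]
    exact ⟨⟨x, hxker⟩, Subtype.ext hx⟩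

/-- `H^1_{a+(b)}(G) ≅ coker (G → G_b)` for an `a`-power-torsion module `G`. -/
theorem h1_sup_span_of_isPowerTorsion (G : Type u) [AddCommGroup G] [Module R G]
    (hG : LocCoh.IsPowerTorsion a G) :
    Nonempty ((LocalizedModule (Submonoid.powers b) G ⧸
      LinearMap.range (LocalizedModule.mkLinearMap (Submonoid.powers b) G)) ≃ₗ[R]
        (localCohomology (a ⊔ Ideal.span {b}) 1).obj (ModuleCat.of R G)) := by
  let J : Ideal R := a ⊔ Ideal.span {b}
  have hbJ : b ∈ J := le_sup_right (a := a) (Ideal.mem_span_singleton_self b)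
  let L := LocalizedModule (Submonoid.powers b) G
  let η : G →ₗ[R] L := LocalizedModule.mkLinearMap (Submonoid.powers b) G
  let T := DRing.torsionSub J G
  have hTeq : DRing.torsionSub (Ideal.span {b}) G = T := by
    apply le_antisymm
    · intro g hg
      obtain ⟨k, hk⟩ := hG g
      obtain ⟨n, hn⟩ := (mem_torsionSub_span_singleton b g).mp hg
      exact mem_torsionSub_sup_span a b g k n hk hn
    · exact torsionSub_anti le_sup_right G
  have hker : LinearMap.ker η = T := (ker_mkLinearMap_powers b G).trans hTeq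
  let η' : (G ⧸ T) →ₗ[R] L := T.liftQ η (le_of_eq hker.symm)
  have hη' : Function.Injective η' := by
    rw [← LinearMap.ker_eq_bot]
    exact Submodule.ker_liftQ_eq_bot' T η hker.symm
  have hrange : LinearMap.range η' = LinearMap.range η := Submodule.range_liftQ T η _
  have hS := scInj_shortExact η' hη'
  have hL : ∀ i, Subsingleton ((localCohomology J i).obj (scInj η').X₂) := fun i =>
    subsingleton_of_smul_bijective J b hbJ L (smul_bijective_localizedModule b G) i
  have hLa : LocCoh.IsPowerTorsion a L := by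
    intro l
    induction l using LocalizedModule.induction_on with
    | h g s =>
      obtain ⟨k, hk⟩ := hG g
      refine ⟨k, fun c hc => ?_⟩
      rw [LocalizedModule.smul'_mk, hk c hc, LocalizedModule.zero_mk]
  have hQ : LocCoh.IsPowerTorsion J (L ⧸ LinearMap.range η') := by
    intro q
    obtain ⟨k, hk⟩ := isPowerTorsion_quotient a hLa (LinearMap.range η') q
    obtain ⟨n, hn⟩ := isPowerTorsion_coker_localization b G _ (le_of_eq hrange.symm) q
    have hn' : b ^ n • q = 0 := hn _ (Ideal.pow_mem_pow (Ideal.mem_span_singleton_self b) n)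
    exact mem_torsionSub_sup_span a b q k n hk hn'
  have hδ : Function.Bijective (δ J (scInj η') hS 0).hom := by
    constructor
    · rw [injective_iff_map_eq_zero]
      intro y hy
      obtain ⟨z, rfl⟩ := (exact₃ J (scInj η') hS 0 y).mp hy
      have := hL 0
      rw [Subsingleton.elim z 0]
      exact map_zero _
    · intro x
      have := hL 1
      have h1 : ((localCohomology J 1).map (scInj η').f).hom x = 0 := Subsingleton.elim _ _
      exact (exact₁ J (scInj η') hS 0 x).mp h1
  let e1 : (L ⧸ LinearMap.range η) ≃ₗ[R] (L ⧸ LinearMap.range η') :=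
    Submodule.quotEquivOfEq _ _ hrange.symm
  let e2 : (localCohomology J 0).obj (ModuleCat.of R (L ⧸ LinearMap.range η')) ≃ₗ[R]
      (L ⧸ LinearMap.range η') := H0equiv J (ModuleCat.of R (L ⧸ LinearMap.range η')) hQ
  let e3 : (localCohomology J 0).obj (ModuleCat.of R (L ⧸ LinearMap.range η')) ≃ₗ[R]
      (localCohomology J 1).obj (ModuleCat.of R (G ⧸ T)) :=
    LinearEquiv.ofBijective (δ J (scInj η') hS 0).hom hδ
  let e4 : (localCohomology J 1).obj (ModuleCat.of R G) ≃ₗ[R]
      (localCohomology J 1).obj (ModuleCat.of R (G ⧸ T)) :=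
    LinearEquiv.ofBijective ((localCohomology J 1).map (ModuleCat.ofHom T.mkQ)).hom
      (map_mkQ_bijective J G 1 Nat.one_pos)
  exact ⟨e1.trans (e2.symm.trans (e3.trans e4.symm))⟩

/-- `H^0_a(M) ≃ Γ_a(M)`. -/
noncomputable def H0equivTorsionSub (I : Ideal R) (M : Type u) [AddCommGroup M] [Module R M] :
    (localCohomology I 0).obj (ModuleCat.of R M) ≃ₗ[R] DRing.torsionSub I M :=
  LinearEquiv.ofBijective
    (LinearMap.codRestrict (DRing.torsionSub I M) (ε I (ModuleCat.of R M)).hom (fun x => by
      have : (ε I (ModuleCat.of R M)).hom x ∈ LinearMap.range (ε I (ModuleCat.of R M)).hom :=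
        ⟨x, rfl⟩
      rw [range_ε] at this
      exact this))
    ⟨fun x y hxy => ε_injective I _ (congrArg Subtype.val hxy), fun m => by
      have : (m : M) ∈ LinearMap.range (ε I (ModuleCat.of R M)).hom := by
        rw [range_ε]; exact m.2
      obtain ⟨x, hx⟩ := this
      exact ⟨x, Subtype.ext hx⟩⟩

/-- The base case: `ker (H^1_{a+(b)}(M) → H^1_a(M)) ≅ H^1_{(b)}(H^0_a(M))`. -/
theorem nonempty_ker_Ψ_one_equiv (M : Type u) [AddCommGroup M] [Module R M] :
    Nonempty (LinearMap.ker (Ψ (le_sup_left : a ≤ a ⊔ Ideal.span {b}) 1 (ModuleCat.of R M)).hom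
      ≃ₗ[R] (localCohomology (Ideal.span {b}) 1).obj
        (ModuleCat.of R ((localCohomology a 0).obj (ModuleCat.of R M)))) := by
  let J : Ideal R := a ⊔ Ideal.span {b}
  have h0 : a ≤ J := le_sup_left
  let G := DRing.torsionSub a M
  have hS := scSub_shortExact G
  have hGtors : LocCoh.IsPowerTorsion a G := isPowerTorsion_torsionSub a M
  have hMbar : DRing.torsionSub a (M ⧸ G) = ⊥ := torsionSub_quotient_eq_bot' a M
  have hMbarJ : DRing.torsionSub J (M ⧸ G) = ⊥ := by
    rw [eq_bot_iff, ← hMbar]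
    exact torsionSub_anti h0 _
  have hH0 : Subsingleton ((localCohomology J 0).obj (scSub G).X₃) := subsingleton_H0 J _ hMbarJ
  have hH1 : Subsingleton ((localCohomology a 1).obj (scSub G).X₁) :=
    subsingleton_of_isPowerTorsion a 0 G hGtors
  -- `ι : H^1_J(G) → H^1_J(M)` is injective with image the kernel of `Ψ`
  have hιinj : Function.Injective ((localCohomology J 1).map (scSub G).f).hom := by
    rw [injective_iff_map_eq_zero]
    intro x hx
    obtain ⟨z, rfl⟩ := (exact₁ J (scSub G) hS 0 x).mp hx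
    rw [Subsingleton.elim z 0, map_zero]
  have hιker : ∀ x, ((localCohomology J 1).map (scSub G).f).hom x ∈
      LinearMap.ker (Ψ h0 1 (scSub G).X₂).hom := by
    intro x
    rw [LinearMap.mem_ker, Ψ_naturality_apply, Subsingleton.elim ((Ψ h0 1 (scSub G).X₁).hom x) 0,
      map_zero]
  have hιsurj : ∀ y ∈ LinearMap.ker (Ψ h0 1 (scSub G).X₂).hom,
      ∃ x, ((localCohomology J 1).map (scSub G).f).hom x = y := by
    intro y hy
    rw [LinearMap.mem_ker] at hy
    have h1 : (Ψ h0 1 (scSub G).X₃).hom (((localCohomology J 1).map (scSub G).g).hom y) = 0 := by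
      rw [Ψ_naturality_apply, hy, map_zero]
    have h2 : ((localCohomology J 1).map (scSub G).g).hom y = 0 :=
      Ψ_one_injective_of_torsionSub_eq_bot h0 (M ⧸ G) hMbar (h1.trans (map_zero _).symm)
    exact (exact₂ J (scSub G) hS 1 y).mp h2
  let θ : (localCohomology J 1).obj (ModuleCat.of R G) →ₗ[R]
      LinearMap.ker (Ψ h0 1 (ModuleCat.of R M)).hom :=
    LinearMap.codRestrict _ ((localCohomology J 1).map (scSub G).f).hom hιker
  have hθ : Function.Bijective θ := by
    constructor
    · intro x y hxy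
      exact hιinj (congrArg Subtype.val hxy)
    · intro y
      obtain ⟨x, hx⟩ := hιsurj y.1 y.2
      exact ⟨x, Subtype.ext hx⟩
  obtain ⟨e1⟩ := h1_sup_span_of_isPowerTorsion a b G hGtors
  obtain ⟨e2⟩ := h1_principal b G
  obtain ⟨e3⟩ := exists_linearEquiv_of_linearEquiv (Ideal.span {b}) 1
    (H0equivTorsionSub a M).symm
  exact ⟨(LinearEquiv.ofBijective θ hθ).symm.trans (e1.symm.trans (e2.trans e3))⟩

end Kernel

section KernelStep

variable [IsNoetherianRing R]

lemma cdLE_span_singleton : LocCoh.CdLE R (Ideal.span {b}) 1 := by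
  have h := cdLE_sup_span_singleton (⊥ : Ideal R) b 0 cdLE_bot
  rwa [bot_sup_eq, zero_add] at h

/-- `H^1_{(b)}(H^0_a(C)) ≅ H^1_{(b)}(H^1_a(M))` for `0 → M → E → C → 0` with `E` injective. -/
lemma nonempty_H1_H0_equiv (S : ShortComplex (ModuleCat.{u} R)) (hS : S.ShortExact)
    [Injective S.X₂] :
    Nonempty ((localCohomology (Ideal.span {b}) 1).obj
        (ModuleCat.of R ((localCohomology a 0).obj S.X₃)) ≃ₗ[R]
      (localCohomology (Ideal.span {b}) 1).obj
        (ModuleCat.of R ((localCohomology a 1).obj S.X₁))) := by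
  have hcd := cdLE_span_singleton (R := R) b
  let Q : Submodule R ((localCohomology a 0).obj S.X₃) := LinearMap.ker (δ a S hS 0).hom
  -- `H^0_a(E) → Q` is surjective
  let γ : (localCohomology a 0).obj S.X₂ →ₗ[R] Q :=
    LinearMap.codRestrict Q ((localCohomology a 0).map S.g).hom (fun e => by
      rw [LinearMap.mem_ker]
      exact δ_map_g a S hS 0 e)
  have hγ : Function.Surjective γ := by
    intro q
    obtain ⟨e, he⟩ := (exact₃ a S hS 0 q.1).mp (LinearMap.mem_ker.mp q.2)
    exact ⟨e, Subtype.ext he⟩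
  -- `H^1_{(b)}(H^0_a(E)) = 0`
  haveI : Module.Injective R S.X₂ := Module.injective_module_of_injective_object R S.X₂
  haveI := torsionSub_injective a S.X₂
  haveI : Injective (ModuleCat.of R (DRing.torsionSub a S.X₂)) :=
    Module.injective_object_of_injective_module R _
  have hP : Subsingleton ((localCohomology (Ideal.span {b}) 1).obj
      (ModuleCat.of R ((localCohomology a 0).obj S.X₂))) := by
    obtain ⟨e⟩ := exists_linearEquiv_of_linearEquiv (Ideal.span {b}) 1
      (H0equivTorsionSub a S.X₂)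
    haveI := subsingleton_of_injective (Ideal.span {b}) 0
      (ModuleCat.of R (DRing.torsionSub a S.X₂))
    exact e.injective.subsingleton
  have hQ1 : Subsingleton ((localCohomology (Ideal.span {b}) 1).obj (ModuleCat.of R Q)) :=
    subsingleton_right (Ideal.span {b}) 1 (LinearMap.ker γ).subtype γ
      (LinearMap.exact_subtype_ker_map γ) (LinearMap.ker γ).injective_subtype hγ hP
      (hcd _ 2 (by omega))
  have hQ2 : Subsingleton ((localCohomology (Ideal.span {b}) 2).obj (ModuleCat.of R Q)) :=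
    hcd _ 2 (by omega)
  have hbij := map_bijective_of_exact_right (Ideal.span {b}) 1 Q.subtype (δ a S hS 0).hom
    (LinearMap.exact_subtype_ker_map _) Q.injective_subtype
    (δ_surjective_of_injective a S hS 0) hQ1 hQ2
  exact ⟨LinearEquiv.ofBijective _ hbij⟩

/-- The kernel of the comparison map `H^{i+1}_{a+(b)}(M) → H^{i+1}_a(M)` is isomorphic to
`H^1_{(b)}(H^i_a(M))`. -/
theorem nonempty_ker_Ψ_succ_equiv (i : ℕ) : ∀ (M : Type u) [AddCommGroup M] [Module R M],
    Nonempty (LinearMap.ker
        (Ψ (le_sup_left : a ≤ a ⊔ Ideal.span {b}) (i + 1) (ModuleCat.of R M)).hom ≃ₗ[R]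
      (localCohomology (Ideal.span {b}) 1).obj
        (ModuleCat.of R ((localCohomology a i).obj (ModuleCat.of R M)))) := by
  induction i with
  | zero => exact fun M _ _ => nonempty_ker_Ψ_one_equiv a b M
  | succ i ih =>
    intro M _ _
    have h0 : a ≤ a ⊔ Ideal.span {b} := le_sup_left
    obtain ⟨E₀, _, _, f, hf, hE⟩ := exists_injective_embedding (R := R) M
    have hS := scInj_shortExact f hf
    haveI hinj : Injective (scInj f).X₂ := Module.injective_object_of_injective_module R E₀
    obtain ⟨eK⟩ := nonempty_ker_equiv (Ψ h0 (i + 1) (scInj f).X₃).hom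
      (Ψ h0 (i + 1 + 1) (scInj f).X₁).hom
      (δ (a ⊔ Ideal.span {b}) (scInj f) hS (i + 1)).hom (δ a (scInj f) hS (i + 1)).hom
      ⟨δ_injective_of_injective _ _ hS i, δ_surjective_of_injective _ _ hS (i + 1)⟩
      (δ_injective_of_injective a _ hS i) (fun x => Ψ_δ_apply h0 (scInj f) hS (i + 1) x)
    obtain ⟨eIH⟩ := ih (E₀ ⧸ LinearMap.range f)
    have hT : Nonempty ((localCohomology (Ideal.span {b}) 1).obj
          (ModuleCat.of R ((localCohomology a i).obj (scInj f).X₃)) ≃ₗ[R]
        (localCohomology (Ideal.span {b}) 1).obj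
          (ModuleCat.of R ((localCohomology a (i + 1)).obj (scInj f).X₁))) := by
      rcases i with _ | i'
      · exact nonempty_H1_H0_equiv a b (scInj f) hS
      · exact exists_linearEquiv_of_linearEquiv (Ideal.span {b}) 1
          (LinearEquiv.ofBijective (δ a (scInj f) hS (i' + 1)).hom
            ⟨δ_injective_of_injective a _ hS i', δ_surjective_of_injective a _ hS (i' + 1)⟩)
    obtain ⟨eT⟩ := hT
    exact ⟨eK.symm.trans (eIH.trans eT)⟩

end KernelStep

end Groth.Agent.H13.LC
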