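import Groth.Agent.H13.LCGor
import Groth.Agent.H13.LCAddMap
import Groth.Agent.H13.LCGV
import Groth.Agent.H13.LCPsiB
import Groth.Agent.H29.ExtBaseChange

/-!
# Local duality over a Gorenstein local ring

`Φ I i M : H^i_I(M) → Hom(Hom(M, R), H^i_I(R))`, its bijectivity in top degree, and the
local duality isomorphism `H^i_m(M) ≃ Hom(Ext^{n-i}(M, R), H^n_m(R))`.
-/

set_option autoImplicit false
set_option linter.style.haveILetI false
set_option linter.unusedSectionVars false

open CategoryTheory Limits Opposite IsLocalRing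

namespace Groth.Agent.H13.LC

universe u

section Phi

variable {R : Type u} [CommRing R] (I : Ideal R) (i : ℕ)

/-- The evaluation map `H^i_I(M) → Hom(Hom(M, R), H^i_I(R))`. -/
noncomputable def Φ (M : Type u) [AddCommGroup M] [Module R M] :
    (localCohomology I i).obj (ModuleCat.of R M) →ₗ[R]
      ((M →ₗ[R] R) →ₗ[R] (localCohomology I i).obj (ModuleCat.of R R)) where
  toFun ξ :=
    { toFun := fun φ => ((localCohomology I i).map (ModuleCat.ofHom φ)).hom ξ
      map_add' := fun φ ψ => by
        have h : ModuleCat.ofHom (φ + ψ) = ModuleCat.ofHom φ + ModuleCat.ofHom ψ := rfl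
        rw [h, map_add_apply]
      map_smul' := fun c φ => by
        have h : ModuleCat.ofHom (c • φ) = c • ModuleCat.ofHom φ := rfl
        rw [h, map_smul]
        rfl }
  map_add' ξ η := by
    ext φ
    exact _root_.map_add ((localCohomology I i).map (ModuleCat.ofHom φ)).hom ξ η
  map_smul' c ξ := by
    ext φ
    exact _root_.map_smul ((localCohomology I i).map (ModuleCat.ofHom φ)).hom c ξ

lemma Φ_apply (M : Type u) [AddCommGroup M] [Module R M]
    (ξ : (localCohomology I i).obj (ModuleCat.of R M)) (φ : M →ₗ[R] R) :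
    Φ I i M ξ φ = ((localCohomology I i).map (ModuleCat.ofHom φ)).hom ξ := rfl

lemma Φ_naturality {M M' : Type u} [AddCommGroup M] [Module R M] [AddCommGroup M'] [Module R M']
    (f : M →ₗ[R] M') (ξ : (localCohomology I i).obj (ModuleCat.of R M)) (φ' : M' →ₗ[R] R) :
    Φ I i M' (((localCohomology I i).map (ModuleCat.ofHom f)).hom ξ) φ' =
      Φ I i M ξ (φ' ∘ₗ f) := by
  rw [Φ_apply, Φ_apply]
  have h : ModuleCat.ofHom (φ' ∘ₗ f) = ModuleCat.ofHom f ≫ ModuleCat.ofHom φ' := rfl
  rw [h, Functor.map_comp]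
  rfl

/-- `Φ` is bijective on finite free modules. -/
theorem Φ_bijective_free (a : ℕ) : Function.Bijective (Φ I i (Fin a → R)) := by
  classical
  let e : Fin a → (Fin a → R) := fun k j => if k = j then 1 else 0
  let ι : Fin a → (R →ₗ[R] (Fin a → R)) := fun k => LinearMap.toSpanSingleton R (Fin a → R) (e k)
  let π : Fin a → ((Fin a → R) →ₗ[R] R) := fun k => LinearMap.proj k
  have hid : (LinearMap.id : (Fin a → R) →ₗ[R] (Fin a → R)) = ∑ k, (ι k) ∘ₗ (π k) := by
    refine LinearMap.ext fun x => ?_
    rw [LinearMap.id_apply, LinearMap.sum_apply]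
    exact pi_eq_sum_univ x
  have hH : ∀ ξ : (localCohomology I i).obj (ModuleCat.of R (Fin a → R)),
      ξ = ∑ k, ((localCohomology I i).map (ModuleCat.ofHom (ι k))).hom
        (((localCohomology I i).map (ModuleCat.ofHom (π k))).hom ξ) := by
    intro ξ
    have h1 : 𝟙 (ModuleCat.of R (Fin a → R)) =
        ∑ k, ModuleCat.ofHom (π k) ≫ ModuleCat.ofHom (ι k) := by
      apply ModuleCat.hom_ext
      rw [ModuleCat.hom_sum]
      exact hid
    have h2 := map_sum_apply I i Finset.univ
      (fun k => ModuleCat.ofHom (π k) ≫ ModuleCat.ofHom (ι k)) ξ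
    rw [← h1, CategoryTheory.Functor.map_id] at h2
    refine h2.trans (Finset.sum_congr rfl fun k _ => ?_)
    rw [Functor.map_comp]
    rfl
  constructor
  · rw [injective_iff_map_eq_zero]
    intro ξ hξ
    rw [hH ξ]
    apply Finset.sum_eq_zero
    intro k _
    have h3 : ((localCohomology I i).map (ModuleCat.ofHom (π k))).hom ξ = 0 :=
      LinearMap.congr_fun hξ (π k)
    rw [h3, map_zero]
  · intro θ
    refine ⟨∑ k, ((localCohomology I i).map (ModuleCat.ofHom (ι k))).hom (θ (π k)), ?_⟩
    refine LinearMap.ext fun φ => ?_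
    have hφ : φ = ∑ k, φ (e k) • π k := by
      refine LinearMap.ext fun x => ?_
      rw [LinearMap.pi_apply_eq_sum_univ φ x, LinearMap.sum_apply]
      refine Finset.sum_congr rfl fun k _ => ?_
      rw [LinearMap.smul_apply, smul_eq_mul, smul_eq_mul, mul_comm]
      rfl
    have hθ : θ φ = ∑ k, φ (e k) • θ (π k) := by
      conv_lhs => rw [hφ]
      rw [map_sum]
      refine Finset.sum_congr rfl fun k _ => ?_
      rw [LinearMap.map_smul]
    rw [hθ, Φ_apply, map_sum]
    refine Finset.sum_congr rfl fun k _ => ?_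
    have hc : ModuleCat.ofHom (ι k) ≫ ModuleCat.ofHom φ =
        ModuleCat.ofHom (φ (e k) • (LinearMap.id : R →ₗ[R] R)) := by
      apply ModuleCat.hom_ext
      apply LinearMap.ext_ring
      change φ ((1 : R) • e k) = φ (e k) • (1 : R)
      rw [one_smul, smul_eq_mul, mul_one]
    have h4 := map_smul_id_apply I i R (φ (e k)) (θ (π k))
    rw [← hc, Functor.map_comp] at h4
    exact h4

end Phi

section Top

variable {R : Type u} [CommRing R] [IsNoetherianRing R] (I : Ideal R) (n : ℕ)

/-- `Φ` is surjective in a degree where `H^n_I(R)` is injective. -/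
theorem Φ_surjective_of_finite
    (hE : Module.Injective R ((localCohomology I n).obj (ModuleCat.of R R)))
    (M : Type u) [AddCommGroup M] [Module R M] [Module.Finite R M] :
    Function.Surjective (Φ I n M) := by
  obtain ⟨a, f, hf⟩ := Module.Finite.exists_fin' R M
  intro θ
  let fs : (M →ₗ[R] R) →ₗ[R] ((Fin a → R) →ₗ[R] R) := LinearMap.lcomp R R f
  have hfs : Function.Injective fs := by
    intro φ ψ h
    refine LinearMap.ext fun m => ?_
    obtain ⟨x, rfl⟩ := hf m
    exact LinearMap.congr_fun h x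
  obtain ⟨θ', hθ'⟩ := hE.out fs hfs θ
  obtain ⟨ξ', hξ'⟩ := (Φ_bijective_free I n a).2 θ'
  refine ⟨((localCohomology I n).map (ModuleCat.ofHom f)).hom ξ', ?_⟩
  refine LinearMap.ext fun φ => ?_
  rw [Φ_naturality, hξ']
  exact hθ' φ

/-- `Φ` is injective in the top degree. -/
theorem Φ_injective_of_finite
    (hE : Module.Injective R ((localCohomology I n).obj (ModuleCat.of R R)))
    (hGV : ∀ (X : Type u) [AddCommGroup X] [Module R X] [Module.Finite R X],
      Subsingleton ((localCohomology I (n + 1)).obj (ModuleCat.of R X)))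
    (M : Type u) [AddCommGroup M] [Module R M] [Module.Finite R M] :
    Function.Injective (Φ I n M) := by
  obtain ⟨a, f, hf⟩ := Module.Finite.exists_fin' R M
  let K := LinearMap.ker f
  have hex : Function.Exact K.subtype f := LinearMap.exact_subtype_ker_map f
  have hS := scLin_shortExact K.subtype f hex (Submodule.injective_subtype K) hf
  have hKvan : Subsingleton ((localCohomology I (n + 1)).obj (ModuleCat.of R K)) := hGV K
  rw [injective_iff_map_eq_zero]
  intro ξ hξ
  obtain ⟨ξ', rfl⟩ : ∃ ξ', ((localCohomology I n).map (ModuleCat.ofHom f)).hom ξ' = ξ :=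
    (exact₃ I (scLin K.subtype f hex) hS n ξ).mp (hKvan.elim _ _)
  -- `θ' = Φ_F ξ'` vanishes on the image of `f^*`
  let fs : (M →ₗ[R] R) →ₗ[R] ((Fin a → R) →ₗ[R] R) := LinearMap.lcomp R R f
  let ιs : ((Fin a → R) →ₗ[R] R) →ₗ[R] (K →ₗ[R] R) := LinearMap.lcomp R R K.subtype
  have hker : LinearMap.ker ιs ≤ LinearMap.ker (Φ I n (Fin a → R) ξ') := by
    intro ψ hψ
    rw [LinearMap.mem_ker] at hψ ⊢
    -- `ψ` kills `K`, hence factors through `f`
    have hψK : LinearMap.ker f ≤ LinearMap.ker ψ := by
      intro x hx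
      rw [LinearMap.mem_ker]
      exact LinearMap.congr_fun hψ ⟨x, hx⟩
    let e := f.quotKerEquivOfSurjective hf
    let φ : M →ₗ[R] R := ((LinearMap.ker f).liftQ ψ hψK) ∘ₗ e.symm.toLinearMap
    have hφ : φ ∘ₗ f = ψ := by
      refine LinearMap.ext fun x => ?_
      change ((LinearMap.ker f).liftQ ψ hψK) (e.symm (f x)) = ψ x
      have h1 : e.symm (f x) = Submodule.Quotient.mk x := by
        rw [LinearEquiv.symm_apply_eq]
        rfl
      rw [h1]
      rfl
    have h2 := Φ_naturality I n f ξ' φ
    rw [hξ, hφ] at h2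
    exact h2.symm
  let q1 : (((Fin a → R) →ₗ[R] R) ⧸ LinearMap.ker ιs) →ₗ[R] (K →ₗ[R] R) :=
    (LinearMap.ker ιs).liftQ ιs le_rfl
  have hq1 : Function.Injective q1 := by
    rw [← LinearMap.ker_eq_bot]
    exact Submodule.ker_liftQ_eq_bot' _ _ rfl
  let q2 : (((Fin a → R) →ₗ[R] R) ⧸ LinearMap.ker ιs) →ₗ[R]
      (localCohomology I n).obj (ModuleCat.of R R) :=
    (LinearMap.ker ιs).liftQ (Φ I n (Fin a → R) ξ') hker
  obtain ⟨θ'', hθ''⟩ := hE.out q1 hq1 q2
  haveI : Module.Finite R K := Module.IsNoetherian.finite R K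
  obtain ⟨ξ'', hξ''⟩ := Φ_surjective_of_finite I n hE K θ''
  have h3 : Φ I n (Fin a → R) (((localCohomology I n).map (ModuleCat.ofHom K.subtype)).hom ξ'') =
      Φ I n (Fin a → R) ξ' := by
    refine LinearMap.ext fun ψ => ?_
    rw [Φ_naturality, hξ'']
    exact hθ'' (Submodule.Quotient.mk ψ)
  have h4 := (Φ_bijective_free I n a).1 h3
  rw [← h4]
  have h5 := (exact₂ I (scLin K.subtype f hex) hS n
    (((localCohomology I n).map (ModuleCat.ofHom K.subtype)).hom ξ'')).mpr ⟨ξ'', rfl⟩
  exact h5

theorem Φ_bijective_of_finite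
    (hE : Module.Injective R ((localCohomology I n).obj (ModuleCat.of R R)))
    (hGV : ∀ (X : Type u) [AddCommGroup X] [Module R X] [Module.Finite R X],
      Subsingleton ((localCohomology I (n + 1)).obj (ModuleCat.of R X)))
    (M : Type u) [AddCommGroup M] [Module R M] [Module.Finite R M] :
    Function.Bijective (Φ I n M) :=
  ⟨Φ_injective_of_finite I n hE hGV M, Φ_surjective_of_finite I n hE M⟩

end Top

section Duality

open Abelian Groth.Agent.H29

variable {R : Type u} [CommRing R]

/-- `Ext^0(M, R) ≃ Hom(M, R)`. -/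
noncomputable def ext0Equiv (M : Type u) [AddCommGroup M] [Module R M] :
    Ext (ModuleCat.of R M) (ModuleCat.of R R) 0 ≃ₗ[R] (M →ₗ[R] R) :=
  (Ext.linearEquiv₀ (R := R) (X := ModuleCat.of R M) (Y := ModuleCat.of R R)).trans
    (ModuleCat.homLinearEquiv (S := R))

lemma ext0Equiv_mk₀ (M : Type u) [AddCommGroup M] [Module R M]
    (ψ : ModuleCat.of R M ⟶ ModuleCat.of R R) : ext0Equiv M (Ext.mk₀ ψ) = ψ.hom := by
  have h : Ext.mk₀ ψ = (Ext.linearEquiv₀ (R := R)).symm ψ := rfl
  simp only [ext0Equiv, LinearEquiv.trans_apply, h, LinearEquiv.apply_symm_apply]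
  rfl

lemma ext0Equiv_precomp {K F : Type u} [AddCommGroup K] [Module R K] [AddCommGroup F] [Module R F]
    (ι : K →ₗ[R] F) (x : Ext (ModuleCat.of R F) (ModuleCat.of R R) 0) :
    ext0Equiv K ((Ext.mk₀ (ModuleCat.ofHom ι)).precompOfLinear R (ModuleCat.of R R)
      (zero_add 0) x) = (ext0Equiv F x) ∘ₗ ι := by
  obtain ⟨φ, rfl⟩ : ∃ φ : ModuleCat.of R F ⟶ ModuleCat.of R R, Ext.mk₀ φ = x :=
    ⟨Ext.linearEquiv₀ (R := R) x, Ext.mk₀_linearEquiv₀_apply x⟩
  change ext0Equiv K ((Ext.mk₀ (ModuleCat.ofHom ι)).comp (Ext.mk₀ φ) (zero_add 0)) = _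
  rw [Ext.mk₀_comp_mk₀, ext0Equiv_mk₀, ext0Equiv_mk₀]
  rfl

/-- Dual of a right exact sequence. -/
lemma nonempty_dual_equiv_ker {A B C E : Type u} [AddCommGroup A] [Module R A] [AddCommGroup B]
    [Module R B] [AddCommGroup C] [Module R C] [AddCommGroup E] [Module R E]
    (a : A →ₗ[R] B) (b : B →ₗ[R] C) (hex : Function.Exact a b) (hb : Function.Surjective b) :
    Nonempty ((C →ₗ[R] E) ≃ₗ[R] LinearMap.ker (LinearMap.lcomp R E a)) := by
  let T : (C →ₗ[R] E) →ₗ[R] LinearMap.ker (LinearMap.lcomp R E a) :=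
    LinearMap.codRestrict _ (LinearMap.lcomp R E b) (fun θ => by
      rw [LinearMap.mem_ker]
      refine LinearMap.ext fun x => ?_
      change θ (b (a x)) = 0
      rw [hex.apply_apply_eq_zero, map_zero])
  refine ⟨LinearEquiv.ofBijective T ⟨?_, ?_⟩⟩
  · intro θ θ' h
    refine LinearMap.ext fun c => ?_
    obtain ⟨y, rfl⟩ := hb c
    exact LinearMap.congr_fun (congrArg Subtype.val h) y
  · rintro ⟨ψ, hψ⟩
    rw [LinearMap.mem_ker] at hψ
    have hk : LinearMap.ker b ≤ LinearMap.ker ψ := by
      intro y hy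
      obtain ⟨x, rfl⟩ := (hex y).mp hy
      exact LinearMap.congr_fun hψ x
    let e := b.quotKerEquivOfSurjective hb
    refine ⟨((LinearMap.ker b).liftQ ψ hk) ∘ₗ e.symm.toLinearMap, ?_⟩
    apply Subtype.ext
    refine LinearMap.ext fun y => ?_
    change ((LinearMap.ker b).liftQ ψ hk) (e.symm (b y)) = ψ y
    have h1 : e.symm (b y) = Submodule.Quotient.mk y := by
      rw [LinearEquiv.symm_apply_eq]
      rfl
    rw [h1]
    rfl

variable [IsNoetherianRing R] (I : Ideal R) (n : ℕ)

/-- The level-0 duality map `H^n_I(M) → Hom(Ext^0(M, R), H^n_I(R))`. -/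
noncomputable def Λ (M : Type u) [AddCommGroup M] [Module R M] :
    (localCohomology I n).obj (ModuleCat.of R M) →ₗ[R]
      (Ext (ModuleCat.of R M) (ModuleCat.of R R) 0 →ₗ[R]
        (localCohomology I n).obj (ModuleCat.of R R)) :=
  (LinearMap.lcomp R _ (ext0Equiv M).toLinearMap) ∘ₗ Φ I n M

lemma Λ_apply (M : Type u) [AddCommGroup M] [Module R M]
    (ξ : (localCohomology I n).obj (ModuleCat.of R M))
    (x : Ext (ModuleCat.of R M) (ModuleCat.of R R) 0) :
    Λ I n M ξ x = Φ I n M ξ (ext0Equiv M x) := rfl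

lemma Λ_bijective (M : Type u) [AddCommGroup M] [Module R M]
    (h : Function.Bijective (Φ I n M)) : Function.Bijective (Λ I n M) := by
  constructor
  · rw [injective_iff_map_eq_zero]
    intro ξ hξ
    apply h.1
    rw [map_zero]
    refine LinearMap.ext fun φ => ?_
    have h1 := LinearMap.congr_fun hξ ((ext0Equiv M).symm φ)
    rw [Λ_apply, LinearEquiv.apply_symm_apply] at h1
    exact h1
  · intro θ
    obtain ⟨ξ, hξ⟩ := h.2 (θ ∘ₗ (ext0Equiv M).symm.toLinearMap)
    refine ⟨ξ, LinearMap.ext fun x => ?_⟩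
    rw [Λ_apply, hξ]
    change θ ((ext0Equiv M).symm (ext0Equiv M x)) = θ x
    rw [LinearEquiv.symm_apply_apply]

/-- Abstract local duality. -/
theorem duality_aux
    (hE : Module.Injective R ((localCohomology I n).obj (ModuleCat.of R R)))
    (hGV : ∀ (X : Type u) [AddCommGroup X] [Module R X] [Module.Finite R X],
      Subsingleton ((localCohomology I (n + 1)).obj (ModuleCat.of R X)))
    (hR : ∀ i < n, Subsingleton ((localCohomology I i).obj (ModuleCat.of R R)))
    (j : ℕ) : ∀ (M : Type u) [AddCommGroup M] [Module R M] [Module.Finite R M] (i : ℕ),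
      i + j = n →
      Nonempty ((localCohomology I i).obj (ModuleCat.of R M) ≃ₗ[R]
        (Ext (ModuleCat.of R M) (ModuleCat.of R R) j →ₗ[R]
          (localCohomology I n).obj (ModuleCat.of R R))) := by
  have hfree : ∀ (a i : ℕ), i < n →
      Subsingleton ((localCohomology I i).obj (ModuleCat.of R (Fin a → R))) := by
    intro a i hi
    haveI := hR i hi
    exact (Φ_bijective_free I i a).1.subsingleton
  induction j with
  | zero =>
    intro M _ _ _ i hi
    obtain rfl : i = n := by omega
    exact ⟨LinearEquiv.ofBijective (Λ I i M)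
      (Λ_bijective I i M (Φ_bijective_of_finite I i hE hGV M))⟩
  | succ j ih =>
    intro M _ _ _ i hi
    obtain ⟨a, f, hf⟩ := Module.Finite.exists_fin' R M
    have hex : Function.Exact (LinearMap.ker f).subtype f := LinearMap.exact_subtype_ker_map f
    have hS : (scLin (LinearMap.ker f).subtype f hex).ShortExact :=
      scLin_shortExact (LinearMap.ker f).subtype f hex (Submodule.injective_subtype _) hf
    haveI : Module.Finite R (LinearMap.ker f) := Module.IsNoetherian.finite R _
    have hproj : Projective (scLin (LinearMap.ker f).subtype f hex).X₂ := by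
      change Projective (ModuleCat.of R (Fin a → R))
      exact (IsProjective.iff_projective (R := R) (P := (Fin a → R))).mp inferInstance
    have hFi : Subsingleton ((localCohomology I i).obj (ModuleCat.of R (Fin a → R))) :=
      hfree a i (by omega)
    have hδinj : Function.Injective (δ I (scLin (LinearMap.ker f).subtype f hex) hS i).hom := by
      rw [injective_iff_map_eq_zero]
      intro y hy
      obtain ⟨z, rfl⟩ := (exact₃ I (scLin (LinearMap.ker f).subtype f hex) hS i y).mp hy
      exact (congrArg ((localCohomology I i).map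
        (scLin (LinearMap.ker f).subtype f hex).g).hom (hFi.elim z 0)).trans (map_zero _)
    rcases j with _ | j
    · -- level one
      obtain rfl : n = i + 1 := by omega
      let e1 : (localCohomology I i).obj (ModuleCat.of R M) ≃ₗ[R]
          LinearMap.ker ((localCohomology I (i + 1)).map
            (ModuleCat.ofHom (LinearMap.ker f).subtype)).hom :=
        LinearEquiv.ofBijective
          (LinearMap.codRestrict _ (δ I (scLin (LinearMap.ker f).subtype f hex) hS i).hom
            (fun y => (exact₁ I (scLin (LinearMap.ker f).subtype f hex) hS i _).mpr ⟨y, rfl⟩))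
          ⟨fun y y' h => hδinj (congrArg Subtype.val h), fun z => by
            obtain ⟨y, hy⟩ := (exact₁ I (scLin (LinearMap.ker f).subtype f hex) hS i z.1).mp z.2
            exact ⟨y, Subtype.ext hy⟩⟩
      obtain ⟨e2⟩ := nonempty_ker_equiv
        ((localCohomology I (i + 1)).map (ModuleCat.ofHom (LinearMap.ker f).subtype)).hom
        (LinearMap.lcomp R ((localCohomology I (i + 1)).obj (ModuleCat.of R R))
          ((Ext.mk₀ (ModuleCat.ofHom (LinearMap.ker f).subtype)).precompOfLinear R
            (ModuleCat.of R R) (zero_add 0)))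
        (Λ I (i + 1) (LinearMap.ker f)) (Λ I (i + 1) (Fin a → R))
        (Λ_bijective I (i + 1) _ (Φ_bijective_of_finite I (i + 1) hE hGV _))
        (Λ_bijective I (i + 1) _ (Φ_bijective_of_finite I (i + 1) hE hGV _)).1
        (fun ξ => by
          refine LinearMap.ext fun x => ?_
          change Λ I (i + 1) (Fin a → R) _ x = Λ I (i + 1) (LinearMap.ker f) ξ _
          rw [Λ_apply, Λ_apply, Φ_naturality, ext0Equiv_precomp])
      obtain ⟨e3⟩ := nonempty_dual_equiv_ker
        (E := (localCohomology I (i + 1)).obj (ModuleCat.of R R))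
        ((Ext.mk₀ (scLin (LinearMap.ker f).subtype f hex).f).precompOfLinear R
          (ModuleCat.of R R) (zero_add 0))
        (hS.extClass.precompOfLinear R (ModuleCat.of R R) (add_zero 1))
        (precomp_exact_zero hS (ModuleCat.of R R))
        (precomp_extClass_surjective_zero hS hproj (ModuleCat.of R R))
      exact ⟨e1.trans (e2.trans e3.symm)⟩
    · -- level `j + 2`
      have hFi1 : Subsingleton ((localCohomology I (i + 1)).obj (ModuleCat.of R (Fin a → R))) :=
        hfree a (i + 1) (by omega)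
      have hδsurj : Function.Surjective
          (δ I (scLin (LinearMap.ker f).subtype f hex) hS i).hom := by
        intro z
        exact (exact₁ I (scLin (LinearMap.ker f).subtype f hex) hS i z).mp (hFi1.elim _ _)
      obtain ⟨eK⟩ := ih (LinearMap.ker f) (i + 1) (by omega)
      let eExt : Ext (ModuleCat.of R (LinearMap.ker f)) (ModuleCat.of R R) (j + 1) ≃ₗ[R]
          Ext (ModuleCat.of R M) (ModuleCat.of R R) (j + 1 + 1) :=
        LinearEquiv.ofBijective
          (hS.extClass.precompOfLinear R (ModuleCat.of R R) (add_comm 1 (j + 1)))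
          (precomp_extClass_bijective hS hproj (ModuleCat.of R R) (j + 1) (by omega))
      let eδ : (localCohomology I i).obj (ModuleCat.of R M) ≃ₗ[R]
          (localCohomology I (i + 1)).obj (ModuleCat.of R (LinearMap.ker f)) :=
        LinearEquiv.ofBijective (δ I (scLin (LinearMap.ker f).subtype f hex) hS i).hom
          ⟨hδinj, hδsurj⟩
      exact ⟨eδ.trans (eK.trans (LinearEquiv.arrowCongr eExt (LinearEquiv.refl R _)))⟩

end Duality

end Groth.Agent.H13.LC
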