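import Groth.Agent.H13.ExtLES

/-!
# Linearity of left derived functors and of old `Ext`
-/

set_option autoImplicit false

open CategoryTheory Limits Opposite

namespace Groth.Agent.H13.DerivedLES

universe v v' u u' w

section Lin

variable {R : Type w} [Ring R]
  {C : Type u} [Category.{v} C] [Abelian C] [HasProjectiveResolutions C] [Linear R C]
  {D : Type u'} [Category.{v'} D] [Abelian D] [Linear R D]

lemma homologyMap_smul {ι : Type*} {c : ComplexShape ι} {K L : HomologicalComplex D c}
    (r : R) (φ : K ⟶ L) (i : ι) :
    HomologicalComplex.homologyMap (r • φ) i = r • HomologicalComplex.homologyMap φ i := by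
  dsimp only [HomologicalComplex.homologyMap]
  have : (HomologicalComplex.shortComplexFunctor D c i).map (r • φ) =
      r • (HomologicalComplex.shortComplexFunctor D c i).map φ := by
    ext <;> rfl
  rw [this, ShortComplex.homologyMap_smul]
  rfl

lemma leftDerived_map_smul (F : C ⥤ D) [F.Additive] [F.Linear R] (r : R) {X Y : C} (f : X ⟶ Y)
    (n : ℕ) : (F.leftDerived n).map (r • f) = r • (F.leftDerived n).map f := by
  let P := projectiveResolution X
  let Q := projectiveResolution Y
  let g := ProjectiveResolution.lift f P Q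
  have comm : g.f 0 ≫ Q.π.f 0 = P.π.f 0 ≫ f := ProjectiveResolution.lift_commutes_zero f P Q
  have comm' : (r • g).f 0 ≫ Q.π.f 0 = P.π.f 0 ≫ (r • f) := by
    rw [HomologicalComplex.smul_f_apply, Linear.smul_comp, comm]
    exact (Linear.comp_smul _ _ _ (P.π.f 0) r f).symm
  have h1 := ProjectiveResolution.isoLeftDerivedObj_hom_naturality f P Q g comm F n
  have h2 := ProjectiveResolution.isoLeftDerivedObj_hom_naturality (r • f) P Q (r • g) comm' F n
  rw [← cancel_mono (Q.isoLeftDerivedObj F n).hom, h2, Linear.smul_comp, h1]
  simp only [Functor.comp_map, HomologicalComplex.homologyFunctor_map]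
  rw [Functor.map_smul, homologyMap_smul]
  exact Linear.comp_smul _ _ _ _ _ _

lemma natTrans_leftDerived_smul {F G : C ⥤ D} [F.Additive] [G.Additive] (r : R) (α : F ⟶ G)
    (X : C) (n : ℕ) :
    (NatTrans.leftDerived (r • α) n).app X = r • (NatTrans.leftDerived α n).app X := by
  rw [(projectiveResolution X).leftDerived_app_eq (r • α) n,
    (projectiveResolution X).leftDerived_app_eq α n]
  have : (NatTrans.mapHomologicalComplex (r • α) (ComplexShape.down ℕ)).app
      (projectiveResolution X).complex =
      r • (NatTrans.mapHomologicalComplex α (ComplexShape.down ℕ)).app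
        (projectiveResolution X).complex := by
    ext k
    rfl
  rw [this]
  simp only [HomologicalComplex.homologyFunctor_map]
  rw [homologyMap_smul]
  erw [Linear.smul_comp, Linear.comp_smul]

end Lin

end Groth.Agent.H13.DerivedLES

namespace Groth.Agent.H13.ExtLES

universe v u w

variable {R : Type w} [Ring R] {C : Type u} [Category.{v} C] [Preadditive C] [Linear R C]

/-- The opposite of a linear category is linear. -/
instance linearOp : Linear R Cᵒᵖ where
  homModule X Y :=
    { smul := fun r f => (r • f.unop).op
      one_smul := fun f => Quiver.Hom.unop_inj (one_smul R f.unop)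
      mul_smul := fun r s f => Quiver.Hom.unop_inj (mul_smul r s f.unop)
      smul_zero := fun r => Quiver.Hom.unop_inj (smul_zero r)
      smul_add := fun r f g => Quiver.Hom.unop_inj (smul_add r f.unop g.unop)
      add_smul := fun r s f => Quiver.Hom.unop_inj (add_smul r s f.unop)
      zero_smul := fun f => Quiver.Hom.unop_inj (zero_smul R f.unop) }
  smul_comp _ _ _ r f g := Quiver.Hom.unop_inj (Linear.comp_smul _ _ _ g.unop r f.unop)
  comp_smul _ _ _ f r g := Quiver.Hom.unop_inj (Linear.smul_comp _ _ _ r g.unop f.unop)

lemma unop_smul {X Y : Cᵒᵖ} (r : R) (f : X ⟶ Y) : (r • f).unop = r • f.unop := rfl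

end Groth.Agent.H13.ExtLES

namespace Groth.Agent.H13.ExtLES

universe v u w

variable {R : Type w} [CommRing R] {C : Type u} [Category.{v} C] [Abelian C] [Linear R C]
  [EnoughProjectives C]

instance FY_linear (Y : C) : Functor.Linear R (FY R Y) where
  map_smul f r := by
    apply Quiver.Hom.unop_inj
    ext (g : _ ⟶ Y)
    exact Linear.smul_comp _ _ _ r f g

lemma FYmap_smul {Y Y' : C} (r : R) (g : Y ⟶ Y') : FYmap R (r • g) = r • FYmap R g := by
  ext X
  apply Quiver.Hom.unop_inj
  ext (h : X ⟶ Y)
  exact Linear.comp_smul _ _ _ h r g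

theorem ext_map_smul₂ (X : C) {Y Y' : C} (r : R) (g : Y ⟶ Y') (n : ℕ) :
    ((Ext R C n).obj (op X)).map (r • g) = r • ((Ext R C n).obj (op X)).map g := by
  change ((NatTrans.leftDerived (FYmap R (r • g)) n).app X).unop =
    r • ((NatTrans.leftDerived (FYmap R g) n).app X).unop
  rw [FYmap_smul, DerivedLES.natTrans_leftDerived_smul]
  rfl

theorem ext_map_smul₁ {X X' : C} (Y : C) (r : R) (f : X ⟶ X') (n : ℕ) :
    ((Ext R C n).map (r • f).op).app Y = r • ((Ext R C n).map f.op).app Y := by
  change (((FY R Y).leftDerived n).map (r • f)).unop = r • (((FY R Y).leftDerived n).map f).unop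
  rw [DerivedLES.leftDerived_map_smul]
  rfl

end Groth.Agent.H13.ExtLES
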