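import Groth.Agent.H13.ExtLES

/-!
# Long exact sequence for Mathlib's `localCohomology`
-/

set_option autoImplicit false

open CategoryTheory Limits Opposite

namespace Groth.Agent.H13.LC

universe u w

theorem colim_exact {J : Type w} [Category.{w} J] [IsFiltered J] {R : Type u} [Ring R]
    [HasColimitsOfShape J (ModuleCat.{max u w} R)]
    [PreservesColimitsOfShape J (forget (ModuleCat.{max u w} R))]
    {F G H : J ⥤ ModuleCat.{max u w} R} (α : F ⟶ G) (β : G ⟶ H)
    (h : ∀ j, Function.Exact (α.app j).hom (β.app j).hom) :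
    Function.Exact (colimMap α).hom (colimMap β).hom := by
  have hα : ∀ (j : J) (x : F.obj j), (colimMap α).hom ((colimit.ι F j).hom x) =
      (colimit.ι G j).hom ((α.app j).hom x) := fun j x =>
    ConcreteCategory.congr_hom (ι_colimMap α j) x
  have hβ : ∀ (j : J) (x : G.obj j), (colimMap β).hom ((colimit.ι G j).hom x) =
      (colimit.ι H j).hom ((β.app j).hom x) := fun j x =>
    ConcreteCategory.congr_hom (ι_colimMap β j) x
  intro y
  constructor
  · intro hy
    obtain ⟨j, yj, rfl⟩ := Concrete.colimit_exists_rep G y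
    change (colimMap β).hom ((colimit.ι G j).hom yj) = 0 at hy
    rw [hβ] at hy
    obtain ⟨k, f, hk⟩ := Concrete.colimit_rep_eq_zero R H j _ hy
    have h2 : (β.app k).hom ((G.map f).hom yj) = 0 := by
      have := ConcreteCategory.congr_hom (β.naturality f) yj
      exact this.trans hk
    obtain ⟨xk, hxk⟩ := (h k _).mp h2
    refine ⟨(colimit.ι F k).hom xk, ?_⟩
    rw [hα, hxk]
    exact ConcreteCategory.congr_hom (colimit.w G f) yj
  · rintro ⟨x, rfl⟩
    obtain ⟨j, xj, rfl⟩ := Concrete.colimit_exists_rep F x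
    change (colimMap β).hom ((colimMap α).hom ((colimit.ι F j).hom xj)) = 0
    rw [hα, hβ, (h j).apply_apply_eq_zero, map_zero]

/-- Transport of exactness along isomorphisms. -/
theorem exact_of_conj {R : Type u} [Ring R] {A B C A' B' C' : ModuleCat.{w} R}
    (f : A ⟶ B) (g : B ⟶ C) (f' : A' ⟶ B') (g' : B' ⟶ C') (eA : A ≅ A') (eB : B ≅ B')
    (eC : C ≅ C') (hf : f ≫ eB.hom = eA.hom ≫ f') (hg : g ≫ eC.hom = eB.hom ≫ g')
    (h : Function.Exact f'.hom g'.hom) : Function.Exact f.hom g.hom := by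
  have hf' : ∀ x, eB.hom.hom (f.hom x) = f'.hom (eA.hom.hom x) := fun x =>
    ConcreteCategory.congr_hom hf x
  have hg' : ∀ x, eC.hom.hom (g.hom x) = g'.hom (eB.hom.hom x) := fun x =>
    ConcreteCategory.congr_hom hg x
  have injB : Function.Injective eB.hom.hom := by
    intro x y hxy
    have := congrArg eB.inv.hom hxy
    simpa using this
  have injC : Function.Injective eC.hom.hom := by
    intro x y hxy
    have := congrArg eC.inv.hom hxy
    simpa using this
  intro y
  constructor
  · intro hy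
    have h1 : g'.hom (eB.hom.hom y) = 0 := by rw [← hg', hy, map_zero]
    obtain ⟨x', hx'⟩ := (h _).mp h1
    refine ⟨eA.inv.hom x', injB ?_⟩
    rw [hf']
    simpa using hx'
  · rintro ⟨x, rfl⟩
    apply injC
    rw [hg', hf', h.apply_apply_eq_zero, map_zero]

variable {R : Type u} [CommRing R] (I : Ideal R)

noncomputable instance : PreservesColimitsOfShape ℕᵒᵖᵒᵖ (forget (ModuleCat.{u} R)) := by
  have : PreservesFilteredColimitsOfSize.{0, 0} (forget (ModuleCat.{u} R)) :=
    preservesFilteredColimitsOfSize_shrink.{0, u, 0, u} _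
  infer_instance

/-- `R ⧸ I ^ j` as an object of `ModuleCat R`, indexed by `ℕᵒᵖᵒᵖ`. -/
noncomputable abbrev XI (j : ℕᵒᵖᵒᵖ) : ModuleCat.{u} R :=
  (localCohomology.ringModIdeals (localCohomology.idealPowersDiagram I)).obj (unop j)

/-- The diagram whose colimit is `localCohomology I i`. -/
noncomputable abbrev Dg (i : ℕ) : ℕᵒᵖᵒᵖ ⥤ ModuleCat.{u} R ⥤ ModuleCat.{u} R :=
  localCohomology.diagram (localCohomology.idealPowersDiagram I) i

/-- The diagram `j ↦ Ext^i(R/I^j, M)`. -/
noncomputable abbrev E (i : ℕ) (M : ModuleCat.{u} R) : ℕᵒᵖᵒᵖ ⥤ ModuleCat.{u} R :=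
  Dg I i ⋙ (evaluation _ _).obj M

/-- `H^i_I(M)` is the colimit of `E I i M`. -/
noncomputable def isoE (i : ℕ) (M : ModuleCat.{u} R) :
    (localCohomology I i).obj M ≅ colimit (E I i M) :=
  colimitObjIsoColimitCompEvaluation (Dg I i) M

/-- The map of diagrams induced by `f : M ⟶ M'`. -/
noncomputable abbrev Emap (i : ℕ) {M M' : ModuleCat.{u} R} (f : M ⟶ M') : E I i M ⟶ E I i M' :=
  Functor.whiskerLeft (Dg I i) ((evaluation _ _).map f)

lemma map_isoE (i : ℕ) {M M' : ModuleCat.{u} R} (f : M ⟶ M') :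
    (localCohomology I i).map f ≫ (isoE I i M').hom = (isoE I i M).hom ≫ colimMap (Emap I i f) :=
  colimit_map_colimitObjIsoColimitCompEvaluation_hom (Dg I i) f

variable (S : ShortComplex (ModuleCat.{u} R)) (hS : S.ShortExact)

/-- The connecting natural transformation on the level of diagrams. -/
noncomputable def δN (i : ℕ) : E I i S.X₃ ⟶ E I (i + 1) S.X₁ where
  app j := ExtLES.extδ S hS (XI I j) i
  naturality _ _ f := ExtLES.extδ_naturality S hS
    ((localCohomology.ringModIdeals (localCohomology.idealPowersDiagram I)).map f.unop) i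

/-- The connecting homomorphism `H^i_I(S.X₃) ⟶ H^{i+1}_I(S.X₁)`. -/
noncomputable def δ (i : ℕ) :
    (localCohomology I i).obj S.X₃ ⟶ (localCohomology I (i + 1)).obj S.X₁ :=
  (isoE I i S.X₃).hom ≫ colimMap (δN I S hS i) ≫ (isoE I (i + 1) S.X₁).inv

include hS in
theorem exact₂ (i : ℕ) : Function.Exact ((localCohomology I i).map S.f).hom
    ((localCohomology I i).map S.g).hom :=
  exact_of_conj _ _ _ _ (isoE I i S.X₁) (isoE I i S.X₂) (isoE I i S.X₃)
    (map_isoE I i S.f) (map_isoE I i S.g)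
    (colim_exact _ _ fun j => ExtLES.ext_exact₂ S hS (XI I j) i)

theorem exact₃ (i : ℕ) : Function.Exact ((localCohomology I i).map S.g).hom
    (δ I S hS i).hom :=
  exact_of_conj _ _ (colimMap (Emap I i S.g)) (colimMap (δN I S hS i))
    (isoE I i S.X₂) (isoE I i S.X₃) (isoE I (i + 1) S.X₁)
    (map_isoE I i S.g) (by simp [δ])
    (colim_exact (Emap I i S.g) (δN I S hS i) fun j => ExtLES.ext_exact₃ S hS (XI I j) i)

theorem exact₁ (i : ℕ) : Function.Exact (δ I S hS i).hom
    ((localCohomology I (i + 1)).map S.f).hom :=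
  exact_of_conj _ _ (colimMap (δN I S hS i)) (colimMap (Emap I (i + 1) S.f))
    (isoE I i S.X₃) (isoE I (i + 1) S.X₁) (isoE I (i + 1) S.X₂)
    (by simp [δ]) (map_isoE I (i + 1) S.f)
    (colim_exact (δN I S hS i) (Emap I (i + 1) S.f) fun j => ExtLES.ext_exact₁ S hS (XI I j) i)

end Groth.Agent.H13.LC
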