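import Groth.Prelude.Def_Wider
import Groth.Agent.H13.LCLES
import Groth.Agent.H13.DerivedLin

/-!
# Basic element-level API for Mathlib's `localCohomology`
-/

set_option autoImplicit false

open CategoryTheory Limits Opposite

namespace Groth.Agent.H13.LC

universe u

variable {R : Type u} [CommRing R] (I : Ideal R)

/-- The structural map `Ext^i(R/I^j, M) ⟶ H^i_I(M)`. -/
noncomputable def ιM (i : ℕ) (M : ModuleCat.{u} R) (j : ℕᵒᵖᵒᵖ) :
    (E I i M).obj j ⟶ (localCohomology I i).obj M :=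
  (colimit.ι (Dg I i) j).app M

lemma ιM_isoE (i : ℕ) (M : ModuleCat.{u} R) (j : ℕᵒᵖᵒᵖ) :
    ιM I i M j ≫ (isoE I i M).hom = colimit.ι (E I i M) j :=
  colimitObjIsoColimitCompEvaluation_ι_app_hom (Dg I i) j M

lemma exists_rep (i : ℕ) (M : ModuleCat.{u} R) (x : (localCohomology I i).obj M) :
    ∃ (j : ℕᵒᵖᵒᵖ) (y : (E I i M).obj j), (ιM I i M j).hom y = x := by
  obtain ⟨j, y, hy⟩ := Concrete.colimit_exists_rep (E I i M) ((isoE I i M).hom.hom x)
  refine ⟨j, y, ?_⟩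
  have h1 : (isoE I i M).hom.hom ((ιM I i M j).hom y) = (colimit.ι (E I i M) j).hom y :=
    ConcreteCategory.congr_hom (ιM_isoE I i M j) y
  have h2 : (isoE I i M).hom.hom ((ιM I i M j).hom y) = (isoE I i M).hom.hom x := h1.trans hy
  have := congrArg (isoE I i M).inv.hom h2
  simpa using this

lemma ιM_map (i : ℕ) {M M' : ModuleCat.{u} R} (f : M ⟶ M') (j : ℕᵒᵖᵒᵖ) :
    ιM I i M j ≫ (localCohomology I i).map f = ((Dg I i).obj j).map f ≫ ιM I i M' j :=
  ((colimit.ι (Dg I i) j).naturality f).symm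

lemma ιM_map_apply (i : ℕ) {M M' : ModuleCat.{u} R} (f : M ⟶ M') (j : ℕᵒᵖᵒᵖ)
    (y : (E I i M).obj j) :
    ((localCohomology I i).map f).hom ((ιM I i M j).hom y) =
      (ιM I i M' j).hom ((((Dg I i).obj j).map f).hom y) :=
  ConcreteCategory.congr_hom (ιM_map I i f j) y

lemma ιM_w (i : ℕ) (M : ModuleCat.{u} R) {j j' : ℕᵒᵖᵒᵖ} (f : j ⟶ j') :
    (E I i M).map f ≫ ιM I i M j' = ιM I i M j :=
  congrArg (fun t => t.app M) (colimit.w (Dg I i) f)

lemma ιM_w_apply (i : ℕ) (M : ModuleCat.{u} R) {j j' : ℕᵒᵖᵒᵖ} (f : j ⟶ j')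
    (y : (E I i M).obj j) :
    (ιM I i M j').hom (((E I i M).map f).hom y) = (ιM I i M j).hom y :=
  ConcreteCategory.congr_hom (ιM_w I i M f) y

lemma ιM_eq_zero (i : ℕ) (M : ModuleCat.{u} R) (j : ℕᵒᵖᵒᵖ) (y : (E I i M).obj j)
    (h : (ιM I i M j).hom y = 0) :
    ∃ (j' : ℕᵒᵖᵒᵖ) (f : j ⟶ j'), ((E I i M).map f).hom y = 0 := by
  have h1 : (colimit.ι (E I i M) j).hom y = 0 := by
    rw [← ConcreteCategory.congr_hom (ιM_isoE I i M j) y]
    change (isoE I i M).hom.hom ((ιM I i M j).hom y) = 0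
    rw [h, map_zero]
  exact Concrete.colimit_rep_eq_zero R (E I i M) j y h1

lemma hom_ext_ιM (i : ℕ) {M W : ModuleCat.{u} R} {f g : (localCohomology I i).obj M ⟶ W}
    (h : ∀ j, ιM I i M j ≫ f = ιM I i M j ≫ g) : f = g :=
  colimit_obj_ext (H := Dg I i) h

/-- `H^i_I` is `R`-linear on morphisms. -/
lemma map_smul (i : ℕ) {M M' : ModuleCat.{u} R} (r : R) (f : M ⟶ M') :
    (localCohomology I i).map (r • f) = r • (localCohomology I i).map f := by
  apply hom_ext_ιM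
  intro j
  rw [ιM_map, Linear.comp_smul, ιM_map, ← Linear.smul_comp]
  congr 1
  exact ExtLES.ext_map_smul₂ (XI I j) r f i

lemma map_zero' (i : ℕ) (M M' : ModuleCat.{u} R) :
    (localCohomology I i).map (0 : M ⟶ M') = 0 := by
  have : (0 : M ⟶ M') = (0 : R) • (0 : M ⟶ M') := (zero_smul R _).symm
  rw [this, map_smul, zero_smul]

/-- If `s` kills `M`, it kills `H^i_I(M)`. -/
lemma smul_eq_zero_of_smul_eq_zero (i : ℕ) (M : ModuleCat.{u} R) (s : R)
    (hs : ∀ m : M, s • m = 0) (x : (localCohomology I i).obj M) : s • x = 0 := by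
  have h0 : s • 𝟙 M = 0 := by
    ext m
    exact hs m
  have h1 : s • 𝟙 ((localCohomology I i).obj M) = 0 := by
    rw [← (localCohomology I i).map_id, ← map_smul, h0, map_zero']
  have := congrArg (fun t => t.hom x) h1
  simp only [ModuleCat.hom_smul, ModuleCat.hom_id, LinearMap.smul_apply, LinearMap.id_coe, id_eq,
    ModuleCat.hom_zero, LinearMap.zero_apply] at this
  exact this

/-- Elements of `Ext^i(R/I^k, M)` are killed by `I^k`. -/
lemma smul_rep_eq_zero (i : ℕ) (M : ModuleCat.{u} R) (j : ℕᵒᵖᵒᵖ) (a : R)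
    (ha : a ∈ I ^ (unop (unop j))) (y : (E I i M).obj j) : a • y = 0 := by
  have h0 : a • 𝟙 (XI I j) = 0 := by
    ext (z : R ⧸ I ^ (unop (unop j)))
    obtain ⟨z, rfl⟩ := Ideal.Quotient.mk_surjective z
    change a • (Ideal.Quotient.mk (I ^ (unop (unop j))) z) = 0
    rw [← Ideal.Quotient.mk_eq_mk, ← Submodule.Quotient.mk_smul, Submodule.Quotient.mk_eq_zero]
    exact Ideal.mul_mem_right _ _ ha
  have h1 : ((Ext R (ModuleCat.{u} R) i).map (a • 𝟙 (XI I j)).op).app M = a • 𝟙 _ := by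
    rw [ExtLES.ext_map_smul₁, op_id, CategoryTheory.Functor.map_id]
    rfl
  have h2 : ((Ext R (ModuleCat.{u} R) i).map (a • 𝟙 (XI I j)).op).app M = 0 := by
    rw [h0]
    have : (0 : XI I j ⟶ XI I j) = (0 : R) • 𝟙 (XI I j) := (zero_smul R _).symm
    rw [this, ExtLES.ext_map_smul₁, zero_smul]
  have h3 := h1.symm.trans h2
  have := congrArg (fun t => t.hom y) h3
  simp only [ModuleCat.hom_smul, ModuleCat.hom_id, LinearMap.smul_apply, LinearMap.id_coe, id_eq,
    ModuleCat.hom_zero, LinearMap.zero_apply] at this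
  exact this

theorem isPowerTorsion (i : ℕ) (M : ModuleCat.{u} R) :
    LocCoh.IsPowerTorsion I ((localCohomology I i).obj M) := by
  intro x
  obtain ⟨j, y, rfl⟩ := exists_rep I i M x
  refine ⟨unop (unop j), fun a ha => ?_⟩
  rw [← _root_.map_smul, smul_rep_eq_zero I i M j a ha y, map_zero]

end Groth.Agent.H13.LC
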