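import Groth.Prelude.Def_DRing3
import Groth.Agent.H13.LCBasic

/-!
# `H^0_I = Γ_I` and vanishing of local cohomology on injectives
-/

set_option autoImplicit false

open CategoryTheory Limits Opposite

namespace Groth.Agent.H13.DerivedLES

universe v v' u u'

variable {C : Type u} [Category.{v} C] [Abelian C] [HasProjectiveResolutions C]
  {D : Type u'} [Category.{v'} D] [Abelian D]

lemma fromLeftDerivedZero_naturality {F G : C ⥤ D} [F.Additive] [G.Additive] (α : F ⟶ G) (X : C) :
    (NatTrans.leftDerived α 0).app X ≫ G.fromLeftDerivedZero.app X =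
      F.fromLeftDerivedZero.app X ≫ α.app X := by
  let P := projectiveResolution X
  have h : HomologicalComplex.opcyclesMap
      ((NatTrans.mapHomologicalComplex α (ComplexShape.down ℕ)).app P.complex) 0 ≫
        P.fromLeftDerivedZero' G = P.fromLeftDerivedZero' F ≫ α.app X := by
    rw [← cancel_epi (HomologicalComplex.pOpcycles _ 0), HomologicalComplex.p_opcyclesMap_assoc,
      P.pOpcycles_comp_fromLeftDerivedZero', P.pOpcycles_comp_fromLeftDerivedZero'_assoc]
    exact (α.naturality (P.π.f 0)).symm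
  have h2 : (HomologicalComplex.homologyFunctor D (ComplexShape.down ℕ) 0).map
      ((NatTrans.mapHomologicalComplex α (ComplexShape.down ℕ)).app P.complex) ≫
        (ChainComplex.isoHomologyι₀ ((G.mapHomologicalComplex _).obj P.complex)).hom =
      (ChainComplex.isoHomologyι₀ ((F.mapHomologicalComplex _).obj P.complex)).hom ≫
        HomologicalComplex.opcyclesMap
          ((NatTrans.mapHomologicalComplex α (ComplexShape.down ℕ)).app P.complex) 0 :=
    HomologicalComplex.homologyι_naturality _ _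
  rw [P.leftDerived_app_eq α 0, P.fromLeftDerivedZero_eq G, P.fromLeftDerivedZero_eq F]
  simp only [Category.assoc, Iso.inv_hom_id_assoc]
  refine congrArg (fun t => (P.isoLeftDerivedObj F 0).hom ≫ t) ?_
  have h3 := (Category.assoc _ _ _).symm.trans ((congrArg (· ≫ P.fromLeftDerivedZero' G) h2).trans
    ((Category.assoc _ _ _).trans (congrArg
      ((ChainComplex.isoHomologyι₀ ((F.mapHomologicalComplex _).obj P.complex)).hom ≫ ·) h)))
  first
  | exact h3
  | exact h3.trans (Category.assoc _ _ _).symm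

end Groth.Agent.H13.DerivedLES

namespace Groth.Agent.H13.ExtLES

universe v u w

variable {R : Type w} [CommRing R] {C : Type u} [Category.{v} C] [Abelian C] [Linear R C]
  [EnoughProjectives C]

noncomputable instance (Y : C) : PreservesFiniteLimits ((linearYoneda R C).obj Y) := by
  have h : (linearYoneda R C).obj Y ⋙ forget₂ (ModuleCat.{v} R) AddCommGrpCat.{v} =
    (preadditiveYoneda).obj Y := rfl
  have : PreservesFiniteLimits
      ((linearYoneda R C).obj Y ⋙ forget₂ (ModuleCat.{v} R) AddCommGrpCat.{v}) := by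
    rw [h]; infer_instance
  exact preservesFiniteLimits_of_reflects_of_preserves _
    (forget₂ (ModuleCat.{v} R) AddCommGrpCat.{v})

noncomputable instance (Y : C) : PreservesFiniteColimits (FY R Y) :=
  preservesFiniteColimits_rightOp _

/-- `Ext^0(X, M) ≅ Hom(X, M)`. -/
noncomputable def ext0Iso (X M : C) :
    ((Ext R C 0).obj (op X)).obj M ≅ ((linearYoneda R C).obj M).obj (op X) :=
  (asIso ((FY R M).fromLeftDerivedZero.app X)).unop.symm

lemma ext0Iso_naturality₁ {X X' : C} (f : X ⟶ X') (M : C) :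
    ((Ext R C 0).map f.op).app M ≫ (ext0Iso (R := R) X M).hom =
      (ext0Iso X' M).hom ≫ ((linearYoneda R C).obj M).map f.op := by
  have h := (FY R M).fromLeftDerivedZero.naturality f
  have key : (ext0Iso (R := R) X' M).inv ≫ ((Ext R C 0).map f.op).app M =
      ((linearYoneda R C).obj M).map f.op ≫ (ext0Iso X M).inv :=
    (congrArg Quiver.Hom.unop h)
  calc ((Ext R C 0).map f.op).app M ≫ (ext0Iso (R := R) X M).hom
      = (ext0Iso X' M).hom ≫ ((ext0Iso X' M).inv ≫ ((Ext R C 0).map f.op).app M) ≫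
          (ext0Iso X M).hom := by simp
    _ = (ext0Iso X' M).hom ≫ ((linearYoneda R C).obj M).map f.op := by
        rw [key, Category.assoc, Iso.inv_hom_id, Category.comp_id]

lemma ext0Iso_naturality₂ (X : C) {M M' : C} (g : M ⟶ M') :
    ((Ext R C 0).obj (op X)).map g ≫ (ext0Iso (R := R) X M').hom =
      (ext0Iso X M).hom ≫ ((linearYoneda R C).map g).app (op X) := by
  have h := DerivedLES.fromLeftDerivedZero_naturality (FYmap R g) X
  have key : (ext0Iso (R := R) X M).inv ≫ ((Ext R C 0).obj (op X)).map g =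
      ((linearYoneda R C).map g).app (op X) ≫ (ext0Iso X M').inv :=
    (congrArg Quiver.Hom.unop h)
  calc ((Ext R C 0).obj (op X)).map g ≫ (ext0Iso (R := R) X M').hom
      = (ext0Iso X M).hom ≫ ((ext0Iso X M).inv ≫ ((Ext R C 0).obj (op X)).map g) ≫
          (ext0Iso X M').hom := by simp
    _ = (ext0Iso X M).hom ≫ ((linearYoneda R C).map g).app (op X) := by
        rw [key, Category.assoc, Iso.inv_hom_id, Category.comp_id]

/-- `Ext^(n+1)(X, E) = 0` for `E` injective. -/
theorem isZero_ext_succ_of_injective (X E : C) [Injective E] (n : ℕ) :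
    IsZero (((Ext R C (n + 1)).obj (op X)).obj E) := by
  let P := projectiveResolution X
  refine IsZero.of_iso ?_ (P.isoExt (n + 1) E)
  rw [← HomologicalComplex.exactAt_iff_isZero_homology,
    HomologicalComplex.exactAt_iff' _ n (n + 1) (n + 2) (by simp) (by simp),
    ShortComplex.moduleCat_exact_iff]
  intro (x₂ : P.complex.X (n + 1) ⟶ E) hx₂
  have hP := (HomologicalComplex.exactAt_iff' _ (n + 2) (n + 1) n (by simp) (by simp)).mp
    (P.complex_exactAt_succ n)
  replace hx₂ : P.complex.d (n + 2) (n + 1) ≫ x₂ = 0 := hx₂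
  exact ⟨hP.descToInjective x₂ hx₂, hP.comp_descToInjective x₂ hx₂⟩

end Groth.Agent.H13.ExtLES

namespace Groth.Agent.H13.LC

universe u

variable {R : Type u} [CommRing R] (I : Ideal R)

/-- The class of `1` in `R/I^j`. -/
noncomputable abbrev one' (j : ℕᵒᵖᵒᵖ) : (XI I j : ModuleCat.{u} R) :=
  (Ideal.Quotient.mk (I ^ (unop (unop j))) 1 : R ⧸ I ^ (unop (unop j)))

/-- Evaluation at `1 ∈ R/I^j`. -/
noncomputable def ev1 (j : ℕᵒᵖᵒᵖ) (M : ModuleCat.{u} R) :
    ((linearYoneda R (ModuleCat.{u} R)).obj M).obj (op (XI I j)) ⟶ M :=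
  ModuleCat.ofHom
    { toFun := fun f => f.hom (one' I j)
      map_add' := fun _ _ => rfl
      map_smul' := fun _ _ => rfl }

lemma ev1_compat (M : ModuleCat.{u} R) {j j' : ℕᵒᵖᵒᵖ} (t : j ⟶ j') :
    ((linearYoneda R (ModuleCat.{u} R)).obj M).map
      ((localCohomology.ringModIdeals (localCohomology.idealPowersDiagram I)).map t.unop).op ≫
      ev1 I j' M = ev1 I j M := by
  ext f
  rfl

/-- The cocone defining `ε : H^0_I(M) ⟶ M`. -/
noncomputable def εcocone (M : ModuleCat.{u} R) : Cocone (E I 0 M) where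
  pt := M
  ι :=
    { app := fun j => (ExtLES.ext0Iso (XI I j) M).hom ≫ ev1 I j M
      naturality := fun j j' t => by
        have h := ExtLES.ext0Iso_naturality₁ (R := R)
          ((localCohomology.ringModIdeals (localCohomology.idealPowersDiagram I)).map t.unop) M
        have h2 := ev1_compat I M t
        have h3 : (E I 0 M).map t ≫ ((ExtLES.ext0Iso (XI I j') M).hom ≫ ev1 I j' M) =
            (ExtLES.ext0Iso (XI I j) M).hom ≫ ev1 I j M :=
          (Category.assoc _ _ _).symm.trans ((congrArg (· ≫ ev1 I j' M) h).trans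
            ((Category.assoc _ _ _).trans
              (congrArg ((ExtLES.ext0Iso (XI I j) M).hom ≫ ·) h2)))
        exact h3.trans (Category.comp_id _).symm }

/-- The canonical map `H^0_I(M) ⟶ M`. -/
noncomputable def ε (M : ModuleCat.{u} R) : (localCohomology I 0).obj M ⟶ M :=
  (isoE I 0 M).hom ≫ colimit.desc (E I 0 M) (εcocone I M)

lemma ιM_ε (M : ModuleCat.{u} R) (j : ℕᵒᵖᵒᵖ) :
    ιM I 0 M j ≫ ε I M = (ExtLES.ext0Iso (XI I j) M).hom ≫ ev1 I j M :=
  (Category.assoc _ _ _).symm.trans
    ((congrArg (· ≫ colimit.desc (E I 0 M) (εcocone I M)) (ιM_isoE I 0 M j)).trans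
      (colimit.ι_desc (εcocone I M) j))

/-- `Ext^0(R/I^j, M) ≃ Hom(R/I^j, M)`. -/
noncomputable def ψ (j : ℕᵒᵖᵒᵖ) (M : ModuleCat.{u} R) :
    (E I 0 M).obj j ≃ₗ[R] (XI I j ⟶ M) :=
  (ExtLES.ext0Iso (R := R) (XI I j) M).toLinearEquiv

lemma ε_ιM_apply (M : ModuleCat.{u} R) (j : ℕᵒᵖᵒᵖ) (y : (E I 0 M).obj j) :
    (ε I M).hom ((ιM I 0 M j).hom y) = (ψ I j M y).hom (one' I j) :=
  ConcreteCategory.congr_hom (ιM_ε I M j) y

lemma ε_naturality {M M' : ModuleCat.{u} R} (g : M ⟶ M') :
    (localCohomology I 0).map g ≫ ε I M' = ε I M ≫ g := by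
  apply hom_ext_ιM
  intro j
  have h := ExtLES.ext0Iso_naturality₂ (R := R) (XI I j) g
  have h2 : ((linearYoneda R (ModuleCat.{u} R)).map g).app (op (XI I j)) ≫ ev1 I j M' =
      ev1 I j M ≫ g := by
    ext f
    rfl
  exact (Category.assoc _ _ _).symm.trans
    ((congrArg (· ≫ ε I M') (ιM_map I 0 g j)).trans
    ((Category.assoc _ _ _).trans
    ((congrArg (((Dg I 0).obj j).map g ≫ ·) (ιM_ε I M' j)).trans
    ((Category.assoc _ _ _).symm.trans
    ((congrArg (· ≫ ev1 I j M') h).trans
    ((Category.assoc _ _ _).trans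
    ((congrArg ((ExtLES.ext0Iso (XI I j) M).hom ≫ ·) h2).trans
    ((Category.assoc _ _ _).symm.trans
    ((congrArg (· ≫ g) (ιM_ε I M j).symm).trans
    (Category.assoc _ _ _))))))))))

lemma ε_naturality_apply {M M' : ModuleCat.{u} R} (g : M ⟶ M')
    (x : (localCohomology I 0).obj M) :
    (ε I M').hom (((localCohomology I 0).map g).hom x) = g.hom ((ε I M).hom x) :=
  ConcreteCategory.congr_hom (ε_naturality I g) x

lemma mk_eq_smul_one' (j : ℕᵒᵖᵒᵖ) (r : R) :
    ((Ideal.Quotient.mk (I ^ (unop (unop j))) r : R ⧸ I ^ (unop (unop j))) : XI I j) =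
      r • one' I j := by
  have h : (Submodule.Quotient.mk (r • (1 : R)) : R ⧸ I ^ (unop (unop j))) =
      r • Submodule.Quotient.mk (1 : R) := Submodule.Quotient.mk_smul _ r 1
  rw [smul_eq_mul, mul_one] at h
  exact h

lemma smul_one'_eq_zero (j : ℕᵒᵖᵒᵖ) (a : R) (ha : a ∈ I ^ (unop (unop j))) :
    a • one' I j = 0 := by
  rw [← mk_eq_smul_one']
  exact Ideal.Quotient.eq_zero_iff_mem.mpr ha

lemma hom_eq_zero_of_one (j : ℕᵒᵖᵒᵖ) (M : ModuleCat.{u} R) (f : XI I j ⟶ M)
    (h : f.hom (one' I j) = 0) : f = 0 := by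
  ext (z : R ⧸ I ^ (unop (unop j)))
  obtain ⟨r, rfl⟩ := Ideal.Quotient.mk_surjective z
  have h3 : f.hom (r • one' I j) = r • f.hom (one' I j) := f.hom.map_smul r _
  exact (congrArg f.hom (mk_eq_smul_one' I j r)).trans (h3.trans (by rw [h, smul_zero]; rfl))

theorem ε_injective (M : ModuleCat.{u} R) : Function.Injective (ε I M).hom := by
  rw [injective_iff_map_eq_zero]
  intro x hx
  obtain ⟨j, y, rfl⟩ := exists_rep I 0 M x
  rw [ε_ιM_apply] at hx
  have h0 : ψ I j M y = 0 := hom_eq_zero_of_one I j M _ hx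
  have h1 : y = 0 := (ψ I j M).map_eq_zero_iff.mp h0
  rw [h1, map_zero]

theorem range_ε (M : ModuleCat.{u} R) :
    LinearMap.range (ε I M).hom = DRing.torsionSub I M := by
  apply le_antisymm
  · rintro _ ⟨x, rfl⟩
    obtain ⟨j, y, rfl⟩ := exists_rep I 0 M x
    rw [ε_ιM_apply]
    refine ⟨unop (unop j), fun a ha => ?_⟩
    have h3 : (ψ I j M y).hom (a • one' I j) = a • (ψ I j M y).hom (one' I j) :=
      (ψ I j M y).hom.map_smul a _
    rw [← h3, smul_one'_eq_zero I j a ha, map_zero]
  · rintro m ⟨n, hn⟩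
    let f : XI I (op (op n)) ⟶ M := ModuleCat.ofHom
      (Submodule.liftQ (I ^ n) (LinearMap.toSpanSingleton R M m) (by
        intro a ha
        rw [LinearMap.mem_ker, LinearMap.toSpanSingleton_apply]
        exact hn a ha))
    refine ⟨(ιM I 0 M (op (op n))).hom ((ψ I (op (op n)) M).symm f), ?_⟩
    rw [ε_ιM_apply, LinearEquiv.apply_symm_apply]
    change (Submodule.liftQ (I ^ n) (LinearMap.toSpanSingleton R M m) _)
      (Submodule.Quotient.mk 1) = m
    rw [Submodule.liftQ_apply, LinearMap.toSpanSingleton_apply, one_smul]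

theorem subsingleton_H0 (M : ModuleCat.{u} R) (h : DRing.torsionSub I M = ⊥) :
    Subsingleton ((localCohomology I 0).obj M) := by
  refine ⟨fun x y => ε_injective I M ?_⟩
  have hx : (ε I M).hom x ∈ DRing.torsionSub I M := by rw [← range_ε]; exact ⟨x, rfl⟩
  have hy : (ε I M).hom y ∈ DRing.torsionSub I M := by rw [← range_ε]; exact ⟨y, rfl⟩
  rw [h, Submodule.mem_bot] at hx hy
  rw [hx, hy]

/-- For a power-torsion module, `H^0_I(M) ≃ M`. -/
noncomputable def H0equiv (M : ModuleCat.{u} R) (h : LocCoh.IsPowerTorsion I M) :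
    (localCohomology I 0).obj M ≃ₗ[R] M :=
  LinearEquiv.ofBijective (ε I M).hom ⟨ε_injective I M, fun m => by
    have : m ∈ LinearMap.range (ε I M).hom := by rw [range_ε]; exact h m
    exact this⟩

theorem H0_map_surjective {M M' : ModuleCat.{u} R} (g : M ⟶ M')
    (h : ∀ m' ∈ DRing.torsionSub I M', ∃ m ∈ DRing.torsionSub I M, g.hom m = m') :
    Function.Surjective ((localCohomology I 0).map g).hom := by
  intro x'
  have hx' : (ε I M').hom x' ∈ DRing.torsionSub I M' := by rw [← range_ε]; exact ⟨x', rfl⟩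
  obtain ⟨m, hm, hgm⟩ := h _ hx'
  rw [← range_ε] at hm
  obtain ⟨x, rfl⟩ := hm
  refine ⟨x, ε_injective I M' ?_⟩
  rw [ε_naturality_apply, hgm]

theorem H0_map_injective {M M' : ModuleCat.{u} R} (g : M ⟶ M')
    (hg : Function.Injective g.hom) :
    Function.Injective ((localCohomology I 0).map g).hom := by
  intro x y hxy
  apply ε_injective I M
  apply hg
  rw [← ε_naturality_apply, ← ε_naturality_apply, hxy]

/-- Local cohomology vanishes in positive degrees on injective modules. -/
theorem subsingleton_of_injective (i : ℕ) (M : ModuleCat.{u} R) [Injective M] :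
    Subsingleton ((localCohomology I (i + 1)).obj M) := by
  refine ⟨fun x y => ?_⟩
  obtain ⟨j, a, rfl⟩ := exists_rep I (i + 1) M x
  obtain ⟨j', b, rfl⟩ := exists_rep I (i + 1) M y
  have h1 : IsZero ((E I (i + 1) M).obj j) :=
    ExtLES.isZero_ext_succ_of_injective (R := R) (XI I j) M i
  have h2 : IsZero ((E I (i + 1) M).obj j') :=
    ExtLES.isZero_ext_succ_of_injective (R := R) (XI I j') M i
  have := ModuleCat.subsingleton_of_isZero h1
  have := ModuleCat.subsingleton_of_isZero h2
  rw [Subsingleton.elim a 0, Subsingleton.elim b 0, map_zero, map_zero]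

end Groth.Agent.H13.LC
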