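import Groth.Agent.H13.LCFg
import Groth.Agent.H13.LCGen

/-!
# Vanishing tools for local cohomology
-/

set_option autoImplicit false
set_option linter.style.haveILetI false

open CategoryTheory Limits Opposite

namespace Groth.Agent.H13.LC

universe u

variable {R : Type u} [CommRing R] (I : Ideal R)

/-- The short complex attached to an exact pair of linear maps. -/
noncomputable def scLin {A B C : Type u} [AddCommGroup A] [Module R A] [AddCommGroup B]
    [Module R B] [AddCommGroup C] [Module R C] (f : A →ₗ[R] B) (g : B →ₗ[R] C)
    (h : Function.Exact f g) : ShortComplex (ModuleCat.{u} R) :=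
  ShortComplex.mk (ModuleCat.ofHom f) (ModuleCat.ofHom g) (by
    ext x
    exact h.apply_apply_eq_zero x)

lemma scLin_shortExact {A B C : Type u} [AddCommGroup A] [Module R A] [AddCommGroup B]
    [Module R B] [AddCommGroup C] [Module R C] (f : A →ₗ[R] B) (g : B →ₗ[R] C)
    (h : Function.Exact f g) (hf : Function.Injective f) (hg : Function.Surjective g) :
    (scLin f g h).ShortExact := by
  refine ShortComplex.ShortExact.mk' ?_ ?_ ?_
  · rw [ShortComplex.ShortExact.moduleCat_exact_iff_function_exact]
    exact h
  · rw [ModuleCat.mono_iff_injective]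
    exact hf
  · rw [ModuleCat.epi_iff_surjective]
    exact hg

/-- Local cohomology of a zero module vanishes. -/
theorem subsingleton_of_subsingleton (i : ℕ) (M : ModuleCat.{u} R) [Subsingleton M] :
    Subsingleton ((localCohomology I i).obj M) := by
  have h0 : 𝟙 M = 0 := by
    ext m
    exact Subsingleton.elim _ _
  have h1 : 𝟙 ((localCohomology I i).obj M) = 0 := by
    rw [← (localCohomology I i).map_id, h0, map_zero']
  refine ⟨fun x y => ?_⟩
  have hx := congrArg (fun t => t.hom x) h1
  have hy := congrArg (fun t => t.hom y) h1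
  simp only [ModuleCat.hom_id, LinearMap.id_coe, id_eq, ModuleCat.hom_zero,
    LinearMap.zero_apply] at hx hy
  rw [hx, hy]

/-- Vanishing is closed under extensions. -/
theorem subsingleton_mid (i : ℕ) {A B C : Type u} [AddCommGroup A] [Module R A] [AddCommGroup B]
    [Module R B] [AddCommGroup C] [Module R C] (f : A →ₗ[R] B) (g : B →ₗ[R] C)
    (h : Function.Exact f g) (hf : Function.Injective f) (hg : Function.Surjective g)
    (hA : Subsingleton ((localCohomology I i).obj (ModuleCat.of R A)))
    (hC : Subsingleton ((localCohomology I i).obj (ModuleCat.of R C))) :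
    Subsingleton ((localCohomology I i).obj (ModuleCat.of R B)) := by
  have hS := scLin_shortExact f g h hf hg
  have key : ∀ x : (localCohomology I i).obj (ModuleCat.of R B), x = 0 := by
    intro x
    have h1 : ((localCohomology I i).map (scLin f g h).g).hom x = 0 := hC.elim _ _
    obtain ⟨y, rfl⟩ := (exact₂ I (scLin f g h) hS i x).mp h1
    rw [hA.elim y 0]
    exact map_zero _
  exact ⟨fun x y => by rw [key x, key y]⟩

/-- Vanishing passes to quotients when the next cohomology of the kernel vanishes. -/
theorem subsingleton_of_surjective (i : ℕ) {B C : Type u} [AddCommGroup B]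
    [Module R B] [AddCommGroup C] [Module R C] (g : B →ₗ[R] C) (hg : Function.Surjective g)
    (hB : Subsingleton ((localCohomology I i).obj (ModuleCat.of R B)))
    (hK : Subsingleton ((localCohomology I (i + 1)).obj (ModuleCat.of R (LinearMap.ker g)))) :
    Subsingleton ((localCohomology I i).obj (ModuleCat.of R C)) := by
  have hex : Function.Exact (LinearMap.ker g).subtype g := LinearMap.exact_subtype_ker_map g
  have hS := scLin_shortExact _ g hex (LinearMap.ker g).injective_subtype hg
  have key : ∀ x : (localCohomology I i).obj (ModuleCat.of R C), x = 0 := by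
    intro x
    have h1 : (δ I (scLin _ g hex) hS i).hom x = 0 := hK.elim _ _
    obtain ⟨y, rfl⟩ := (exact₃ I (scLin _ g hex) hS i x).mp h1
    rw [hB.elim y 0]
    exact map_zero _
  exact ⟨fun x y => by rw [key x, key y]⟩

/-- Vanishing passes to submodules when the previous cohomology of the cokernel vanishes. -/
theorem subsingleton_of_injective' (i : ℕ) {A B C : Type u} [AddCommGroup A] [Module R A]
    [AddCommGroup B] [Module R B] [AddCommGroup C] [Module R C] (f : A →ₗ[R] B) (g : B →ₗ[R] C)
    (h : Function.Exact f g) (hf : Function.Injective f) (hg : Function.Surjective g)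
    (hB : Subsingleton ((localCohomology I (i + 1)).obj (ModuleCat.of R B)))
    (hC : Subsingleton ((localCohomology I i).obj (ModuleCat.of R C))) :
    Subsingleton ((localCohomology I (i + 1)).obj (ModuleCat.of R A)) := by
  have hS := scLin_shortExact f g h hf hg
  have key : ∀ x : (localCohomology I (i + 1)).obj (ModuleCat.of R A), x = 0 := by
    intro x
    have h1 : ((localCohomology I (i + 1)).map (scLin f g h).f).hom x = 0 := hB.elim _ _
    obtain ⟨y, rfl⟩ := (exact₁ I (scLin f g h) hS i x).mp h1
    rw [hC.elim y 0]
    exact map_zero _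
  exact ⟨fun x y => by rw [key x, key y]⟩

/-- `H^i_I(a • id) = a • id`, elementwise. -/
lemma map_smul_id_apply (i : ℕ) (M : Type u) [AddCommGroup M] [Module R M] (a : R)
    (z : (localCohomology I i).obj (ModuleCat.of R M)) :
    ((localCohomology I i).map (ModuleCat.ofHom (a • (LinearMap.id : M →ₗ[R] M)))).hom z =
      a • z := by
  have h0 : ModuleCat.ofHom (a • (LinearMap.id : M →ₗ[R] M)) = a • 𝟙 (ModuleCat.of R M) := rfl
  rw [h0, map_smul, CategoryTheory.Functor.map_id]
  rfl

/-- If some `a ∈ I` acts injectively on `H^i_I(M)`, then `H^i_I(M) = 0`. -/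
theorem subsingleton_of_smul_injective (i : ℕ) (M : ModuleCat.{u} R) (a : R) (ha : a ∈ I)
    (hinj : ∀ z : (localCohomology I i).obj M, a • z = 0 → z = 0) :
    Subsingleton ((localCohomology I i).obj M) := by
  have key : ∀ z : (localCohomology I i).obj M, z = 0 := by
    intro z
    obtain ⟨n, hn⟩ := isPowerTorsion I i M z
    have h1 : a ^ n • z = 0 := hn _ (Ideal.pow_mem_pow ha n)
    clear hn
    induction n with
    | zero => simpa using h1
    | succ n ih =>
      apply ih
      apply hinj
      rw [smul_smul, ← pow_succ']
      exact h1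
  exact ⟨fun x y => by rw [key x, key y]⟩

/-- If `a ∈ I` is a nonzerodivisor on `M` and `H^i_I(M/aM) = 0` then `H^{i+1}_I(M) = 0`. -/
theorem subsingleton_succ_of_regular (i : ℕ) {M C : Type u} [AddCommGroup M] [Module R M]
    [AddCommGroup C] [Module R C] (a : R) (ha : a ∈ I) (g : M →ₗ[R] C)
    (hg : Function.Surjective g)
    (hex : Function.Exact (a • (LinearMap.id : M →ₗ[R] M)) g)
    (hinj : Function.Injective (a • (LinearMap.id : M →ₗ[R] M)))
    (hC : Subsingleton ((localCohomology I i).obj (ModuleCat.of R C))) :
    Subsingleton ((localCohomology I (i + 1)).obj (ModuleCat.of R M)) := by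
  have hS := scLin_shortExact _ g hex hinj hg
  apply subsingleton_of_smul_injective I (i + 1) (ModuleCat.of R M) a ha
  intro z hz
  have h1 : ((localCohomology I (i + 1)).map (scLin _ g hex).f).hom z = 0 :=
    (map_smul_id_apply I (i + 1) M a z).trans hz
  obtain ⟨y, rfl⟩ := (exact₁ I (scLin _ g hex) hS i z).mp h1
  rw [hC.elim y 0]
  exact map_zero _

section Noeth

variable [IsNoetherianRing R]

/-- If `H^j_I(R) = 0` and `H^{j+1}_I` vanishes identically, then `H^j_I` vanishes identically. -/
theorem subsingleton_of_ring (j : ℕ)
    (h0 : Subsingleton ((localCohomology I j).obj (ModuleCat.of R R)))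
    (h1 : ∀ (N : Type u) [AddCommGroup N] [Module R N],
      Subsingleton ((localCohomology I (j + 1)).obj (ModuleCat.of R N)))
    (M : Type u) [AddCommGroup M] [Module R M] :
    Subsingleton ((localCohomology I j).obj (ModuleCat.of R M)) := by
  apply subsingleton_of_fg I j
  intro N _ _ hN
  have key : ∀ N' : Submodule R N, N'.FG →
      Subsingleton ((localCohomology I j).obj (ModuleCat.of R N')) := by
    intro N' hN'
    refine Submodule.fg_induction
      (motive := fun N' _ => Subsingleton ((localCohomology I j).obj (ModuleCat.of R N')))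
      ?_ ?_ N' hN'
    · intro x
      let g : R →ₗ[R] Submodule.span R {x} :=
        (LinearMap.toSpanSingleton R N x).codRestrict _ (fun r => by
          rw [LinearMap.toSpanSingleton_apply]
          exact Submodule.smul_mem _ r (Submodule.mem_span_singleton_self x))
      have hg : Function.Surjective g := by
        rintro ⟨y, hy⟩
        obtain ⟨r, rfl⟩ := Submodule.mem_span_singleton.mp hy
        exact ⟨r, Subtype.ext (by simp [g])⟩
      exact subsingleton_of_surjective I j g hg h0 (h1 _)
    · intro M₁ M₂ _ _ ih₁ ih₂
      let f : M₁ →ₗ[R] (M₁ ⊔ M₂ : Submodule R N) := Submodule.inclusion le_sup_left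
      have hf : Function.Injective f := Submodule.inclusion_injective _
      let q : (M₁ ⊔ M₂ : Submodule R N) →ₗ[R] _ := (LinearMap.range f).mkQ
      let g : M₂ →ₗ[R] ((M₁ ⊔ M₂ : Submodule R N) ⧸ LinearMap.range f) :=
        q.comp (Submodule.inclusion le_sup_right)
      have hg : Function.Surjective g := by
        intro c
        obtain ⟨⟨y, hy⟩, rfl⟩ := (LinearMap.range f).mkQ_surjective c
        obtain ⟨m₁, hm₁, m₂, hm₂, rfl⟩ := Submodule.mem_sup.mp hy
        refine ⟨⟨m₂, hm₂⟩, ?_⟩
        change Submodule.Quotient.mk _ = Submodule.Quotient.mk _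
        rw [Submodule.Quotient.eq]
        refine ⟨-⟨m₁, hm₁⟩, Subtype.ext ?_⟩
        simp [f]
      have hC := subsingleton_of_surjective I j g hg ih₂ (h1 _)
      exact subsingleton_mid I j f q (LinearMap.exact_map_mkQ_range f) hf
        (LinearMap.range f).mkQ_surjective ih₁ hC
  have htop := key ⊤ hN.fg_top
  exact subsingleton_of_surjective I j (⊤ : Submodule R N).subtype
    (fun n => ⟨⟨n, trivial⟩, rfl⟩) htop (h1 _)

/-- Vanishing above `d` on the ring implies `cd ≤ d`. -/
theorem cdLE_of_ring (d : ℕ)
    (h : ∀ i : ℕ, d < i → Subsingleton ((localCohomology I i).obj (ModuleCat.of R R))) :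
    LocCoh.CdLE R I d := by
  obtain ⟨s, hs⟩ : I.FG := IsNoetherian.noetherian I
  have hcd : LocCoh.CdLE R I s.card := hs ▸ cdLE_span_finset s
  have key : ∀ k : ℕ, LocCoh.CdLE R I (d + k) → LocCoh.CdLE R I d := by
    intro k
    induction k with
    | zero => exact fun h => h
    | succ k ih =>
      intro hk
      apply ih
      intro M _ _ i hi
      rcases Nat.lt_or_ge (d + (k + 1)) i with h2 | h2
      · exact hk M i h2
      · obtain rfl : i = d + k + 1 := by omega
        exact subsingleton_of_ring I (d + k + 1) (h _ (by omega))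
          (fun N _ _ => hk N _ (by omega)) M
  rcases Nat.le_total s.card d with h1 | h1
  · intro M _ _ i hi
    exact hcd M i (by omega)
  · obtain ⟨k, hk⟩ := Nat.exists_eq_add_of_le h1
    exact key k (hk ▸ hcd)

end Noeth

end Groth.Agent.H13.LC
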