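import Groth.Prelude.Def_W4stkcategoriessitesFib

set_option autoImplicit false
open CategoryTheory CategoryTheory.Limits
universe v u

namespace Groth.Agent.H13

variable {X Y Z A B C : Type u} [Category.{v} X] [Category.{v} Y] [Category.{v} Z] [Category.{v} A]
  [Category.{v} B] [Category.{v} C] {H : X ⥤ Z} {I : Y ⥤ Z} {F : A ⥤ C} {G : B ⥤ C}
  (ψ : CatCospanTransform H I F G)

@[simp] theorem cpm_obj_fst (x : CategoricalPullback H I) :
    ((FibCat.categoricalPullbackMap ψ).obj x).fst = ψ.left.obj x.fst := rfl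

@[simp] theorem cpm_obj_snd (x : CategoricalPullback H I) :
    ((FibCat.categoricalPullbackMap ψ).obj x).snd = ψ.right.obj x.snd := rfl

@[simp] theorem cpm_map_fst {x y : CategoricalPullback H I} (f : x ⟶ y) :
    ((FibCat.categoricalPullbackMap ψ).map f).fst = ψ.left.map f.fst := rfl

@[simp] theorem cpm_map_snd {x y : CategoricalPullback H I} (f : x ⟶ y) :
    ((FibCat.categoricalPullbackMap ψ).map f).snd = ψ.right.map f.snd := rfl

theorem cpm_obj_iso_hom (x : CategoricalPullback H I) :
    ((FibCat.categoricalPullbackMap ψ).obj x).iso.hom =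
      ψ.squareLeft.iso.inv.app x.fst ≫ ψ.base.map x.iso.hom ≫ ψ.squareRight.iso.hom.app x.snd := by
  simp [FibCat.categoricalPullbackMap]
  rfl


theorem cpm_faithful [ψ.left.Faithful] [ψ.right.Faithful] :
    (FibCat.categoricalPullbackMap ψ).Faithful where
  map_injective {x y} f g h := by
    apply CategoricalPullback.hom_ext
    · apply ψ.left.map_injective
      have := congrArg (fun k => k.fst) h
      simpa using this
    · apply ψ.right.map_injective
      have := congrArg (fun k => k.snd) h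
      simpa using this

theorem cpm_full [ψ.left.Full] [ψ.left.Faithful] [ψ.right.Full] [ψ.right.Faithful]
    [ψ.base.Faithful] : (FibCat.categoricalPullbackMap ψ).Full where
  map_surjective {x y} h := by
    obtain ⟨hf, hhf⟩ : ∃ hf : ψ.left.obj x.fst ⟶ ψ.left.obj y.fst, hf = h.fst := ⟨h.fst, rfl⟩
    obtain ⟨hs, hhs⟩ : ∃ hs : ψ.right.obj x.snd ⟶ ψ.right.obj y.snd, hs = h.snd := ⟨h.snd, rfl⟩
    have hw : F.map hf ≫ (ψ.squareLeft.iso.inv.app y.fst ≫ ψ.base.map y.iso.hom ≫
        ψ.squareRight.iso.hom.app y.snd) = (ψ.squareLeft.iso.inv.app x.fst ≫ ψ.base.map x.iso.hom ≫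
        ψ.squareRight.iso.hom.app x.snd) ≫ G.map hs := by
      have := h.w
      rw [cpm_obj_iso_hom, cpm_obj_iso_hom] at this
      rw [hhf, hhs]
      exact this
    obtain ⟨a, ha⟩ := ψ.left.map_surjective hf
    obtain ⟨b, hb⟩ := ψ.right.map_surjective hs
    have w : H.map a ≫ y.iso.hom = x.iso.hom ≫ I.map b := by
      apply ψ.base.map_injective
      simp only [Functor.map_comp]
      have nL := ψ.squareLeft.iso.hom.naturality a
      have nR := ψ.squareRight.iso.hom.naturality b
      simp only [Functor.comp_map] at nL nR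
      have eL : ψ.base.map (H.map a) =
          ψ.squareLeft.iso.hom.app x.fst ≫ F.map (ψ.left.map a) ≫ ψ.squareLeft.iso.inv.app y.fst := by
        rw [← Category.assoc, ← nL, Category.assoc, Iso.hom_inv_id_app, Category.comp_id]
      have eR : ψ.base.map (I.map b) =
          ψ.squareRight.iso.hom.app x.snd ≫ G.map (ψ.right.map b) ≫ ψ.squareRight.iso.inv.app y.snd := by
        rw [← Category.assoc, ← nR, Category.assoc, Iso.hom_inv_id_app, Category.comp_id]
      rw [eL, eR, ha, hb]
      rw [← cancel_mono (ψ.squareRight.iso.hom.app y.snd),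
        ← cancel_epi (ψ.squareLeft.iso.inv.app x.fst)]
      simp only [Category.assoc, Iso.inv_hom_id_app, Iso.inv_hom_id_app_assoc]
      rw [hw]
      simp only [Category.assoc]
      congr 3
      exact (Category.comp_id _).symm
    refine ⟨⟨a, b, w⟩, ?_⟩
    apply CategoricalPullback.hom_ext
    · exact ha.trans hhf
    · exact hb.trans hhs

theorem cpm_essSurj [ψ.left.EssSurj] [ψ.right.EssSurj] [ψ.base.Full] [ψ.base.Faithful] :
    (FibCat.categoricalPullbackMap ψ).EssSurj where
  mem_essImage t := by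
    let x := ψ.left.objPreimage t.fst
    let e₁ : ψ.left.obj x ≅ t.fst := ψ.left.objObjPreimageIso t.fst
    let y := ψ.right.objPreimage t.snd
    let e₂ : ψ.right.obj y ≅ t.snd := ψ.right.objObjPreimageIso t.snd
    let χ' : ψ.base.obj (H.obj x) ≅ ψ.base.obj (I.obj y) :=
      ψ.squareLeft.iso.app x ≪≫ F.mapIso e₁ ≪≫ t.iso ≪≫ (G.mapIso e₂).symm ≪≫
        (ψ.squareRight.iso.app y).symm
    let χ : H.obj x ≅ I.obj y := ψ.base.preimageIso χ'
    refine ⟨⟨x, y, χ⟩, ⟨CategoricalPullback.mkIso e₁ e₂ ?_⟩⟩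
    rw [cpm_obj_iso_hom]
    simp [χ, χ']

end Groth.Agent.H13
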