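import Mathlib

/-! Coherent modules: helper lemmas (helper13). -/

namespace Groth.Agent.H13.Coherent

universe u v w

variable {R : Type u} [CommRing R] {N : Type v} {M : Type w}
  [AddCommGroup N] [Module R N] [AddCommGroup M] [Module R M]

/-- f.g. submodules are f.p. -/
def FGSubFP (R : Type u) [CommRing R] (M : Type w) [AddCommGroup M] [Module R M] : Prop :=
  ∀ P : Submodule R M, P.FG → Module.FinitePresentation R P

theorem FGSubFP.of_injective (hM : FGSubFP R M) (f : N →ₗ[R] M) (hf : Function.Injective f) :
    FGSubFP R N := by
  intro P hP
  have h1 : (P.map f).FG := hP.map f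
  haveI := hM _ h1
  exact Module.FinitePresentation.of_equiv (Submodule.equivMapOfInjective f hf P).symm

theorem fg_ker_of_finite (hM : FGSubFP R M) [Module.Finite R N] (φ : N →ₗ[R] M) :
    (LinearMap.ker φ).FG := by
  have h1 : (LinearMap.range φ).FG := by
    rw [LinearMap.range_eq_map]
    exact (Module.Finite.fg_top).map φ
  haveI := hM _ h1
  have := Module.FinitePresentation.fg_ker φ.rangeRestrict φ.surjective_rangeRestrict
  rwa [LinearMap.ker_rangeRestrict] at this

theorem FGSubFP.quotient (hM : FGSubFP R M) (K : Submodule R M) (hK : K.FG) :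
    FGSubFP R (M ⧸ K) := by
  intro P hP
  -- preimage of P
  set P' : Submodule R M := P.comap K.mkQ with hP'
  have hP'fg : P'.FG := by
    apply Submodule.fg_of_fg_map_of_fg_inf_ker K.mkQ
    · rw [hP', Submodule.map_comap_eq_of_surjective (Submodule.mkQ_surjective K)]
      exact hP
    · rw [Submodule.ker_mkQ]
      have : P' ⊓ K = K := by
        apply inf_eq_right.mpr
        intro x hx
        rw [hP', Submodule.mem_comap]
        have : K.mkQ x = 0 := by simpa using hx
        rw [this]; exact P.zero_mem
      rw [this]; exact hK
  haveI := hM _ hP'fg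
  -- the restricted map
  let l : P' →ₗ[R] P := K.mkQ.restrict (p := P') (q := P) (fun x hx => hx)
  have hl : Function.Surjective l := by
    rintro ⟨y, hy⟩
    obtain ⟨x, rfl⟩ := Submodule.mkQ_surjective K y
    exact ⟨⟨x, hy⟩, rfl⟩
  apply Module.finitePresentation_of_surjective l hl
  -- kernel is K ∩ P' viewed in P'
  have hker : LinearMap.ker l = K.comap P'.subtype := by
    ext ⟨x, hx⟩
    simp only [LinearMap.mem_ker, Submodule.mem_comap, Submodule.subtype_apply]
    constructor
    · intro h
      have : K.mkQ x = 0 := by
        have := congrArg Subtype.val h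
        simpa [l] using this
      simpa using this
    · intro h
      apply Subtype.ext
      simp [l, h]
  rw [hker]
  -- K.comap P'.subtype ≃ K since K ≤ P'
  have hKP : K ≤ P' := by
    intro x hx
    rw [hP', Submodule.mem_comap]
    have : K.mkQ x = 0 := by simpa using hx
    rw [this]; exact P.zero_mem
  have : (K.comap P'.subtype).map P'.subtype = K := by
    rw [Submodule.map_comap_eq, Submodule.range_subtype]
    exact inf_eq_right.mpr hKP
  have h2 : ((K.comap P'.subtype).map P'.subtype).FG := by rw [this]; exact hK
  exact Submodule.fg_of_fg_map_injective P'.subtype (Submodule.injective_subtype P') h2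

end Groth.Agent.H13.Coherent
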