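import Mathlib.CategoryTheory.Localization.CalculusOfFractions
import Mathlib.Data.Fintype.Option

set_option autoImplicit false
open CategoryTheory
universe w v u

namespace Groth.Agent.H13

variable {C : Type u} [Category.{v} C] (W : MorphismProperty C) [W.HasLeftCalculusOfFractions]

/-- A finite family of morphisms in `W` with common source admits a common refinement. -/
theorem exists_common_refinement (Y : C) (ι : Type w) [Finite ι] :
    ∀ (Yi : ι → C) (s : ∀ i, Y ⟶ Yi i) (_ : ∀ i, W (s i)),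
      ∃ (Y' : C) (s' : Y ⟶ Y') (_ : W s') (t : ∀ i, Yi i ⟶ Y'), ∀ i, s i ≫ t i = s' := by
  refine Finite.induction_empty_option (P := fun ι : Type w => ∀ (Yi : ι → C) (s : ∀ i, Y ⟶ Yi i)
      (_ : ∀ i, W (s i)), ∃ (Y' : C) (s' : Y ⟶ Y') (_ : W s') (t : ∀ i, Yi i ⟶ Y'),
      ∀ i, s i ≫ t i = s') ?_ ?_ ?_ ι
  · intro α β e h Yi s hs
    obtain ⟨Y', s', hs', t, ht⟩ := h (fun a => Yi (e a)) (fun a => s (e a)) (fun a => hs (e a))
    refine ⟨Y', s', hs', fun b => eqToHom (by rw [e.apply_symm_apply]) ≫ t (e.symm b), ?_⟩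
    intro b
    rw [← ht (e.symm b)]
    have : ∀ (b' : β) (hb : b' = b), s b ≫ eqToHom (by rw [hb]) = s b' := by
      intro b' hb; subst hb; simp
    rw [← Category.assoc, this (e (e.symm b)) (e.apply_symm_apply b)]
  · intro Yi s hs
    exact ⟨Y, 𝟙 Y, W.id_mem Y, fun i => i.elim, fun i => i.elim⟩
  · intro α _ h Yi s hs
    obtain ⟨Y₁, s₁, hs₁, t, ht⟩ := h (fun a => Yi (some a)) (fun a => s (some a)) (fun a => hs (some a))
    obtain ⟨ψ, hψ⟩ := MorphismProperty.HasLeftCalculusOfFractions.exists_leftFraction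
      (W := W) (MorphismProperty.RightFraction.mk s₁ hs₁ (s none) : W.RightFraction Y₁ (Yi none))
    dsimp at hψ
    refine ⟨ψ.Y', s none ≫ ψ.s, W.comp_mem _ _ (hs none) ψ.hs,
      fun o => Option.rec (motive := fun o => Yi o ⟶ ψ.Y') ψ.s (fun a => t a ≫ ψ.f) o, ?_⟩
    intro o
    cases o with
    | none => rfl
    | some a =>
      dsimp
      rw [← Category.assoc, ht a, hψ]

end Groth.Agent.H13

namespace Groth.Agent.H13

variable {C : Type u} [Category.{v} C] (W : MorphismProperty C) [W.HasLeftCalculusOfFractions]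
variable {D : Type*} [Category* D] (L : C ⥤ D) [L.IsLocalization W]

/-- A finite family of parallel pairs into `Y` that become equal in the localization are
simultaneously coequalized by a single morphism of `W`. -/
theorem exists_common_coequalizer (Y : C) (ι : Type w) [Finite ι] (A : ι → C)
    (p q : ∀ i, A i ⟶ Y) (h : ∀ i, L.map (p i) = L.map (q i)) :
    ∃ (Y' : C) (t : Y ⟶ Y') (_ : W t), ∀ i, p i ≫ t = q i ≫ t := by
  choose Z t ht fac using fun i => (MorphismProperty.map_eq_iff_postcomp L W _ _).1 (h i)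
  obtain ⟨Y', s', hs', u, hu⟩ := exists_common_refinement W Y ι Z t ht
  refine ⟨Y', s', hs', fun i => ?_⟩
  rw [← hu i, ← Category.assoc, fac i, Category.assoc]

end Groth.Agent.H13
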