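import Mathlib
import Groth.Agent.H29.ComodDual

/-!
# Semisimple comodules are direct sums of simple subcomodules (helper for S19479)
-/

set_option autoImplicit false
universe u v w

namespace Groth.Agent.H13.ComodSS

open Groth.Agent.H29

attribute [local instance] Groth.Agent.H29.dualModule

variable {K : Type u} {C : Type v} [Field K] [AddCommGroup C] [Module K C] [Coalgebra K C]
variable {V : Type w} [AddCommGroup V] [Module K V] [HopfRep.Comod K C V]

lemma ofDualSub_iSup {ι : Sort*} (N : ι → Submodule (DualAlg K C) V) :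
    ofDualSub (⨆ i, N i) = ⨆ i, ofDualSub (N i) := by
  apply Submodule.toAddSubmonoid_injective
  rw [Submodule.iSup_toAddSubmonoid]
  have : (ofDualSub (⨆ i, N i)).toAddSubmonoid = (⨆ i, N i).toAddSubmonoid := rfl
  rw [this, Submodule.iSup_toAddSubmonoid]
  rfl

theorem main_mpr (h : HopfRep.IsSemisimpleComod K C V) :
    ∃ (ι : Type w) (W : ι → Submodule K V), iSupIndep W ∧ iSup W = ⊤ ∧ ∀ i,
        HopfRep.IsSubcomod (k := K) (A := C) (W i) ∧ W i ≠ ⊥ ∧
          ∀ W' : Submodule K V, HopfRep.IsSubcomod (k := K) (A := C) W' → W' ≤ W i →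
            W' = ⊥ ∨ W' = W i := by
  have hss : IsSemisimpleModule (DualAlg K C) V := isSemisimpleModule_of_isSemisimpleComod K C V h
  obtain ⟨s, hind, hsup, hsimple⟩ :=
    IsSemisimpleModule.exists_sSupIndep_sSup_simples_eq_top (DualAlg K C) V
  refine ⟨s, fun i => ofDualSub i.1, ?_, ?_, fun i => ⟨isSubcomod_ofDualSub i.1, ?_, ?_⟩⟩
  · rw [sSupIndep_iff] at hind
    intro i
    have h1 := hind i
    rw [disjoint_iff] at h1 ⊢
    have h2 : (⨆ (j : s) (_ : j ≠ i), ofDualSub j.1) =
        ofDualSub (⨆ (j : s) (_ : j ≠ i), j.1) := by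
      rw [ofDualSub_iSup]
      congr 1; funext j
      rw [ofDualSub_iSup]
    rw [h2, ← ofDualSub_inf, h1, ofDualSub_bot]
  · rw [← ofDualSub_iSup, ← sSup_eq_iSup', hsup, ofDualSub_top]
  · intro hbot
    have hbot' : ofDualSub i.1 = ⊥ := hbot
    have hatom := isSimpleModule_iff_isAtom.1 (hsimple i.1 i.2)
    apply hatom.1
    apply ofDualSub_injective
    rw [hbot', ofDualSub_bot]
  · intro W' hW' hle
    have hatom := isSimpleModule_iff_isAtom.1 (hsimple i.1 i.2)
    have hle' : toDualSub W' hW' ≤ i.1 := fun v hv => hle hv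
    rcases eq_or_lt_of_le hle' with heq | hlt
    · right
      rw [← ofDualSub_toDualSub W' hW', heq]
    · left
      rw [← ofDualSub_toDualSub W' hW', hatom.2 _ hlt, ofDualSub_bot]

theorem main_mp {ι : Type*} (W : ι → Submodule K V) (hsup : iSup W = ⊤)
    (hW : ∀ i, HopfRep.IsSubcomod (k := K) (A := C) (W i) ∧ W i ≠ ⊥ ∧
          ∀ W' : Submodule K V, HopfRep.IsSubcomod (k := K) (A := C) W' → W' ≤ W i →
            W' = ⊥ ∨ W' = W i) :
    HopfRep.IsSemisimpleComod K C V := by
  apply isSemisimpleComod_of_isSemisimpleModule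
  let N : ι → Submodule (DualAlg K C) V := fun i => toDualSub (W i) (hW i).1
  have hN : ∀ i, ofDualSub (N i) = W i := fun i => ofDualSub_toDualSub _ _
  have hsimple : ∀ i, IsSimpleModule (DualAlg K C) (N i) := by
    intro i
    rw [isSimpleModule_iff_isAtom]
    constructor
    · intro hbot
      apply (hW i).2.1
      rw [← hN i, hbot, ofDualSub_bot]
    · intro M hM
      have hle : ofDualSub M ≤ W i := by
        rw [← hN i]
        exact hM.le
      rcases (hW i).2.2 (ofDualSub M) (isSubcomod_ofDualSub M) hle with h1 | h1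
      · apply ofDualSub_injective
        rw [h1, ofDualSub_bot]
      · exfalso
        have : M = N i := ofDualSub_injective (by rw [h1, hN i])
        exact hM.ne this
  have hss : ∀ i, IsSemisimpleModule (DualAlg K C) (N i) := fun i => by
    have := hsimple i
    infer_instance
  apply isSemisimpleModule_of_isSemisimpleModule_submodule' hss
  apply ofDualSub_injective
  rw [ofDualSub_iSup, ofDualSub_top, ← hsup]
  congr 1

theorem main :
    (∃ (ι : Type w) (W : ι → Submodule K V), iSupIndep W ∧ iSup W = ⊤ ∧ ∀ i,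
        HopfRep.IsSubcomod (k := K) (A := C) (W i) ∧ W i ≠ ⊥ ∧
          ∀ W' : Submodule K V, HopfRep.IsSubcomod (k := K) (A := C) W' → W' ≤ W i →
            W' = ⊥ ∨ W' = W i) ↔
      HopfRep.IsSemisimpleComod K C V := by
  constructor
  · rintro ⟨ι, W, _, hsup, hW⟩
    exact main_mp W hsup hW
  · exact main_mpr

end Groth.Agent.H13.ComodSS
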