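import Mathlib

namespace Groth.Agent.H13.Conn

open Topology TopologicalSpace Set

universe u

/-- key lemma -/
theorem exists_generization_mem_open {X : Type u} [TopologicalSpace X] [QuasiSober X]
    {x : X} {N : Set X} (hN : N ∈ nhds x) [hNoeth : NoetherianSpace ↥N]
    {O : Set X} (hO : IsOpen O) (hx : x ∈ closure O) : ∃ η ∈ O, η ⤳ x := by
  classical
  set V : Set X := interior N with hV
  have hVo : IsOpen V := isOpen_interior
  have hxV : x ∈ V := mem_interior_iff_mem_nhds.2 hN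
  have : NoetherianSpace ↥V :=
    (Topology.IsEmbedding.inclusion (interior_subset : V ⊆ N)).isInducing.noetherianSpace
  have : QuasiSober ↥V := hVo.isOpenEmbedding_subtypeVal.quasiSober
  set O' : Set ↥V := Subtype.val ⁻¹' O with hO'
  have hO'o : IsOpen O' := hO.preimage continuous_subtype_val
  set x' : ↥V := ⟨x, hxV⟩ with hx'def
  have hx' : x' ∈ closure O' := by
    refine (closure_subtype (X := X) (p := fun a => a ∈ V) (x := x') (s := O')).2 ?_
    have : (Subtype.val '' O' : Set X) = V ∩ O := by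
      rw [hO', Subtype.image_preimage_coe]
    rw [this]
    exact hVo.inter_closure ⟨hxV, hx⟩
  set T : Set (Set ↥V) := {C ∈ irreducibleComponents ↥V | (C ∩ O').Nonempty} with hT
  have hTfin : T.Finite :=
    (NoetherianSpace.finite_irreducibleComponents).subset (fun C hC => hC.1)
  have hTclosed : IsClosed (⋃₀ T) := by
    rw [sUnion_eq_biUnion]
    exact hTfin.isClosed_biUnion (fun C hC => isClosed_of_mem_irreducibleComponents C hC.1)
  have hsub : O' ⊆ ⋃₀ T := by
    intro p hp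
    exact ⟨irreducibleComponent p, ⟨irreducibleComponent_mem_irreducibleComponents p,
      ⟨p, mem_irreducibleComponent, hp⟩⟩, mem_irreducibleComponent⟩
  obtain ⟨C, hCT, hxC⟩ := closure_minimal hsub hTclosed hx'
  obtain ⟨η', hη'⟩ := QuasiSober.sober (hCT.1.1)
    (isClosed_of_mem_irreducibleComponents C hCT.1)
  refine ⟨η'.1, ?_, ?_⟩
  · have : η' ∈ O' := (hη'.mem_open_set_iff hO'o).2 hCT.2
    exact this
  · have h1 : η' ⤳ x' := by
      rw [specializes_iff_mem_closure, hη'.def]; exact hxC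
    exact h1.map continuous_subtype_val

theorem main {X : Type u} [TopologicalSpace X]
    [QuasiSober X] [T0Space X]
    (hloc : ∀ x : X, ∃ U ∈ nhds x, TopologicalSpace.NoetherianSpace ↥U) [ConnectedSpace X]
    (Z : Set X) (hZ : IsClosed Z) (hZn : IsNowhereDense Z)
    (hgen : ∀ x ∈ Z, IsPreconnected ({x' : X | x' ⤳ x} \ {x})) :
    IsConnected Zᶜ := by
  classical
  have hdense : Dense Zᶜ := by
    have : interior Z = ∅ := by
      have := hZn
      rwa [IsNowhereDense, hZ.closure_eq] at this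
    exact interior_eq_empty_iff_dense_compl.1 this
  refine ⟨hdense.nonempty, ?_⟩
  intro u v hu hv huv hnu hnv
  by_contra hcon
  have hdisj : Zᶜ ∩ (u ∩ v) = ∅ := Set.not_nonempty_iff_eq_empty.1 hcon
  set U₁ := Zᶜ ∩ u with hU₁
  set U₂ := Zᶜ ∩ v with hU₂
  have hU₁o : IsOpen U₁ := hZ.isOpen_compl.inter hu
  have hU₂o : IsOpen U₂ := hZ.isOpen_compl.inter hv
  have hU12 : U₁ ∩ U₂ = ∅ := by
    ext p
    simp only [hU₁, hU₂, mem_inter_iff, mem_empty_iff_false, iff_false]
    rintro ⟨⟨hp1, hp2⟩, -, hp3⟩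
    have : p ∈ Zᶜ ∩ (u ∩ v) := ⟨hp1, hp2, hp3⟩
    rw [hdisj] at this; exact this
  have hUnion : U₁ ∪ U₂ = Zᶜ := by
    rw [hU₁, hU₂, ← inter_union_distrib_left]; exact inter_eq_left.2 huv
  have hcl : closure U₁ ∪ closure U₂ = univ := by
    rw [← closure_union, hUnion]; exact hdense.closure_eq
  set W := closure U₁ ∩ closure U₂ with hW
  have hWclosed : IsClosed W := isClosed_closure.inter isClosed_closure
  have hWne : W.Nonempty := by
    have h := (isPreconnected_closed_iff.1 (isPreconnected_univ (α := X))) (closure U₁)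
      (closure U₂) isClosed_closure isClosed_closure (by rw [hcl]) ?_ ?_
    · simpa using h
    · obtain ⟨p, hp⟩ := hnu; exact ⟨p, trivial, subset_closure hp⟩
    · obtain ⟨p, hp⟩ := hnv; exact ⟨p, trivial, subset_closure hp⟩
  have hWZ : W ⊆ Z := by
    intro p hp
    by_contra hpZ
    have : p ∈ U₁ ∪ U₂ := by rw [hUnion]; exact hpZ
    rcases this with h1 | h2
    · have := (mem_closure_iff.1 hp.2) U₁ hU₁o h1
      rw [hU12] at this; exact this.ne_empty rfl
    · have := (mem_closure_iff.1 hp.1) U₂ hU₂o h2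
      rw [inter_comm, hU12] at this; exact this.ne_empty rfl
  -- maximal point
  obtain ⟨x, hxW, hxmax⟩ : ∃ x ∈ W, ∀ y ∈ W, y ⤳ x → y = x := by
    obtain ⟨x₀, hx₀⟩ := hWne
    have : QuasiSober ↥W := hWclosed.isClosedEmbedding_subtypeVal.quasiSober
    set x₀' : ↥W := ⟨x₀, hx₀⟩ with hx₀'
    obtain ⟨η', hη'⟩ := QuasiSober.sober (isIrreducible_irreducibleComponent (x := x₀'))
      isClosed_irreducibleComponent
    refine ⟨η'.1, η'.2, ?_⟩
    intro y hy hyx
    have h1 : (⟨y, hy⟩ : ↥W) ⤳ η' := Topology.IsInducing.subtypeVal.specializes_iff.1 hyx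
    have h2 : irreducibleComponent x₀' ⊆ closure {(⟨y, hy⟩ : ↥W)} := by
      rw [← hη'.def]
      exact specializes_iff_closure_subset.1 h1
    have h3 : closure {(⟨y, hy⟩ : ↥W)} = irreducibleComponent x₀' :=
      (irreducibleComponent_property x₀').2.2 _
        (isIrreducible_singleton.closure.isPreirreducible) h2
    have h4 : IsGenericPoint (⟨y, hy⟩ : ↥W) (irreducibleComponent x₀') := h3
    have := h4.eq hη'
    exact congrArg Subtype.val this
  have hxZ : x ∈ Z := hWZ hxW
  have hG := hgen x hxZ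
  obtain ⟨N, hN, hNoeth⟩ := hloc x
  have := hNoeth
  obtain ⟨η₁, hη₁U, hη₁x⟩ := exists_generization_mem_open hN hU₁o hxW.1
  obtain ⟨η₂, hη₂U, hη₂x⟩ := exists_generization_mem_open hN hU₂o hxW.2
  have hη₁G : η₁ ∈ {x' : X | x' ⤳ x} \ {x} :=
    ⟨hη₁x, fun h => hη₁U.1 (by rw [mem_singleton_iff] at h; rw [h]; exact hxZ)⟩
  have hη₂G : η₂ ∈ {x' : X | x' ⤳ x} \ {x} :=
    ⟨hη₂x, fun h => hη₂U.1 (by rw [mem_singleton_iff] at h; rw [h]; exact hxZ)⟩
  obtain ⟨y, hyG, hyW⟩ := (isPreconnected_closed_iff.1 hG) (closure U₁) (closure U₂)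
    isClosed_closure isClosed_closure (by rw [hcl]; exact subset_univ _)
    ⟨η₁, hη₁G, subset_closure hη₁U⟩ ⟨η₂, hη₂G, subset_closure hη₂U⟩
  exact hyG.2 (hxmax y hyW hyG.1)

end Groth.Agent.H13.Conn
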