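import Mathlib
import Groth.Prelude.Def_CAlg
import Groth.Agent.H29.Depth
import Groth.Agent.H29.DepthLib
import Groth.Agent.H29.DepthMore
import Groth.Agent.H29.MaxRegSeq
import Groth.Agent.H29.SkLib

/-!
# Depth and specialization of primes (helper13)

`depth M_s ≤ depth M_p + ht(s/p)` for primes `p ≤ s` of a Noetherian ring.
-/

set_option autoImplicit false
set_option linter.style.haveILetI false
universe u v

namespace Groth.Agent.H13.DepthSpec

open Groth.Agent.H29

theorem isSMulRegular_of_le {R : Type u} [CommRing R] (M : Type v) [AddCommGroup M] [Module R M]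
    (p s : Ideal R) [p.IsPrime] [s.IsPrime] (hps : p ≤ s) (x : R)
    (h : IsSMulRegular (LocalizedModule s.primeCompl M) (algebraMap R (Localization.AtPrime s) x)) :
    IsSMulRegular (LocalizedModule p.primeCompl M) (algebraMap R (Localization.AtPrime p) x) := by
  rw [isSMulRegular_iff_right_eq_zero_of_smul] at h ⊢
  intro n hn
  obtain ⟨⟨m, t⟩, rfl⟩ := IsLocalizedModule.mk'_surjective p.primeCompl
    (LocalizedModule.mkLinearMap p.primeCompl M) n
  simp only [Function.uncurry_apply_pair] at hn ⊢
  rw [algebraMap_smul, ← IsLocalizedModule.mk'_smul, IsLocalizedModule.mk'_eq_zero'] at hn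
  obtain ⟨u, hu⟩ := hn
  have h1 : algebraMap R (Localization.AtPrime s) x •
      (LocalizedModule.mkLinearMap s.primeCompl M (u.1 • m)) = 0 := by
    rw [algebraMap_smul, ← map_smul, smul_comm]
    have : u.1 • x • m = 0 := hu
    rw [this, map_zero]
  have h2 := h _ h1
  rw [IsLocalizedModule.eq_zero_iff s.primeCompl] at h2
  obtain ⟨v, hv⟩ := h2
  rw [IsLocalizedModule.mk'_eq_zero']
  refine ⟨⟨v.1 * u.1, p.primeCompl.mul_mem (fun hvp => v.2 (hps hvp)) u.2⟩, ?_⟩
  show (v.1 * u.1) • m = 0
  rw [mul_smul]
  exact hv

theorem dim_eq (R : Type u) [CommRing R] (p s : Ideal R) [p.IsPrime] [s.IsPrime] (hps : p ≤ s) :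
    ringKrullDim (Localization.AtPrime s ⧸ p.map (algebraMap R (Localization.AtPrime s))) =
      ((s.map (Ideal.Quotient.mk p)).height : WithBot ℕ∞) := by
  haveI hprime : (s.map (Ideal.Quotient.mk p)).IsPrime :=
    Ideal.map_isPrime_of_surjective Ideal.Quotient.mk_surjective (by rw [Ideal.mk_ker]; exact hps)
  have hsub : Algebra.algebraMapSubmonoid (R ⧸ p) s.primeCompl =
      (s.map (Ideal.Quotient.mk p)).primeCompl := by
    ext z
    constructor
    · rintro ⟨a, ha, rfl⟩
      intro hz
      exact ha ((Ideal.mem_quotient_iff_mem hps).mp hz)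
    · intro hz
      obtain ⟨a, rfl⟩ := Ideal.Quotient.mk_surjective z
      exact ⟨a, fun ha => hz (Ideal.mem_map_of_mem _ ha), rfl⟩
  haveI hloc : IsLocalization.AtPrime
      (Localization.AtPrime s ⧸ p.map (algebraMap R (Localization.AtPrime s)))
      (s.map (Ideal.Quotient.mk p)) := by
    show IsLocalization (s.map (Ideal.Quotient.mk p)).primeCompl _
    rw [← hsub]
    infer_instance
  exact IsLocalization.AtPrime.ringKrullDim_eq_height (s.map (Ideal.Quotient.mk p)) _

theorem claim (R : Type u) [CommRing R] [IsNoetherianRing R] (p s : Ideal R) [p.IsPrime]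
    [s.IsPrime] (hps : p ≤ s) (m : ℕ) :
    ∀ (M : Type u) [AddCommGroup M] [Module R M] [Module.Finite R M],
      LocCoh.depth (Localization.AtPrime s) (LocalizedModule s.primeCompl M) = m →
      (m : ℕ∞) ≤ LocCoh.depth (Localization.AtPrime p) (LocalizedModule p.primeCompl M) +
        (s.map (Ideal.Quotient.mk p)).height := by
  induction m with
  | zero => intro M _ _ _ _; simp
  | succ m ih =>
    intro M _ _ _ hdep
    rcases subsingleton_or_nontrivial (LocalizedModule s.primeCompl M) with hs | hs
    · rw [depth_eq_top_of_subsingleton] at hdep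
      exact absurd hdep.symm (ENat.natCast_ne_top _)
    rcases subsingleton_or_nontrivial (LocalizedModule p.primeCompl M) with hp | hp
    · rw [depth_eq_top_of_subsingleton (Localization.AtPrime p)]
      simp
    by_cases hA : ∃ q' ∈ associatedPrimes (Localization.AtPrime s) (LocalizedModule s.primeCompl M),
        p.map (algebraMap R (Localization.AtPrime s)) ≤ q'
    · obtain ⟨q', hq', hIq'⟩ := hA
      have h1 := depth_le_ringKrullDim_quotient_of_mem_associatedPrimes (Localization.AtPrime s)
        (LocalizedModule s.primeCompl M) q' hq'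
      have h2 := ringKrullDim_quotient_le_of_le (Localization.AtPrime s) _ q' hIq'
      have h4 := h1.trans h2
      rw [dim_eq R p s hps, WithBot.coe_le_coe] at h4
      rw [← hdep]
      exact h4.trans le_add_self
    · push Not at hA
      obtain ⟨y, hyI, hyreg⟩ := exists_isSMulRegular_mem_of_forall_not_le (Localization.AtPrime s)
        (LocalizedModule s.primeCompl M) _ hA
      obtain ⟨⟨a, t⟩, hat⟩ :=
        (IsLocalization.mem_map_algebraMap_iff s.primeCompl (Localization.AtPrime s)).mp hyI
      have hxreg : IsSMulRegular (LocalizedModule s.primeCompl M)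
          (algebraMap R (Localization.AtPrime s) a.1) := by
        rw [← hat]
        exact hyreg.mul (IsUnit.isSMulRegular _ (IsLocalization.map_units _ t))
      have hxs : algebraMap R (Localization.AtPrime s) a.1 ∈
          IsLocalRing.maximalIdeal (Localization.AtPrime s) :=
        (IsLocalization.AtPrime.to_map_mem_maximal_iff _ s a.1).mpr (hps a.2)
      have hxp : algebraMap R (Localization.AtPrime p) a.1 ∈
          IsLocalRing.maximalIdeal (Localization.AtPrime p) :=
        (IsLocalization.AtPrime.to_map_mem_maximal_iff _ p a.1).mpr a.2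
      have hxregp := isSMulRegular_of_le M p s hps a.1 hxreg
      have e4 := depth_quotSMulTop_add_one (Localization.AtPrime s)
        (LocalizedModule s.primeCompl M) _ hxs hxreg
      have e5 : LocCoh.depth (Localization.AtPrime s)
          (QuotSMulTop (algebraMap R (Localization.AtPrime s) a.1)
            (LocalizedModule s.primeCompl M)) =
          LocCoh.depth (Localization.AtPrime s)
            (LocalizedModule s.primeCompl (QuotSMulTop a.1 M)) :=
        idealDepth_congr _ (quotSMulTopLocalizedEquiv R M s a.1)
      have e4p := depth_quotSMulTop_add_one (Localization.AtPrime p)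
        (LocalizedModule p.primeCompl M) _ hxp hxregp
      have e5p : LocCoh.depth (Localization.AtPrime p)
          (QuotSMulTop (algebraMap R (Localization.AtPrime p) a.1)
            (LocalizedModule p.primeCompl M)) =
          LocCoh.depth (Localization.AtPrime p)
            (LocalizedModule p.primeCompl (QuotSMulTop a.1 M)) :=
        idealDepth_congr _ (quotSMulTopLocalizedEquiv R M p a.1)
      have h6 : LocCoh.depth (Localization.AtPrime s)
          (LocalizedModule s.primeCompl (QuotSMulTop a.1 M)) = m := by
        rw [← e5]
        rw [hdep] at e4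
        exact enat_add_natCast_cancel 1 (by simpa using e4)
      have h7 := ih (QuotSMulTop a.1 M) h6
      rw [← e5p] at h7
      rw [← e4p]
      calc ((m + 1 : ℕ) : ℕ∞) = (m : ℕ∞) + 1 := by push_cast; rfl
        _ ≤ (LocCoh.depth (Localization.AtPrime p)
              (QuotSMulTop (algebraMap R (Localization.AtPrime p) a.1)
                (LocalizedModule p.primeCompl M)) +
              (s.map (Ideal.Quotient.mk p)).height) + 1 := by gcongr
        _ = _ := add_right_comm _ _ _

theorem main (R : Type u) [CommRing R] [IsNoetherianRing R] (M : Type u) [AddCommGroup M]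
    [Module R M] [Module.Finite R M] (p s : Ideal R) [p.IsPrime] [s.IsPrime] (hps : p ≤ s) :
    LocCoh.depth (Localization.AtPrime s) (LocalizedModule s.primeCompl M) ≤
      LocCoh.depth (Localization.AtPrime p) (LocalizedModule p.primeCompl M) +
        (s.map (Ideal.Quotient.mk p)).height := by
  rcases subsingleton_or_nontrivial (LocalizedModule s.primeCompl M) with hs | hs
  · have : Subsingleton (LocalizedModule p.primeCompl M) := by
      by_contra hcon
      rw [not_subsingleton_iff_nontrivial] at hcon
      have h1 : (⟨p, inferInstance⟩ : PrimeSpectrum R) ∈ Module.support R M := hcon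
      have h2 := Module.mem_support_mono
        (show (⟨p, inferInstance⟩ : PrimeSpectrum R) ≤ ⟨s, inferInstance⟩ from hps) h1
      exact (not_nontrivial_iff_subsingleton.mpr hs) h2
    rw [depth_eq_top_of_subsingleton (Localization.AtPrime p)]
    simp
  · obtain ⟨m, hm⟩ := ENat.ne_top_iff_exists.mp
      (depth_ne_top (Localization.AtPrime s) (LocalizedModule s.primeCompl M))
    rw [← hm]
    exact claim R p s hps m M hm.symm

end Groth.Agent.H13.DepthSpec
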