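import Mathlib

/-!
# Long exact sequence of left derived functors for a short exact sequence of functors

Given additive functors `F₁ F₂ F₃ : C ⥤ D` between abelian categories (`C` with projective
resolutions) and natural transformations `a : F₁ ⟶ F₂`, `b : F₂ ⟶ F₃` with `a ≫ b = 0` such that
`0 ⟶ F₁ P ⟶ F₂ P ⟶ F₃ P ⟶ 0` is short exact for every projective `P`, we construct the
connecting morphisms `δ X n : (F₃.leftDerived (n+1)).obj X ⟶ (F₁.leftDerived n).obj X`,
natural in `X`, and prove exactness of the long sequence.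
-/

set_option autoImplicit false

open CategoryTheory Limits

namespace Groth.Agent.H13.DerivedLES

universe v v' u u'

variable {C : Type u} [Category.{v} C] [Abelian C] [HasProjectiveResolutions C]
  {D : Type u'} [Category.{v'} D] [Abelian D]
  {F₁ F₂ F₃ : C ⥤ D} [F₁.Additive] [F₂.Additive] [F₃.Additive]

section
variable (a : F₁ ⟶ F₂) (b : F₂ ⟶ F₃) (w : a ≫ b = 0)

include w in
lemma app_zero (X : C) : a.app X ≫ b.app X = 0 := by
  rw [← NatTrans.comp_app, w]; rfl

/-- The short complex of chain complexes `F₁ K ⟶ F₂ K ⟶ F₃ K`. -/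
noncomputable def sc (K : ChainComplex C ℕ) : ShortComplex (ChainComplex D ℕ) :=
  ShortComplex.mk ((NatTrans.mapHomologicalComplex a (ComplexShape.down ℕ)).app K)
    ((NatTrans.mapHomologicalComplex b (ComplexShape.down ℕ)).app K) (by
      ext n
      exact app_zero a b w (K.X n))

/-- Functoriality of `sc`. -/
noncomputable def scMap {K L : ChainComplex C ℕ} (φ : K ⟶ L) : sc a b w K ⟶ sc a b w L where
  τ₁ := (F₁.mapHomologicalComplex _).map φ
  τ₂ := (F₂.mapHomologicalComplex _).map φ
  τ₃ := (F₃.mapHomologicalComplex _).map φ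
  comm₁₂ := (NatTrans.mapHomologicalComplex a _).naturality φ
  comm₂₃ := (NatTrans.mapHomologicalComplex b _).naturality φ

variable (hex : ∀ (X : C), Projective X →
  (ShortComplex.mk (a.app X) (b.app X) (app_zero a b w X)).ShortExact)

include hex in
lemma sc_shortExact (K : ChainComplex C ℕ) (hK : ∀ n, Projective (K.X n)) :
    (sc a b w K).ShortExact := by
  apply HomologicalComplex.shortExact_of_degreewise_shortExact
  intro i
  exact hex (K.X i) (hK i)

/-- The connecting morphism in homology, with types in functorial form. -/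
noncomputable def δH (K : ChainComplex C ℕ) (hK : ∀ n, Projective (K.X n)) (n : ℕ) :
    (HomologicalComplex.homologyFunctor D (ComplexShape.down ℕ) (n + 1)).obj
      ((F₃.mapHomologicalComplex (ComplexShape.down ℕ)).obj K) ⟶
    (HomologicalComplex.homologyFunctor D (ComplexShape.down ℕ) n).obj
      ((F₁.mapHomologicalComplex (ComplexShape.down ℕ)).obj K) :=
  (sc_shortExact a b w hex K hK).δ (n + 1) n (by simp)

lemma δH_naturality {K L : ChainComplex C ℕ} (φ : K ⟶ L) (hK : ∀ n, Projective (K.X n))
    (hL : ∀ n, Projective (L.X n)) (n : ℕ) :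
    δH a b w hex K hK n ≫ (HomologicalComplex.homologyFunctor D (ComplexShape.down ℕ) n).map
        ((F₁.mapHomologicalComplex (ComplexShape.down ℕ)).map φ) =
      (HomologicalComplex.homologyFunctor D (ComplexShape.down ℕ) (n + 1)).map
        ((F₃.mapHomologicalComplex (ComplexShape.down ℕ)).map φ) ≫
        δH a b w hex L hL n :=
  HomologicalComplex.HomologySequence.δ_naturality (scMap a b w φ)
    (sc_shortExact a b w hex K hK) (sc_shortExact a b w hex L hL) (n + 1) n (by simp)

lemma δH_comp (K : ChainComplex C ℕ) (hK : ∀ n, Projective (K.X n)) (n : ℕ) :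
    δH a b w hex K hK n ≫ (HomologicalComplex.homologyFunctor D (ComplexShape.down ℕ) n).map
      ((NatTrans.mapHomologicalComplex a (ComplexShape.down ℕ)).app K) = 0 :=
  (sc_shortExact a b w hex K hK).δ_comp (n + 1) n (by simp)

lemma comp_δH (K : ChainComplex C ℕ) (hK : ∀ n, Projective (K.X n)) (n : ℕ) :
    (HomologicalComplex.homologyFunctor D (ComplexShape.down ℕ) (n + 1)).map
      ((NatTrans.mapHomologicalComplex b (ComplexShape.down ℕ)).app K) ≫
      δH a b w hex K hK n = 0 :=
  (sc_shortExact a b w hex K hK).comp_δ (n + 1) n (by simp)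

include w in
lemma H_comp_zero (K : ChainComplex C ℕ) (n : ℕ) :
    (HomologicalComplex.homologyFunctor D (ComplexShape.down ℕ) n).map
      ((NatTrans.mapHomologicalComplex a (ComplexShape.down ℕ)).app K) ≫
    (HomologicalComplex.homologyFunctor D (ComplexShape.down ℕ) n).map
      ((NatTrans.mapHomologicalComplex b (ComplexShape.down ℕ)).app K) = 0 := by
  rw [← Functor.map_comp]
  have : (NatTrans.mapHomologicalComplex a (ComplexShape.down ℕ)).app K ≫
      (NatTrans.mapHomologicalComplex b (ComplexShape.down ℕ)).app K = 0 := (sc a b w K).zero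
  rw [this, Functor.map_zero]

lemma δH_exact₁ (K : ChainComplex C ℕ) (hK : ∀ n, Projective (K.X n)) (n : ℕ) :
    (ShortComplex.mk _ _ (δH_comp a b w hex K hK n)).Exact :=
  (sc_shortExact a b w hex K hK).homology_exact₁ (n + 1) n (by simp)

include hex in
lemma δH_exact₂ (K : ChainComplex C ℕ) (hK : ∀ n, Projective (K.X n)) (n : ℕ) :
    (ShortComplex.mk _ _ (H_comp_zero a b w K n)).Exact :=
  (sc_shortExact a b w hex K hK).homology_exact₂ n

lemma δH_exact₃ (K : ChainComplex C ℕ) (hK : ∀ n, Projective (K.X n)) (n : ℕ) :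
    (ShortComplex.mk _ _ (comp_δH a b w hex K hK n)).Exact :=
  (sc_shortExact a b w hex K hK).homology_exact₃ (n + 1) n (by simp)

/-- The connecting morphism computed with a given projective resolution. -/
noncomputable def δP {X : C} (P : ProjectiveResolution X) (n : ℕ) :
    (F₃.leftDerived (n + 1)).obj X ⟶ (F₁.leftDerived n).obj X :=
  (P.isoLeftDerivedObj F₃ (n + 1)).hom ≫ δH a b w hex P.complex P.projective n ≫
      (P.isoLeftDerivedObj F₁ n).inv

lemma δP_naturality {X Y : C} (f : X ⟶ Y) (P : ProjectiveResolution X)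
    (Q : ProjectiveResolution Y) (φ : P.complex ⟶ Q.complex)
    (comm : φ.f 0 ≫ Q.π.f 0 = P.π.f 0 ≫ f) (n : ℕ) :
    δP a b w hex P n ≫ (F₁.leftDerived n).map f =
      (F₃.leftDerived (n + 1)).map f ≫ δP a b w hex Q n := by
  dsimp only [δP]
  rw [Category.assoc, Category.assoc,
    ProjectiveResolution.isoLeftDerivedObj_inv_naturality f P Q φ comm F₁ n,
    ProjectiveResolution.isoLeftDerivedObj_hom_naturality_assoc f P Q φ comm F₃ (n + 1)]
  simp only [Functor.comp_map]
  rw [reassoc_of% (δH_naturality a b w hex φ P.projective Q.projective n)]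

/-- The connecting morphism of the long exact sequence of left derived functors. -/
noncomputable def δ (X : C) (n : ℕ) :
    (F₃.leftDerived (n + 1)).obj X ⟶ (F₁.leftDerived n).obj X :=
  δP a b w hex (projectiveResolution X) n

lemma δ_naturality {X Y : C} (f : X ⟶ Y) (n : ℕ) :
    δ a b w hex X n ≫ (F₁.leftDerived n).map f =
      (F₃.leftDerived (n + 1)).map f ≫ δ a b w hex Y n :=
  δP_naturality a b w hex f _ _ (ProjectiveResolution.lift f _ _)
    (ProjectiveResolution.lift_commutes_zero f _ _) n

lemma δ_eq {X : C} (P : ProjectiveResolution X) (n : ℕ) :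
    δ a b w hex X n = δP a b w hex P n := by
  have := δP_naturality a b w hex (𝟙 X) (projectiveResolution X) P
    (ProjectiveResolution.lift (𝟙 X) _ _) (ProjectiveResolution.lift_commutes_zero (𝟙 X) _ _) n
  simpa [δ] using this

include w in
lemma leftDerived_comp_zero (X : C) (n : ℕ) :
    (NatTrans.leftDerived a n).app X ≫ (NatTrans.leftDerived b n).app X = 0 := by
  rw [(projectiveResolution X).leftDerived_app_eq a n,
    (projectiveResolution X).leftDerived_app_eq b n]
  simp only [Category.assoc, Iso.inv_hom_id_assoc]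
  rw [reassoc_of% (H_comp_zero a b w (projectiveResolution X).complex n), zero_comp, comp_zero]

lemma δ_comp (X : C) (n : ℕ) :
    δ a b w hex X n ≫ (NatTrans.leftDerived a n).app X = 0 := by
  rw [(projectiveResolution X).leftDerived_app_eq a n]
  dsimp only [δ, δP]
  simp only [Category.assoc, Iso.inv_hom_id_assoc]
  rw [reassoc_of% (δH_comp a b w hex (projectiveResolution X).complex
    (projectiveResolution X).projective n), zero_comp, comp_zero]

lemma comp_δ (X : C) (n : ℕ) :
    (NatTrans.leftDerived b (n + 1)).app X ≫ δ a b w hex X n = 0 := by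
  rw [(projectiveResolution X).leftDerived_app_eq b (n + 1)]
  dsimp only [δ, δP]
  simp only [Category.assoc, Iso.inv_hom_id_assoc]
  rw [reassoc_of% (comp_δH a b w hex (projectiveResolution X).complex
    (projectiveResolution X).projective n), zero_comp, comp_zero]

include hex in
/-- Exactness of `L_n F₁ X ⟶ L_n F₂ X ⟶ L_n F₃ X`. -/
lemma exact₂ (X : C) (n : ℕ) :
    (ShortComplex.mk _ _ (leftDerived_comp_zero a b w X n)).Exact := by
  let P := projectiveResolution X
  refine ShortComplex.exact_of_iso ?_ (δH_exact₂ a b w hex P.complex P.projective n)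
  refine ShortComplex.isoMk (P.isoLeftDerivedObj F₁ n).symm (P.isoLeftDerivedObj F₂ n).symm
    (P.isoLeftDerivedObj F₃ n).symm ?_ ?_
  · dsimp only [Iso.symm_hom]
    rw [P.leftDerived_app_eq a n, Iso.inv_hom_id_assoc]
  · dsimp only [Iso.symm_hom]
    rw [P.leftDerived_app_eq b n, Iso.inv_hom_id_assoc]

/-- Exactness of `L_{n+1} F₃ X ⟶ L_n F₁ X ⟶ L_n F₂ X`. -/
lemma exact₁ (X : C) (n : ℕ) :
    (ShortComplex.mk _ _ (δ_comp a b w hex X n)).Exact := by
  let P := projectiveResolution X
  refine ShortComplex.exact_of_iso ?_ (δH_exact₁ a b w hex P.complex P.projective n)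
  refine ShortComplex.isoMk (P.isoLeftDerivedObj F₃ (n + 1)).symm
    (P.isoLeftDerivedObj F₁ n).symm (P.isoLeftDerivedObj F₂ n).symm ?_ ?_
  · dsimp only [Iso.symm_hom, δ, δP]
    rw [Iso.inv_hom_id_assoc]
  · dsimp only [Iso.symm_hom]
    rw [P.leftDerived_app_eq a n, Iso.inv_hom_id_assoc]

/-- Exactness of `L_{n+1} F₂ X ⟶ L_{n+1} F₃ X ⟶ L_n F₁ X`. -/
lemma exact₃ (X : C) (n : ℕ) :
    (ShortComplex.mk _ _ (comp_δ a b w hex X n)).Exact := by
  let P := projectiveResolution X
  refine ShortComplex.exact_of_iso ?_ (δH_exact₃ a b w hex P.complex P.projective n)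
  refine ShortComplex.isoMk (P.isoLeftDerivedObj F₂ (n + 1)).symm
    (P.isoLeftDerivedObj F₃ (n + 1)).symm (P.isoLeftDerivedObj F₁ n).symm ?_ ?_
  · dsimp only [Iso.symm_hom]
    rw [P.leftDerived_app_eq b (n + 1), Iso.inv_hom_id_assoc]
  · dsimp only [Iso.symm_hom, δ, δP]
    rw [Iso.inv_hom_id_assoc]

end

end Groth.Agent.H13.DerivedLES
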