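import Groth.Prelude.Def_FibCat2

set_option autoImplicit false
open CategoryTheory
universe v₂ u₂ v₃ u₃ v u

namespace Groth.Agent.H13

variable {C : Type u} [Category.{v} C] {𝒳 : BasedCategory.{v₂, u₂} C} {𝒴 : BasedCategory.{v₃, u₃} C}

/-- An equivalence over `C` has an underlying functor that is an equivalence of categories. -/
theorem isEquivalence_of_isEquivOver (F : 𝒳 ⥤ᵇ 𝒴) (h : FibCat.IsEquivOver F) :
    F.toFunctor.IsEquivalence := by
  obtain ⟨G, ⟨e₁⟩, ⟨e₂⟩⟩ := h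
  let η : 𝟭 𝒳.obj ≅ F.toFunctor ⋙ G.toFunctor := ((BasedNatTrans.forgetful 𝒳 𝒳).mapIso e₁).symm
  let ε : G.toFunctor ⋙ F.toFunctor ≅ 𝟭 𝒴.obj := (BasedNatTrans.forgetful 𝒴 𝒴).mapIso e₂
  exact (CategoryTheory.Equivalence.mk F.toFunctor G.toFunctor η ε).isEquivalence_functor

end Groth.Agent.H13
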