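import Groth.Agent.H13.LCZero

/-!
# Bridge between the derived-functor `Ext` and `Abelian.Ext` (vanishing form)
-/

set_option autoImplicit false

open CategoryTheory Limits Opposite

namespace Groth.Agent.H13.ExtLES

universe u

variable {R : Type u} [CommRing R]

/-- If `Abelian.Ext X Y (n+1)` is trivial then so is the derived-functor `Ext^{n+1}(X, Y)`. -/
theorem isZero_ext_succ_of_subsingleton (X Y : ModuleCat.{u} R) (n : ℕ)
    (h : Subsingleton (Abelian.Ext X Y (n + 1))) :
    IsZero (((Ext R (ModuleCat.{u} R) (n + 1)).obj (op X)).obj Y) := by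
  let P := projectiveResolution X
  refine IsZero.of_iso ?_ (P.isoExt (n + 1) Y)
  rw [← HomologicalComplex.exactAt_iff_isZero_homology,
    HomologicalComplex.exactAt_iff' _ n (n + 1) (n + 2) (by simp) (by simp),
    ShortComplex.moduleCat_exact_iff]
  intro (x₂ : P.complex.X (n + 1) ⟶ Y) hx₂
  replace hx₂ : P.complex.d (n + 2) (n + 1) ≫ x₂ = 0 := hx₂
  have h0 : P.extMk x₂ (n + 2) rfl hx₂ = 0 := Subsingleton.elim _ _
  obtain ⟨g, hg⟩ := (P.extMk_eq_zero_iff x₂ (n + 2) rfl hx₂ n rfl).mp h0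
  exact ⟨g, hg⟩

/-- Triviality of `Abelian.Ext` transfers along an isomorphism in the first variable. -/
theorem subsingleton_ext_of_iso {X X' : ModuleCat.{u} R} (e : X ≅ X') (Y : ModuleCat.{u} R)
    (n : ℕ) (h : Subsingleton (Abelian.Ext X Y n)) : Subsingleton (Abelian.Ext X' Y n) := by
  refine ⟨fun a b => ?_⟩
  have key : ∀ c : Abelian.Ext X' Y n, c = 0 := by
    intro c
    have h1 : (Abelian.Ext.mk₀ e.inv).comp ((Abelian.Ext.mk₀ e.hom).comp c (zero_add n))
        (zero_add n) = c := by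
      rw [Abelian.Ext.mk₀_comp_mk₀_assoc, e.inv_hom_id, Abelian.Ext.mk₀_id_comp]
    rw [← h1, Subsingleton.elim ((Abelian.Ext.mk₀ e.hom).comp c (zero_add n)) 0,
      Abelian.Ext.comp_zero]
  rw [key a, key b]

end Groth.Agent.H13.ExtLES
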