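import Groth.Agent.H13.DerivedLES

/-!
# Covariant long exact sequence for Mathlib's old `Ext R C n`

For a short exact sequence `S` in an `R`-linear abelian category `C` with enough projectives
and an object `X`, we construct connecting morphisms
`extδ : Ext^n(X, S.X₃) ⟶ Ext^(n+1)(X, S.X₁)`, natural in `X`, and prove exactness.
-/

set_option autoImplicit false

open CategoryTheory Limits Opposite

namespace Groth.Agent.H13.ExtLES

universe v u w

variable {R : Type w} [Ring R] {C : Type u} [Category.{v} C] [Abelian C] [Linear R C]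
  [EnoughProjectives C]

variable (R) in
/-- The functor `Hom(-, Y)` with values in `(ModuleCat R)ᵒᵖ`. -/
noncomputable abbrev FY (Y : C) : C ⥤ (ModuleCat.{v} R)ᵒᵖ := ((linearYoneda R C).obj Y).rightOp

variable (R) in
/-- The natural transformation `Hom(-, Y') ⟶ Hom(-, Y)` in the opposite category. -/
noncomputable abbrev FYmap {Y Y' : C} (g : Y ⟶ Y') : FY R Y' ⟶ FY R Y :=
  NatTrans.rightOp ((linearYoneda R C).map g)

variable (S : ShortComplex C)

lemma w : FYmap R S.g ≫ FYmap R S.f = 0 := by
  ext X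
  apply Quiver.Hom.unop_inj
  ext (g : X ⟶ S.X₁)
  change (g ≫ S.f) ≫ S.g = 0
  rw [Category.assoc, S.zero, comp_zero]

lemma hex (hS : S.ShortExact) (X : C) (hX : Projective X) :
    (ShortComplex.mk ((FYmap R S.g).app X) ((FYmap R S.f).app X)
      (DerivedLES.app_zero _ _ (w S) X)).ShortExact := by
  have hT : (ShortComplex.mk (((linearYoneda R C).map S.f).app (op X))
      (((linearYoneda R C).map S.g).app (op X)) (by
        ext (g : X ⟶ S.X₁)
        change (g ≫ S.f) ≫ S.g = 0
        rw [Category.assoc, S.zero, comp_zero])).ShortExact := by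
    have := hS.mono_f
    have := hS.epi_g
    refine ShortComplex.ShortExact.mk' ?_ ?_ ?_
    · rw [ShortComplex.moduleCat_exact_iff]
      intro (x₂ : X ⟶ S.X₂) hx₂
      replace hx₂ : x₂ ≫ S.g = 0 := hx₂
      exact ⟨hS.exact.lift x₂ hx₂, hS.exact.lift_f x₂ hx₂⟩
    · rw [ModuleCat.mono_iff_injective]
      intro (x : X ⟶ S.X₁) (y : X ⟶ S.X₁) hxy
      replace hxy : x ≫ S.f = y ≫ S.f := hxy
      exact (cancel_mono S.f).mp hxy
    · rw [ModuleCat.epi_iff_surjective]
      intro (y : X ⟶ S.X₃)
      exact ⟨Projective.factorThru y S.g, Projective.factorThru_comp y S.g⟩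
  exact hT.op

variable (hS : S.ShortExact)

/-- The connecting morphism `Ext^n(X, S.X₃) ⟶ Ext^(n+1)(X, S.X₁)`. -/
noncomputable def extδ (X : C) (n : ℕ) :
    ((Ext R C n).obj (op X)).obj S.X₃ ⟶ ((Ext R C (n + 1)).obj (op X)).obj S.X₁ :=
  (DerivedLES.δ (FYmap R S.g) (FYmap R S.f) (w S) (hex S hS) X n).unop

lemma extδ_naturality {X X' : C} (f : X ⟶ X') (n : ℕ) :
    ((Ext R C n).map f.op).app S.X₃ ≫ extδ (R := R) S hS X n =
      extδ S hS X' n ≫ ((Ext R C (n + 1)).map f.op).app S.X₁ :=
  congrArg Quiver.Hom.unop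
    (DerivedLES.δ_naturality (FYmap R S.g) (FYmap R S.f) (w S) (hex S hS) f n)

include hS in
lemma ext_exact₂ (X : C) (n : ℕ) :
    Function.Exact (((Ext R C n).obj (op X)).map S.f).hom
      (((Ext R C n).obj (op X)).map S.g).hom := by
  have := (DerivedLES.exact₂ (FYmap R S.g) (FYmap R S.f) (w S) (hex S hS) X n).unop
  exact (ShortComplex.ShortExact.moduleCat_exact_iff_function_exact _).mp this

lemma ext_exact₃ (X : C) (n : ℕ) :
    Function.Exact (((Ext R C n).obj (op X)).map S.g).hom (extδ (R := R) S hS X n).hom := by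
  have := (DerivedLES.exact₁ (FYmap R S.g) (FYmap R S.f) (w S) (hex S hS) X n).unop
  exact (ShortComplex.ShortExact.moduleCat_exact_iff_function_exact _).mp this

lemma ext_exact₁ (X : C) (n : ℕ) :
    Function.Exact (extδ (R := R) S hS X n).hom
      (((Ext R C (n + 1)).obj (op X)).map S.f).hom := by
  have := (DerivedLES.exact₃ (FYmap R S.g) (FYmap R S.f) (w S) (hex S hS) X n).unop
  exact (ShortComplex.ShortExact.moduleCat_exact_iff_function_exact _).mp this

end Groth.Agent.H13.ExtLES
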