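import Mathlib.CategoryTheory.FiberedCategory.Fibered

set_option autoImplicit false
open CategoryTheory
universe v₁ u₁ v₂ u₂ v₃ u₃

namespace Groth.Agent.H13

variable {𝒜 : Type u₁} [Category.{v₁} 𝒜] {ℬ : Type u₂} [Category.{v₂} ℬ] {𝒞 : Type u₃} [Category.{v₃} 𝒞]

theorem isHomLift_comp_iff (Q : 𝒜 ⥤ ℬ) (P : ℬ ⥤ 𝒞) {R S : 𝒞} (f : R ⟶ S) {a b : 𝒜} (φ : a ⟶ b) :
    (Q ⋙ P).IsHomLift f φ ↔ P.IsHomLift f (Q.map φ) := by
  constructor
  · intro h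
    obtain ⟨⟩ := h
    exact IsHomLift.map P (Q.map φ)
  · intro h
    have ha : P.obj (Q.obj a) = R := IsHomLift.domain_eq P f (Q.map φ)
    have hb : P.obj (Q.obj b) = S := IsHomLift.codomain_eq P f (Q.map φ)
    subst ha hb
    obtain rfl := IsHomLift.eq_of_isHomLift P f (Q.map φ)
    exact IsHomLift.map (Q ⋙ P) φ

end Groth.Agent.H13
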