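import Groth.Prelude.Def_FibCat2
import Groth.Agent.H13.HomLiftComp

set_option autoImplicit false
open CategoryTheory
universe v₂ u₂ v u

namespace Groth.Agent.H13

variable {C : Type u} [Category.{v} C] {𝒳 : Type u₂} [Category.{v₂} 𝒳] {p : 𝒳 ⥤ C}

theorem FibGrpd.exists_lift' (h : FibCat.IsFibGrpd p) {x : 𝒳} {S V : C} (hS : p.obj x = S)
    (f : V ⟶ S) : ∃ (y : 𝒳) (φ : y ⟶ x), p.IsHomLift f φ := by
  subst hS
  exact h.exists_lift f

theorem FibGrpd.isStronglyCartesian' (h : FibCat.IsFibGrpd p) {R S : C} (f : R ⟶ S) {a b : 𝒳}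
    (φ : a ⟶ b) [hl : p.IsHomLift f φ] : p.IsStronglyCartesian f φ := by
  obtain ⟨⟩ := hl
  exact h.isStronglyCartesian φ

theorem FibGrpd.isIso_of_lift_id (h : FibCat.IsFibGrpd p) {S : C} {a b : 𝒳}
    (φ : a ⟶ b) [hl : p.IsHomLift (𝟙 S) φ] : IsIso φ := by
  have := FibGrpd.isStronglyCartesian' h (𝟙 S) φ
  exact Functor.IsStronglyCartesian.isIso_of_base_isIso p (𝟙 S) φ

theorem FibGrpd.isFibered (h : FibCat.IsFibGrpd p) : p.IsFibered := by
  apply Functor.IsFibered.of_exists_isStronglyCartesian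
  intro a R f
  obtain ⟨b, φ, hφ⟩ := h.exists_lift f
  exact ⟨b, φ, FibGrpd.isStronglyCartesian' h f φ⟩


/-- In a category fibred in setoids, two morphisms lying over the same morphism are equal. -/
theorem FibSetoid.hom_ext_of_lift (h : FibCat.IsFibSetoid p) {R S : C} (u : R ⟶ S) {a b : 𝒳}
    (m₁ m₂ : a ⟶ b) [h1 : p.IsHomLift u m₁] [h2 : p.IsHomLift u m₂] : m₁ = m₂ := by
  have hsc : p.IsStronglyCartesian u m₂ := FibGrpd.isStronglyCartesian' h.1 u m₂
  have hu : u = 𝟙 R ≫ u := (Category.id_comp u).symm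
  let χ : a ⟶ a := Functor.IsStronglyCartesian.map p u m₂ hu m₁
  have hχ : p.IsHomLift (𝟙 R) χ := inferInstance
  have hfac : χ ≫ m₂ = m₁ := Functor.IsStronglyCartesian.fac p u m₂ hu m₁
  have ha : p.obj a = R := IsHomLift.domain_eq p u m₁
  have hid : p.IsHomLift (𝟙 R) (𝟙 a) := IsHomLift.id ha
  have hthin := h.2 R
  let a' : p.Fiber R := ⟨a, ha⟩
  let χ' : a' ⟶ a' := ⟨χ, hχ⟩
  let i' : a' ⟶ a' := ⟨𝟙 a, hid⟩
  have : χ' = i' := @Subsingleton.elim _ (hthin a' a') χ' i'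
  have hχ1 : χ = 𝟙 a := congrArg Subtype.val this
  rw [← hfac, hχ1, Category.id_comp]

end Groth.Agent.H13
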