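import Mathlib.CategoryTheory.Limits.Constructions.FiniteProductsOfBinaryProducts
import Mathlib.CategoryTheory.Limits.Constructions.LimitsOfProductsAndEqualizers
import Mathlib.CategoryTheory.FinCategory.Basic

set_option autoImplicit false
open CategoryTheory CategoryTheory.Limits
universe w v u

namespace Groth.Agent.H13

variable {C : Type u} [Category.{v} C]

/-- With binary products, products indexed by `Fin (n+1)` exist. -/
theorem hasProduct_fin_succ [HasBinaryProducts C] : ∀ (n : ℕ) (f : Fin (n + 1) → C), HasProduct f
  | 0 => fun f => by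
    have : Subsingleton (Fin (0 + 1)) := ⟨fun a b => Subsingleton.elim (α := Fin 1) a b⟩
    have : Nonempty (Fin (0 + 1)) := ⟨0⟩
    infer_instance
  | n + 1 => fun f =>
    have := hasProduct_fin_succ n
    HasLimit.mk ⟨_, extendFanIsLimit f (limit.isLimit _) (limit.isLimit _)⟩

theorem hasLimitsOfShape_discrete_fin_succ [HasBinaryProducts C] (n : ℕ) :
    HasLimitsOfShape (Discrete (Fin (n + 1))) C :=
  ⟨fun K => by
    let that : (Discrete.functor fun n => K.obj ⟨n⟩) ≅ K := Discrete.natIso fun ⟨_⟩ => Iso.refl _
    rw [← hasLimit_iff_of_iso that]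
    apply hasProduct_fin_succ⟩

/-- With binary products, all finite nonempty products exist. -/
theorem hasLimitsOfShape_discrete_of_finite_nonempty [HasBinaryProducts C] (ι : Type w) [Finite ι]
    [Nonempty ι] : HasLimitsOfShape (Discrete ι) C := by
  obtain ⟨n, ⟨e⟩⟩ := Finite.exists_equiv_fin ι
  obtain ⟨m, rfl⟩ : ∃ m, n = m + 1 := by
    rcases n with _ | m
    · exact (IsEmpty.false (e (Classical.arbitrary ι))).elim
    · exact ⟨m, rfl⟩
  have := hasLimitsOfShape_discrete_fin_succ (C := C) m
  exact hasLimitsOfShape_of_equivalence (Discrete.equivalence e.symm)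

/-- Binary products and equalizers give all finite nonempty limits. -/
theorem hasLimitsOfShape_of_finCategory_nonempty [HasBinaryProducts C] [HasEqualizers C]
    (J : Type w) [SmallCategory J] [FinCategory J] [Nonempty J] : HasLimitsOfShape J C := by
  constructor
  intro F
  have : Finite J := Finite.of_fintype J
  have := hasLimitsOfShape_discrete_of_finite_nonempty (C := C) J
  have : Nonempty (Σ p : J × J, p.1 ⟶ p.2) := ⟨⟨⟨Classical.arbitrary J, Classical.arbitrary J⟩, 𝟙 _⟩⟩
  have : Finite (Σ p : J × J, p.1 ⟶ p.2) := Finite.of_fintype _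
  have := hasLimitsOfShape_discrete_of_finite_nonempty (C := C) (Σ p : J × J, p.1 ⟶ p.2)
  exact hasLimit_of_equalizer_and_product F

end Groth.Agent.H13
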