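import Mathlib
import Groth.Agent.H10.FlatLemmas

/-!
# Tor of modules via syzygies of a flat resolution (helper for S3527, S12205)
-/

set_option autoImplicit false
universe u

namespace Groth.Agent.H13.TorFlat

open TensorProduct CategoryTheory

variable {A : Type u} [CommRing A]

theorem lTensor_injective_of_flat_coker {M₁ M₂ M₃ : Type u} [AddCommGroup M₁] [Module A M₁]
    [AddCommGroup M₂] [Module A M₂] [AddCommGroup M₃] [Module A M₃]
    (f : M₁ →ₗ[A] M₂) (g : M₂ →ₗ[A] M₃) (hf : Function.Injective f) (hex : Function.Exact f g)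
    (hg : Function.Surjective g) [Module.Flat A M₃] (N : Type u) [AddCommGroup N] [Module A N] :
    Function.Injective (f.lTensor N) :=
  (f.lTensor_inj_iff_rTensor_inj N).2
    (Groth.Agent.H10.rTensor_injective_of_flat_coker f g hf hex hg N)

theorem subtype_comp_rangeRestrict {X Y : Type u} [AddCommGroup X] [Module A X] [AddCommGroup Y]
    [Module A Y] (f : X →ₗ[A] Y) : (LinearMap.range f).subtype ∘ₗ f.rangeRestrict = f :=
  LinearMap.ext fun _ => rfl

/-- `Y ⊗ -` applied to `X₂ → X₁ → X₀` is exact in the middle iff `Y ⊗ range d₀ → Y ⊗ X₀` is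
injective. -/
theorem exact_iff_injective {X₂ X₁ X₀ : Type u} [AddCommGroup X₂] [Module A X₂]
    [AddCommGroup X₁] [Module A X₁] [AddCommGroup X₀] [Module A X₀]
    (d₁ : X₂ →ₗ[A] X₁) (d₀ : X₁ →ₗ[A] X₀) (h : Function.Exact d₁ d₀)
    (Y : Type u) [AddCommGroup Y] [Module A Y] :
    Function.Exact (d₁.lTensor Y) (d₀.lTensor Y) ↔
      Function.Injective ((LinearMap.range d₀).subtype.lTensor Y) := by
  have hex : Function.Exact (d₁.lTensor Y) (d₀.rangeRestrict.lTensor Y) :=
    lTensor_exact Y (by
      rw [LinearMap.exact_iff, LinearMap.ker_rangeRestrict]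
      exact LinearMap.exact_iff.1 h) (LinearMap.surjective_rangeRestrict _)
  have hsurj : Function.Surjective (d₀.rangeRestrict.lTensor Y) :=
    LinearMap.lTensor_surjective Y (LinearMap.surjective_rangeRestrict _)
  have hcomp : ∀ x, (d₀.lTensor Y) x =
      ((LinearMap.range d₀).subtype.lTensor Y) ((d₀.rangeRestrict.lTensor Y) x) := by
    intro x
    rw [← LinearMap.comp_apply, ← LinearMap.lTensor_comp, subtype_comp_rangeRestrict]
  constructor
  · intro hE
    rw [injective_iff_map_eq_zero]
    intro z hz
    obtain ⟨x, rfl⟩ := hsurj z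
    rw [← hcomp] at hz
    exact (hex x).2 ((hE x).1 hz)
  · intro hinj x
    rw [← hex x, hcomp]
    constructor
    · intro h1
      exact hinj (h1.trans (map_zero _).symm)
    · intro h1
      rw [h1, map_zero]

section Resolution

variable (X : ℕ → Type u) [∀ n, AddCommGroup (X n)] [∀ n, Module A (X n)]
  (d : ∀ n, X (n + 1) →ₗ[A] X n) {M : Type u} [AddCommGroup M] [Module A M]
  (ε : X 0 →ₗ[A] M)

theorem exact_subtype_zero (h0 : Function.Exact (d 0) ε) :
    Function.Exact (LinearMap.range (d 0)).subtype ε := by
  rw [LinearMap.exact_iff, Submodule.range_subtype]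
  exact LinearMap.exact_iff.1 h0

theorem exact_subtype_succ (n : ℕ) (hd : Function.Exact (d (n + 1)) (d n)) :
    Function.Exact (LinearMap.range (d (n + 1))).subtype (d n).rangeRestrict := by
  rw [LinearMap.exact_iff, Submodule.range_subtype, LinearMap.ker_rangeRestrict]
  exact LinearMap.exact_iff.1 hd

theorem flat_range [∀ n, Module.Flat A (X n)] [Module.Flat A M] (hε : Function.Surjective ε)
    (h0 : Function.Exact (d 0) ε) (hd : ∀ n, Function.Exact (d (n + 1)) (d n)) (n : ℕ) :
    Module.Flat A (LinearMap.range (d n)) := by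
  induction n with
  | zero =>
    exact Groth.Agent.H10.flat_of_exact_of_flat_flat (LinearMap.range (d 0)).subtype ε
      (Submodule.injective_subtype _) (exact_subtype_zero X d ε h0) hε
  | succ n ih =>
    have := ih
    exact Groth.Agent.H10.flat_of_exact_of_flat_flat (LinearMap.range (d (n + 1))).subtype
      (d n).rangeRestrict (Submodule.injective_subtype _) (exact_subtype_succ X d n (hd n))
      (LinearMap.surjective_rangeRestrict _)

theorem lTensor_subtype_range_injective [∀ n, Module.Flat A (X n)] [Module.Flat A M]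
    (hε : Function.Surjective ε)
    (h0 : Function.Exact (d 0) ε) (hd : ∀ n, Function.Exact (d (n + 1)) (d n))
    (N : Type u) [AddCommGroup N] [Module A N] (n : ℕ) :
    Function.Injective ((LinearMap.range (d n)).subtype.lTensor N) := by
  cases n with
  | zero =>
    exact lTensor_injective_of_flat_coker _ ε (Submodule.injective_subtype _)
      (exact_subtype_zero X d ε h0) hε N
  | succ n =>
    have := flat_range X d ε hε h0 hd n
    exact lTensor_injective_of_flat_coker _ (d n).rangeRestrict (Submodule.injective_subtype _)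
      (exact_subtype_succ X d n (hd n)) (LinearMap.surjective_rangeRestrict _) N

/-- Tensoring a flat resolution of a flat module with any module stays exact. -/
theorem lTensor_exact_resolution [∀ n, Module.Flat A (X n)] [Module.Flat A M]
    (hε : Function.Surjective ε)
    (h0 : Function.Exact (d 0) ε) (hd : ∀ n, Function.Exact (d (n + 1)) (d n))
    (N : Type u) [AddCommGroup N] [Module A N] (n : ℕ) :
    Function.Exact ((d (n + 1)).lTensor N) ((d n).lTensor N) :=
  (exact_iff_injective (d (n + 1)) (d n) (hd n) N).2
    (lTensor_subtype_range_injective X d ε hε h0 hd N n)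

end Resolution

/-! ## Bridge to Mathlib's `Tor` -/

section Bridge

variable {M : Type u} [AddCommGroup M] [Module A M]
  (P : ProjectiveResolution (ModuleCat.of A M))

/-- the differentials as linear maps -/
noncomputable def dd (n : ℕ) : (P.complex.X (n + 1)) →ₗ[A] (P.complex.X n) :=
  (P.complex.d (n + 1) n).hom

/-- the augmentation as a linear map -/
noncomputable def aug : (P.complex.X 0) →ₗ[A] M :=
  ModuleCat.Hom.hom (show P.complex.X 0 ⟶ ModuleCat.of A M from P.π.f 0)

theorem aug_surjective : Function.Surjective (aug P) := by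
  have h : Epi (show P.complex.X 0 ⟶ ModuleCat.of A M from P.π.f 0) :=
    inferInstanceAs (Epi (P.π.f 0))
  exact (ModuleCat.epi_iff_surjective _).1 h

theorem exact_aug : Function.Exact (dd P 0) (aug P) := by
  have h := (ShortComplex.mk (P.complex.d 1 0) (P.π.f 0)
    P.complex_d_comp_π_f_zero).exact_of_g_is_cokernel P.isColimitCokernelCofork
  rw [ShortComplex.moduleCat_exact_iff_range_eq_ker] at h
  exact LinearMap.exact_iff.2 h.symm

theorem exact_dd (n : ℕ) : Function.Exact (dd P (n + 1)) (dd P n) := by
  have h := P.exact_succ n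
  rw [ShortComplex.moduleCat_exact_iff_range_eq_ker] at h
  exact LinearMap.exact_iff.2 h.symm

theorem flat_X (n : ℕ) : Module.Flat A (P.complex.X n) := by
  have : Projective (ModuleCat.of A ↑(P.complex.X n)) := P.projective n
  have : Module.Projective A ↑(P.complex.X n) :=
    (IsProjective.iff_projective (R := A) ↑(P.complex.X n)).2 inferInstance
  infer_instance

/-- `Tor_{n+1}(Y, M)` vanishes iff `Y ⊗ P` is exact in degree `n + 1`. -/
theorem isZero_tor_succ_iff (Y : Type u) [AddCommGroup Y] [Module A Y] (n : ℕ) :
    Limits.IsZero (((Tor (ModuleCat.{u} A) (n + 1)).obj (ModuleCat.of A Y)).obj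
      (ModuleCat.of A M)) ↔
    Function.Exact ((dd P (n + 1)).lTensor Y) ((dd P n).lTensor Y) := by
  let F := (MonoidalCategory.tensoringLeft (ModuleCat.{u} A)).obj (ModuleCat.of A Y)
  have e := P.isoLeftDerivedObj F (n + 1)
  have h1 : Limits.IsZero (((Tor (ModuleCat.{u} A) (n + 1)).obj (ModuleCat.of A Y)).obj
      (ModuleCat.of A M)) ↔
      Limits.IsZero (((F.mapHomologicalComplex _).obj P.complex).homology (n + 1)) :=
    Iso.isZero_iff e
  rw [h1, ← HomologicalComplex.exactAt_iff_isZero_homology,
    HomologicalComplex.exactAt_iff' _ (n + 2) (n + 1) n (by simp only [ChainComplex.prev]; rfl)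
      (by simp),
    ShortComplex.moduleCat_exact_iff_range_eq_ker, LinearMap.exact_iff]
  exact eq_comm

/-- `Tor_p(N, M) = 0` for `p ≥ 1` when `M` is flat (the resolved variable). -/
theorem isZero_tor_of_flat_right (N : Type u) [AddCommGroup N] [Module A N]
    (M : Type u) [AddCommGroup M] [Module A M] [Module.Flat A M] (p : ℕ) (hp : 0 < p) :
    Limits.IsZero (((Tor (ModuleCat.{u} A) p).obj (ModuleCat.of A N)).obj (ModuleCat.of A M)) := by
  obtain ⟨n, rfl⟩ := Nat.exists_eq_succ_of_ne_zero hp.ne'
  let P : ProjectiveResolution (ModuleCat.of A M) := ProjectiveResolution.of _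
  rw [isZero_tor_succ_iff P N n]
  have : ∀ n, Module.Flat A ↑(P.complex.X n) := flat_X P
  exact lTensor_exact_resolution (fun n => ↑(P.complex.X n)) (dd P) (aug P) (aug_surjective P)
    (exact_aug P) (exact_dd P) N n

end Bridge

end Groth.Agent.H13.TorFlat
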