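import Mathlib
import Groth.Agent.H13.TorFlat

/-!
# Balancing of Tor (helper for S3535)
-/

set_option autoImplicit false
universe u

namespace Groth.Agent.H13.TorBal

open TensorProduct CategoryTheory Function

variable {A : Type u} [CommRing A]

section Balance

variable {K F X L G Y : Type u}
  [AddCommGroup K] [Module A K] [AddCommGroup F] [Module A F] [AddCommGroup X] [Module A X]
  [AddCommGroup L] [Module A L] [AddCommGroup G] [Module A G] [AddCommGroup Y] [Module A Y]

/-- Tor₁ balance: for short exact sequences `0 → K → F → X → 0` and `0 → L → G → Y → 0` with `F`, `G`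
flat, `ker (K ⊗ Y → F ⊗ Y) ≃ ker (X ⊗ L → X ⊗ G)`. -/
theorem balance (i : K →ₗ[A] F) (p : F →ₗ[A] X) (hi : Injective i) (hp : Surjective p)
    (hip : Exact i p) (i' : L →ₗ[A] G) (p' : G →ₗ[A] Y) (hi' : Injective i') (hp' : Surjective p')
    (hip' : Exact i' p') [Module.Flat A F] [Module.Flat A G] :
    Nonempty (LinearMap.ker (i.rTensor Y) ≃ₗ[A] LinearMap.ker (i'.lTensor X)) := by
  have hf : Exact (i.rTensor L) (p.rTensor L) := rTensor_exact L hip hp
  have hg : Exact (i.rTensor G) (p.rTensor G) := rTensor_exact G hip hp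
  have h₁ : (i.rTensor G).comp (i'.lTensor K) = (i'.lTensor F).comp (i.rTensor L) := by
    rw [LinearMap.rTensor_comp_lTensor, LinearMap.lTensor_comp_rTensor]
  have h₂ : (p.rTensor G).comp (i'.lTensor F) = (i'.lTensor X).comp (p.rTensor L) := by
    rw [LinearMap.rTensor_comp_lTensor, LinearMap.lTensor_comp_rTensor]
  have hι₃ : Exact (LinearMap.ker (i'.lTensor X)).subtype (i'.lTensor X) :=
    LinearMap.exact_subtype_ker_map _
  have hπ₁ : Exact (i'.lTensor K) (p'.lTensor K) := lTensor_exact K hip' hp'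
  have hπ₂ : Exact (i'.lTensor F) (p'.lTensor F) := lTensor_exact F hip' hp'
  have hf₂ : Surjective (p.rTensor L) := LinearMap.rTensor_surjective L hp
  have hg₁ : Injective (i.rTensor G) := Module.Flat.rTensor_preserves_injective_linearMap i hi
  have hi₂ : Injective (i'.lTensor F) := Module.Flat.lTensor_preserves_injective_linearMap i' hi'
  have hι₂ : Exact (0 : PUnit.{u + 1} →ₗ[A] F ⊗[A] L) (i'.lTensor F) :=
    (LinearMap.exact_zero_iff_injective _ _).2 hi₂
  let δ := SnakeLemma.δ' (i'.lTensor K) (i'.lTensor F) (i'.lTensor X) (i.rTensor L) (p.rTensor L) hf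
    (i.rTensor G) (p.rTensor G) hg h₁ h₂ (LinearMap.ker (i'.lTensor X)).subtype hι₃
    (p'.lTensor K) hπ₁ hf₂ hg₁
  have hleft : Exact δ (i.rTensor Y) :=
    SnakeLemma.exact_δ'_left (i'.lTensor K) (i'.lTensor F) (i'.lTensor X) (i.rTensor L)
      (p.rTensor L) hf (i.rTensor G) (p.rTensor G) hg h₁ h₂
      (LinearMap.ker (i'.lTensor X)).subtype hι₃ (p'.lTensor K) hπ₁ (p'.lTensor F) hπ₂ hf₂ hg₁
      (i.rTensor Y) (by rw [LinearMap.rTensor_comp_lTensor, LinearMap.lTensor_comp_rTensor])
      (LinearMap.lTensor_surjective K hp')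
  have hright : Exact (0 : PUnit.{u + 1} →ₗ[A] LinearMap.ker (i'.lTensor X)) δ :=
    SnakeLemma.exact_δ'_right (i'.lTensor K) (i'.lTensor F) (i'.lTensor X) (i.rTensor L)
      (p.rTensor L) hf (i.rTensor G) (p.rTensor G) hg h₁ h₂ (0 : PUnit.{u + 1} →ₗ[A] F ⊗[A] L) hι₂
      (LinearMap.ker (i'.lTensor X)).subtype hι₃ (p'.lTensor K) hπ₁ hf₂ hg₁
      0 (by rw [LinearMap.comp_zero, LinearMap.comp_zero])
      (Submodule.injective_subtype _)
  have hinj : Injective δ := (LinearMap.exact_zero_iff_injective _ _).1 hright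
  have hrange : LinearMap.range δ = LinearMap.ker (i.rTensor Y) :=
    (LinearMap.exact_iff.1 hleft).symm
  exact ⟨((LinearEquiv.ofInjective δ hinj).trans (LinearEquiv.ofEq _ _ hrange)).symm⟩

end Balance

section Claim

variable (X : ℕ → Type u) [∀ n, AddCommGroup (X n)] [∀ n, Module A (X n)]
  [∀ n, Module.Flat A (X n)]
  (d : ∀ n, X (n + 1) →ₗ[A] X n) {M : Type u} [AddCommGroup M] [Module A M]
  (ε : X 0 →ₗ[A] M) (hε : Surjective ε) (h0 : Exact (d 0) ε)
  (hd : ∀ n, Exact (d (n + 1)) (d n))

include hε h0 hd in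
theorem claim (n : ℕ) : ∀ (Z : ℕ → Type u) [∀ n, AddCommGroup (Z n)] [∀ n, Module A (Z n)]
    [∀ n, Module.Flat A (Z n)] (δ : ∀ n, Z (n + 1) →ₗ[A] Z n) (N : Type u) [AddCommGroup N]
    [Module A N] (η : Z 0 →ₗ[A] N) (_ : Surjective η) (_ : Exact (δ 0) η)
    (_ : ∀ n, Exact (δ (n + 1)) (δ n)),
    Nonempty (LinearMap.ker ((LinearMap.range (d n)).subtype.rTensor N) ≃ₗ[A]
      LinearMap.ker ((LinearMap.range (δ n)).subtype.lTensor M)) := by
  induction n with
  | zero =>
    intro Z _ _ _ δ N _ _ η hη h0' hd'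
    exact balance (LinearMap.range (d 0)).subtype ε (Submodule.injective_subtype _) hε
      (TorFlat.exact_subtype_zero X d ε h0)
      (LinearMap.range (δ 0)).subtype η (Submodule.injective_subtype _) hη
      (TorFlat.exact_subtype_zero Z δ η h0')
  | succ n ih =>
    intro Z _ _ _ δ N _ _ η hη h0' hd'
    obtain ⟨e1⟩ := balance (LinearMap.range (d (n + 1))).subtype (d n).rangeRestrict
      (Submodule.injective_subtype _) (LinearMap.surjective_rangeRestrict _)
      (TorFlat.exact_subtype_succ X d n (hd n))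
      (LinearMap.range (δ 0)).subtype η (Submodule.injective_subtype _) hη
      (TorFlat.exact_subtype_zero Z δ η h0')
    have heq : LinearMap.ker ((LinearMap.range (δ 0)).subtype.lTensor (LinearMap.range (d n))) =
        LinearMap.ker ((LinearMap.range (d n)).subtype.rTensor (LinearMap.range (δ 0))) := by
      have hc : Injective ((LinearMap.range (d n)).subtype.rTensor (Z 0)) :=
        Module.Flat.rTensor_preserves_injective_linearMap _ (Submodule.injective_subtype _)
      have he : Injective ((LinearMap.range (δ 0)).subtype.lTensor (X n)) :=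
        Module.Flat.lTensor_preserves_injective_linearMap _ (Submodule.injective_subtype _)
      have hcomm : ((LinearMap.range (d n)).subtype.rTensor (Z 0)) ∘ₗ
          ((LinearMap.range (δ 0)).subtype.lTensor (LinearMap.range (d n))) =
          ((LinearMap.range (δ 0)).subtype.lTensor (X n)) ∘ₗ
          ((LinearMap.range (d n)).subtype.rTensor (LinearMap.range (δ 0))) := by
        rw [LinearMap.rTensor_comp_lTensor, LinearMap.lTensor_comp_rTensor]
      rw [← LinearMap.ker_comp_of_ker_eq_bot _ (LinearMap.ker_eq_bot.2 hc), hcomm,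
        LinearMap.ker_comp_of_ker_eq_bot _ (LinearMap.ker_eq_bot.2 he)]
    obtain ⟨e3⟩ := ih (fun k => Z (k + 1)) (fun k => δ (k + 1)) (LinearMap.range (δ 0))
      (δ 0).rangeRestrict (LinearMap.surjective_rangeRestrict _)
      (by
        rw [LinearMap.exact_iff, LinearMap.ker_rangeRestrict]
        exact LinearMap.exact_iff.1 (hd' 0))
      (fun k => hd' (k + 1))
    exact ⟨e1.trans ((LinearEquiv.ofEq _ _ heq).trans e3)⟩

end Claim

section HomEquiv

variable {U V W T : Type u} [AddCommGroup U] [Module A U] [AddCommGroup V] [Module A V]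
  [AddCommGroup W] [Module A W] [AddCommGroup T] [Module A T]

theorem homEquiv (f : U →ₗ[A] V) (g : V →ₗ[A] T) (hgf : ∀ x, f x ∈ LinearMap.ker g)
    (π : V →ₗ[A] W) (j : W →ₗ[A] T) (hπ : Surjective π) (hex : Exact f π) (hg : g = j ∘ₗ π) :
    Nonempty ((LinearMap.ker g ⧸ LinearMap.range (f.codRestrict (LinearMap.ker g) hgf)) ≃ₗ[A]
      LinearMap.ker j) := by
  have hgx : ∀ v, g v = j (π v) := fun v => by rw [hg]; rfl
  let φ : LinearMap.ker g →ₗ[A] LinearMap.ker j :=
    (π ∘ₗ (LinearMap.ker g).subtype).codRestrict (LinearMap.ker j) (fun x => by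
      rw [LinearMap.mem_ker]
      have := LinearMap.mem_ker.1 x.2
      rw [hgx] at this
      exact this)
  have hsurj : Surjective φ := by
    rintro ⟨y, hy⟩
    obtain ⟨v, rfl⟩ := hπ y
    refine ⟨⟨v, ?_⟩, rfl⟩
    rw [LinearMap.mem_ker, hgx]; exact hy
  have hker : LinearMap.range (f.codRestrict (LinearMap.ker g) hgf) = LinearMap.ker φ := by
    ext ⟨x, hx⟩
    constructor
    · rintro ⟨u, hu⟩
      have hxu : f u = x := congrArg Subtype.val hu
      rw [LinearMap.mem_ker]
      apply Subtype.ext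
      show π x = 0
      rw [← hxu]; exact hex.apply_apply_eq_zero u
    · intro h
      rw [LinearMap.mem_ker] at h
      have hπx : π x = 0 := congrArg Subtype.val h
      obtain ⟨u, hu⟩ := (hex x).1 hπx
      exact ⟨u, Subtype.ext hu⟩
  exact ⟨(Submodule.quotEquivOfEq _ _ hker).trans (φ.quotKerEquivOfSurjective hsurj)⟩

theorem sc_homology_iso (S : ShortComplex (ModuleCat.{u} A)) {W : Type u} [AddCommGroup W]
    [Module A W] (π : S.X₂ →ₗ[A] W) (j : W →ₗ[A] S.X₃) (hπ : Surjective π)
    (hex : Exact S.f.hom π) (hg : S.g.hom = j ∘ₗ π) :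
    Nonempty (S.homology ≅ ModuleCat.of A (LinearMap.ker j)) := by
  obtain ⟨e⟩ := homEquiv S.f.hom S.g.hom S.moduleCat_zero_apply π j hπ hex hg
  exact ⟨S.moduleCatHomologyIso ≪≫ e.toModuleIso⟩

theorem sc_homology_iso_zero (S : ShortComplex (ModuleCat.{u} A)) {W : Type u} [AddCommGroup W]
    [Module A W] (π : S.X₂ →ₗ[A] W) (hπ : Surjective π)
    (hex : Exact S.f.hom π) (hg : S.g.hom = 0) :
    Nonempty (S.homology ≅ ModuleCat.of A W) := by
  obtain ⟨e⟩ := sc_homology_iso S π (0 : W →ₗ[A] S.X₃) hπ hex (by rw [hg, LinearMap.zero_comp])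
  have e2 : LinearMap.ker (0 : W →ₗ[A] S.X₃) ≃ₗ[A] W :=
    (LinearEquiv.ofEq _ ⊤ LinearMap.ker_zero).trans Submodule.topEquiv
  exact ⟨e ≪≫ e2.toModuleIso⟩

end HomEquiv

section Bridge

variable {M : ModuleCat.{u} A} (P : ProjectiveResolution M)

/-- the differentials as linear maps -/
noncomputable def dd (n : ℕ) : (P.complex.X (n + 1)) →ₗ[A] (P.complex.X n) :=
  (P.complex.d (n + 1) n).hom

/-- the augmentation as a linear map -/
noncomputable def aug : (P.complex.X 0) →ₗ[A] M :=
  ModuleCat.Hom.hom (show P.complex.X 0 ⟶ M from P.π.f 0)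

theorem aug_surjective : Surjective (aug P) := by
  have h : Epi (show P.complex.X 0 ⟶ M from P.π.f 0) :=
    inferInstanceAs (Epi (P.π.f 0))
  exact (ModuleCat.epi_iff_surjective _).1 h

theorem exact_aug : Exact (dd P 0) (aug P) := by
  have h := (ShortComplex.mk (P.complex.d 1 0) (P.π.f 0)
    P.complex_d_comp_π_f_zero).exact_of_g_is_cokernel P.isColimitCokernelCofork
  rw [ShortComplex.moduleCat_exact_iff_range_eq_ker] at h
  exact LinearMap.exact_iff.2 h.symm

theorem exact_dd (n : ℕ) : Exact (dd P (n + 1)) (dd P n) := by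
  have h := P.exact_succ n
  rw [ShortComplex.moduleCat_exact_iff_range_eq_ker] at h
  exact LinearMap.exact_iff.2 h.symm

theorem flat_X (n : ℕ) : Module.Flat A (P.complex.X n) := by
  have : Projective (ModuleCat.of A ↑(P.complex.X n)) := P.projective n
  have : Module.Projective A ↑(P.complex.X n) :=
    (IsProjective.iff_projective (R := A) ↑(P.complex.X n)).2 inferInstance
  infer_instance

end Bridge

theorem main (M N : ModuleCat.{u} A) (P : ProjectiveResolution M) (n : ℕ) :
    Nonempty (((Tor (ModuleCat.{u} A) n).obj M).obj N ≅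
      (((MonoidalCategory.tensorRight N).mapHomologicalComplex
        (ComplexShape.down ℕ)).obj P.complex).homology n) := by
  let Q : ProjectiveResolution N := ProjectiveResolution.of N
  let FL := (MonoidalCategory.tensoringLeft (ModuleCat.{u} A)).obj M
  let KL := (FL.mapHomologicalComplex (ComplexShape.down ℕ)).obj Q.complex
  let KR := ((MonoidalCategory.tensorRight N).mapHomologicalComplex
    (ComplexShape.down ℕ)).obj P.complex
  have e0 : ((Tor (ModuleCat.{u} A) n).obj M).obj N ≅ KL.homology n := Q.isoLeftDerivedObj FL n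
  suffices h : Nonempty (KL.homology n ≅ KR.homology n) by
    obtain ⟨e⟩ := h; exact ⟨e0 ≪≫ e⟩
  have : ∀ n, Module.Flat A ↑(P.complex.X n) := flat_X P
  have : ∀ n, Module.Flat A ↑(Q.complex.X n) := flat_X Q
  cases n with
  | zero =>
    have eL := KL.homologyIsoSc' 1 0 0 (by simp) (by simp)
    have eR := KR.homologyIsoSc' 1 0 0 (by simp) (by simp)
    obtain ⟨eL'⟩ := sc_homology_iso_zero (KL.sc' 1 0 0) (W := ↑M ⊗[A] ↑N) ((aug Q).lTensor M)
      (LinearMap.lTensor_surjective _ (aug_surjective Q))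
      (lTensor_exact M (exact_aug Q) (aug_surjective Q))
      (by
        show (KL.d 0 0).hom = 0
        rw [KL.shape 0 0 (by simp)]; rfl)
    obtain ⟨eR'⟩ := sc_homology_iso_zero (KR.sc' 1 0 0) (W := ↑M ⊗[A] ↑N) ((aug P).rTensor N)
      (LinearMap.rTensor_surjective _ (aug_surjective P))
      (rTensor_exact N (exact_aug P) (aug_surjective P))
      (by
        show (KR.d 0 0).hom = 0
        rw [KR.shape 0 0 (by simp)]; rfl)
    exact ⟨eL ≪≫ eL' ≪≫ eR'.symm ≪≫ eR.symm⟩
  | succ n =>
    have eL := KL.homologyIsoSc' (n + 2) (n + 1) n (by simp) (by simp)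
    have eR := KR.homologyIsoSc' (n + 2) (n + 1) n (by simp) (by simp)
    obtain ⟨eL'⟩ := sc_homology_iso (KL.sc' (n + 2) (n + 1) n)
      ((dd Q n).rangeRestrict.lTensor M) ((LinearMap.range (dd Q n)).subtype.lTensor M)
      (LinearMap.lTensor_surjective _ (LinearMap.surjective_rangeRestrict _))
      (lTensor_exact M (f := dd Q (n + 1)) (g := (dd Q n).rangeRestrict) (by
          rw [LinearMap.exact_iff, LinearMap.ker_rangeRestrict]
          exact LinearMap.exact_iff.1 (exact_dd Q n)) (LinearMap.surjective_rangeRestrict _))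
      (by
        have h : LinearMap.lTensor (↑M) (dd Q n) = (LinearMap.range (dd Q n)).subtype.lTensor ↑M ∘ₗ
            (dd Q n).rangeRestrict.lTensor ↑M := by
          rw [← LinearMap.lTensor_comp, TorFlat.subtype_comp_rangeRestrict]
        exact h)
    obtain ⟨eR'⟩ := sc_homology_iso (KR.sc' (n + 2) (n + 1) n)
      ((dd P n).rangeRestrict.rTensor N) ((LinearMap.range (dd P n)).subtype.rTensor N)
      (LinearMap.rTensor_surjective _ (LinearMap.surjective_rangeRestrict _))
      (rTensor_exact N (f := dd P (n + 1)) (g := (dd P n).rangeRestrict) (by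
          rw [LinearMap.exact_iff, LinearMap.ker_rangeRestrict]
          exact LinearMap.exact_iff.1 (exact_dd P n)) (LinearMap.surjective_rangeRestrict _))
      (by
        have h : LinearMap.rTensor (↑N) (dd P n) = (LinearMap.range (dd P n)).subtype.rTensor ↑N ∘ₗ
            (dd P n).rangeRestrict.rTensor ↑N := by
          rw [← LinearMap.rTensor_comp, TorFlat.subtype_comp_rangeRestrict]
        exact h)
    obtain ⟨ec⟩ := claim (fun n => ↑(P.complex.X n)) (dd P) (aug P) (aug_surjective P)
      (exact_aug P) (exact_dd P) n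
      (fun n => ↑(Q.complex.X n)) (dd Q) N (aug Q) (aug_surjective Q) (exact_aug Q) (exact_dd Q)
    exact ⟨eL ≪≫ eL' ≪≫ ec.symm.toModuleIso ≪≫ eR'.symm ≪≫ eR.symm⟩

end Groth.Agent.H13.TorBal
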