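import Mathlib
import Groth.Agent.H13.TorBal

/-!
# Flat resolutions compute Tor (helper13)

For a chain complex `F` of flat modules with a quasi-isomorphism `φ : F ⟶ M[0]`, the homology of
`F ⊗ N` does not depend on the flat resolution.
-/

set_option autoImplicit false
universe u

namespace Groth.Agent.H13.FlatRes

open TensorProduct CategoryTheory Function Category Limits ChainComplex HomologicalComplex

variable {A : Type u} [CommRing A] {M : ModuleCat.{u} A} (F : ChainComplex (ModuleCat.{u} A) ℕ)
  (φ : F ⟶ (ChainComplex.single₀ (ModuleCat.{u} A)).obj M) [QuasiIso φ]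

/-- the differentials as linear maps -/
noncomputable def dd (n : ℕ) : (F.X (n + 1)) →ₗ[A] (F.X n) :=
  (F.d (n + 1) n).hom

/-- the augmentation as a linear map -/
noncomputable def aug : (F.X 0) →ₗ[A] M :=
  ModuleCat.Hom.hom (show F.X 0 ⟶ M from φ.f 0)

include φ in
lemma exactAt_succ (n : ℕ) : F.ExactAt (n + 1) := by
  rw [← quasiIsoAt_iff_exactAt' φ (n + 1) (exactAt_succ_single_obj _ _)]
  infer_instance

include φ in
lemma exact_succ (n : ℕ) :
    (ShortComplex.mk _ _ (F.d_comp_d (n + 2) (n + 1) n)).Exact :=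
  ((HomologicalComplex.exactAt_iff' _ (n + 2) (n + 1) n) (by simp only [ChainComplex.prev]; rfl)
    (by simp)).1 (exactAt_succ F φ n)

omit [QuasiIso φ] in
theorem d_comp_f_zero : F.d 1 0 ≫ φ.f 0 = 0 := by
  rw [← φ.comm 1 0, single_obj_d, Limits.comp_zero]

/-- cokernel cofork -/
@[simp]
noncomputable def cokernelCofork : CokernelCofork (F.d 1 0) :=
  CokernelCofork.ofπ _ (d_comp_f_zero F φ)

set_option backward.isDefEq.respectTransparency.types false in
set_option backward.defeqAttrib.useBackward true in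
/-- `M` is the cokernel of `F.X 1 ⟶ F.X 0`. -/
noncomputable def isColimitCokernelCofork : IsColimit (cokernelCofork F φ) := by
  refine IsColimit.ofIsoColimit (F.opcyclesIsCokernel 1 0 (by simp)) ?_
  refine Cofork.ext (F.isoHomologyι₀.symm ≪≫ isoOfQuasiIsoAt φ 0 ≪≫
    singleObjHomologySelfIso _ _ _) ?_
  rw [← cancel_mono (singleObjHomologySelfIso (ComplexShape.down ℕ) 0 _).inv,
    ← cancel_mono (isoHomologyι₀ _).hom]
  dsimp
  simp only [isoHomologyι₀_inv_naturality_assoc, p_opcyclesMap_assoc, single₀_obj_zero,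
    Category.assoc,
    Iso.hom_inv_id, Category.comp_id, isoHomologyι_inv_hom_id,
    singleObjHomologySelfIso_inv_homologyι,
    singleObjOpcyclesSelfIso_hom, single₀ObjXSelf, Iso.refl_inv, Category.id_comp]

theorem epi_f_zero : Epi (φ.f 0) :=
  epi_of_isColimit_cofork (isColimitCokernelCofork F φ)

theorem aug_surjective : Surjective (aug F φ) := by
  have h : Epi (show F.X 0 ⟶ M from φ.f 0) := epi_f_zero F φ
  exact (ModuleCat.epi_iff_surjective _).1 h

theorem exact_aug : Exact (dd F 0) (aug F φ) := by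
  have h := (ShortComplex.mk (F.d 1 0) (φ.f 0)
    (d_comp_f_zero F φ)).exact_of_g_is_cokernel (isColimitCokernelCofork F φ)
  rw [ShortComplex.moduleCat_exact_iff_range_eq_ker] at h
  exact LinearMap.exact_iff.2 h.symm

include φ in
theorem exact_dd (n : ℕ) : Exact (dd F (n + 1)) (dd F n) := by
  have h := exact_succ F φ n
  rw [ShortComplex.moduleCat_exact_iff_range_eq_ker] at h
  exact LinearMap.exact_iff.2 h.symm

include φ in
theorem homology_zero (N : ModuleCat.{u} A) :
    Nonempty ((((MonoidalCategory.tensorRight N).mapHomologicalComplex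
        (ComplexShape.down ℕ)).obj F).homology 0 ≅ ModuleCat.of A (↑M ⊗[A] ↑N)) := by
  let KR := ((MonoidalCategory.tensorRight N).mapHomologicalComplex
    (ComplexShape.down ℕ)).obj F
  have eR := KR.homologyIsoSc' 1 0 0 (by simp) (by simp)
  obtain ⟨eR'⟩ := TorBal.sc_homology_iso_zero (KR.sc' 1 0 0) (W := ↑M ⊗[A] ↑N)
      ((aug F φ).rTensor N)
      (LinearMap.rTensor_surjective _ (aug_surjective F φ))
      (rTensor_exact N (exact_aug F φ) (aug_surjective F φ))
      (by
        show (KR.d 0 0).hom = 0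
        rw [KR.shape 0 0 (by simp)]; rfl)
  exact ⟨eR ≪≫ eR'⟩

include φ in
theorem homology_succ (N : ModuleCat.{u} A) (n : ℕ) :
    Nonempty ((((MonoidalCategory.tensorRight N).mapHomologicalComplex
        (ComplexShape.down ℕ)).obj F).homology (n + 1) ≅
      ModuleCat.of A (LinearMap.ker ((LinearMap.range (dd F n)).subtype.rTensor N))) := by
  let KR := ((MonoidalCategory.tensorRight N).mapHomologicalComplex
    (ComplexShape.down ℕ)).obj F
  have eR := KR.homologyIsoSc' (n + 2) (n + 1) n (by simp) (by simp)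
  obtain ⟨eR'⟩ := TorBal.sc_homology_iso (KR.sc' (n + 2) (n + 1) n)
      ((dd F n).rangeRestrict.rTensor N) ((LinearMap.range (dd F n)).subtype.rTensor N)
      (LinearMap.rTensor_surjective _ (LinearMap.surjective_rangeRestrict _))
      (rTensor_exact N (f := dd F (n + 1)) (g := (dd F n).rangeRestrict) (by
          rw [LinearMap.exact_iff, LinearMap.ker_rangeRestrict]
          exact LinearMap.exact_iff.1 (exact_dd F φ n)) (LinearMap.surjective_rangeRestrict _))
      (by
        have h : LinearMap.rTensor (↑N) (dd F n) =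
            (LinearMap.range (dd F n)).subtype.rTensor ↑N ∘ₗ
            (dd F n).rangeRestrict.rTensor ↑N := by
          rw [← LinearMap.rTensor_comp, TorFlat.subtype_comp_rangeRestrict]
        exact h)
  exact ⟨eR ≪≫ eR'⟩

include φ in
/-- Two flat resolutions of `M` give the same homology after tensoring with `N`. -/
theorem homology_iso (F' : ChainComplex (ModuleCat.{u} A) ℕ)
    (φ' : F' ⟶ (ChainComplex.single₀ (ModuleCat.{u} A)).obj M) [QuasiIso φ']
    (hF : ∀ n, Module.Flat A (F.X n)) (hF' : ∀ n, Module.Flat A (F'.X n))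
    (N : ModuleCat.{u} A) (n : ℕ) :
    Nonempty ((((MonoidalCategory.tensorRight N).mapHomologicalComplex
        (ComplexShape.down ℕ)).obj F).homology n ≅
      (((MonoidalCategory.tensorRight N).mapHomologicalComplex
        (ComplexShape.down ℕ)).obj F').homology n) := by
  cases n with
  | zero =>
    obtain ⟨e⟩ := homology_zero F φ N
    obtain ⟨e'⟩ := homology_zero F' φ' N
    exact ⟨e ≪≫ e'.symm⟩
  | succ n =>
    obtain ⟨e⟩ := homology_succ F φ N n
    obtain ⟨e'⟩ := homology_succ F' φ' N n
    let Q : ProjectiveResolution N := ProjectiveResolution.of N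
    have : ∀ n, Module.Flat A ↑(Q.complex.X n) := TorBal.flat_X Q
    have : ∀ n, Module.Flat A ↑(F.X n) := hF
    have : ∀ n, Module.Flat A ↑(F'.X n) := hF'
    obtain ⟨c⟩ := TorBal.claim (fun n => ↑(F.X n)) (dd F) (aug F φ) (aug_surjective F φ)
      (exact_aug F φ) (exact_dd F φ) n
      (fun n => ↑(Q.complex.X n)) (TorBal.dd Q) N (TorBal.aug Q) (TorBal.aug_surjective Q)
      (TorBal.exact_aug Q) (TorBal.exact_dd Q)
    obtain ⟨c'⟩ := TorBal.claim (fun n => ↑(F'.X n)) (dd F') (aug F' φ') (aug_surjective F' φ')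
      (exact_aug F' φ') (exact_dd F' φ') n
      (fun n => ↑(Q.complex.X n)) (TorBal.dd Q) N (TorBal.aug Q) (TorBal.aug_surjective Q)
      (TorBal.exact_aug Q) (TorBal.exact_dd Q)
    exact ⟨e ≪≫ (c.trans c'.symm).toModuleIso ≪≫ e'.symm⟩

end Groth.Agent.H13.FlatRes
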