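import Groth.Prelude.Def_FibCat2
import Groth.Agent.H13.FibGrpd

set_option autoImplicit false
set_option backward.isDefEq.respectTransparency false
open CategoryTheory CategoryTheory.Limits
universe v₄ u₄ v₃ u₃ v₂ u₂ v u

namespace Groth.Agent.H13

variable {C : Type u} [Category.{v} C] {𝒳 : BasedCategory.{v₂, u₂} C} {𝒴 : BasedCategory.{v₃, u₃} C}
  {𝒮 : BasedCategory.{v₄, u₄} C} (F : 𝒳 ⥤ᵇ 𝒮) (G : 𝒴 ⥤ᵇ 𝒮)

theorem fp_isHomLift_iff {X Y : (FibCat.fp F G).obj} (m : X ⟶ Y) {R S : C} (u : R ⟶ S) :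
    (FibCat.fp F G).p.IsHomLift u m ↔ 𝒳.p.IsHomLift u m.hom.fst := by
  exact isHomLift_comp_iff ((FibCat.fpProp F G).ι ⋙ CategoricalPullback.π₁ F.toFunctor G.toFunctor) 𝒳.p u m

theorem fp_obj_snd_proj (X : (FibCat.fp F G).obj) : 𝒴.p.obj X.obj.snd = 𝒳.p.obj X.obj.fst := by
  have hX : 𝒮.p.IsHomLift (𝟙 (𝒳.p.obj X.obj.fst)) X.obj.iso.hom := X.property
  exact (G.w_obj X.obj.snd).symm.trans (IsHomLift.codomain_eq 𝒮.p (𝟙 _) X.obj.iso.hom)

theorem fp_isFibGrpd (h𝒳 : FibCat.IsFibGrpd 𝒳.p) (h𝒴 : FibCat.IsFibGrpd 𝒴.p)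
    (h𝒮 : FibCat.IsFibGrpd 𝒮.p) : FibCat.IsFibGrpd (FibCat.fp F G).p := by
  refine ⟨?_, ?_⟩
  · intro X V u₀
    obtain ⟨u, huu⟩ : ∃ u : V ⟶ 𝒳.p.obj X.obj.fst, u = u₀ := ⟨u₀, rfl⟩
    subst huu
    obtain ⟨x', a, ha⟩ := h𝒳.exists_lift (x := X.obj.fst) u
    have hX : 𝒮.p.IsHomLift (𝟙 (𝒳.p.obj X.obj.fst)) X.obj.iso.hom := X.property
    obtain ⟨y', b, hb⟩ := FibGrpd.exists_lift' h𝒴 (fp_obj_snd_proj F G X) u
    have hGb : 𝒮.p.IsHomLift u (G.map b) := inferInstance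
    have hGbsc : 𝒮.p.IsStronglyCartesian u (G.map b) := FibGrpd.isStronglyCartesian' h𝒮 u (G.map b)
    have hFa0 : 𝒮.p.IsHomLift u (F.map a) := inferInstance
    have hFa : 𝒮.p.IsHomLift u (F.map a ≫ X.obj.iso.hom) := inferInstance
    have hu : u = 𝟙 V ≫ u := (Category.id_comp u).symm
    let f' := Functor.IsStronglyCartesian.map 𝒮.p u (G.map b) hu (F.map a ≫ X.obj.iso.hom)
    have hf'lift : 𝒮.p.IsHomLift (𝟙 V) f' := inferInstance
    have hf'fac : f' ≫ G.map b = F.map a ≫ X.obj.iso.hom :=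
      Functor.IsStronglyCartesian.fac 𝒮.p u (G.map b) hu (F.map a ≫ X.obj.iso.hom)
    have hf'iso : IsIso f' := FibGrpd.isIso_of_lift_id h𝒮 (S := V) f'
    have hV : 𝒳.p.obj x' = V := IsHomLift.domain_eq 𝒳.p u a
    let X' : (FibCat.fp F G).obj := ⟨⟨x', y', asIso f'⟩, by
      show 𝒮.p.IsHomLift (𝟙 (𝒳.p.obj x')) f'
      rw [hV]; exact hf'lift⟩
    let m : X' ⟶ X := ObjectProperty.homMk ⟨a, b, hf'fac.symm⟩
    exact ⟨X', m, (fp_isHomLift_iff F G m u).2 ha⟩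
  · intro Y X m
    refine { toIsHomLift := inferInstance, universal_property' := ?_ }
    intro Z g₀ n hn
    obtain ⟨g, hgg⟩ : ∃ g : 𝒳.p.obj Z.obj.fst ⟶ 𝒳.p.obj Y.obj.fst, g = g₀ := ⟨g₀, rfl⟩
    subst hgg
    have hn' : 𝒳.p.IsHomLift (g ≫ 𝒳.p.map m.hom.fst) n.hom.fst := (fp_isHomLift_iff F G n _).1 hn
    have hasc : 𝒳.p.IsStronglyCartesian (𝒳.p.map m.hom.fst) m.hom.fst := h𝒳.isStronglyCartesian _
    let c : Z.obj.fst ⟶ Y.obj.fst :=
      Functor.IsStronglyCartesian.map 𝒳.p (𝒳.p.map m.hom.fst) m.hom.fst (g := g) rfl n.hom.fst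
    have hc : 𝒳.p.IsHomLift g c := inferInstance
    have hcfac : c ≫ m.hom.fst = n.hom.fst :=
      Functor.IsStronglyCartesian.fac 𝒳.p (𝒳.p.map m.hom.fst) m.hom.fst rfl n.hom.fst
    have hmsnd : 𝒴.p.IsHomLift (𝒳.p.map m.hom.fst) m.hom.snd := FibCat.fp_isHomLift_snd F G m
    have hbsc : 𝒴.p.IsStronglyCartesian (𝒳.p.map m.hom.fst) m.hom.snd :=
      FibGrpd.isStronglyCartesian' h𝒴 _ _
    have hnsnd0 : 𝒴.p.IsHomLift (𝒳.p.map n.hom.fst) n.hom.snd := FibCat.fp_isHomLift_snd F G n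
    have hnfst : g ≫ 𝒳.p.map m.hom.fst = 𝒳.p.map n.hom.fst :=
      IsHomLift.eq_of_isHomLift 𝒳.p _ n.hom.fst
    have hnsnd : 𝒴.p.IsHomLift (g ≫ 𝒳.p.map m.hom.fst) n.hom.snd := by rw [hnfst]; exact hnsnd0
    let d : Z.obj.snd ⟶ Y.obj.snd :=
      Functor.IsStronglyCartesian.map 𝒴.p (𝒳.p.map m.hom.fst) m.hom.snd (g := g) rfl n.hom.snd
    have hd : 𝒴.p.IsHomLift g d := inferInstance
    have hdfac : d ≫ m.hom.snd = n.hom.snd :=
      Functor.IsStronglyCartesian.fac 𝒴.p (𝒳.p.map m.hom.fst) m.hom.snd rfl n.hom.snd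
    have hY : 𝒮.p.IsHomLift (𝟙 (𝒳.p.obj Y.obj.fst)) Y.obj.iso.hom := Y.property
    have hZ : 𝒮.p.IsHomLift (𝟙 (𝒳.p.obj Z.obj.fst)) Z.obj.iso.hom := Z.property
    have hGm : 𝒮.p.IsHomLift (𝒳.p.map m.hom.fst) (G.map m.hom.snd) := inferInstance
    have hGmsc : 𝒮.p.IsStronglyCartesian (𝒳.p.map m.hom.fst) (G.map m.hom.snd) :=
      FibGrpd.isStronglyCartesian' h𝒮 _ _
    have hFc : 𝒮.p.IsHomLift g (F.map c) := inferInstance
    have hGd : 𝒮.p.IsHomLift g (G.map d) := inferInstance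
    have l1 : 𝒮.p.IsHomLift g (F.map c ≫ Y.obj.iso.hom) := inferInstance
    have l2 : 𝒮.p.IsHomLift g (Z.obj.iso.hom ≫ G.map d) := inferInstance
    have compat : F.map c ≫ Y.obj.iso.hom = Z.obj.iso.hom ≫ G.map d := by
      apply Functor.IsStronglyCartesian.ext 𝒮.p (𝒳.p.map m.hom.fst) (G.map m.hom.snd) g
      rw [Category.assoc, Category.assoc, ← m.hom.w, ← G.map_comp, hdfac, ← n.hom.w,
        ← Category.assoc, ← F.map_comp, hcfac]
    let χ : Z ⟶ Y := ObjectProperty.homMk ⟨c, d, compat⟩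
    refine ⟨χ, ⟨(fp_isHomLift_iff F G χ g).2 hc, ?_⟩, ?_⟩
    · apply ObjectProperty.hom_ext
      apply CategoricalPullback.hom_ext
      · exact hcfac
      · exact hdfac
    · rintro χ' ⟨h1, h2⟩
      have h1' : 𝒳.p.IsHomLift g χ'.hom.fst := (fp_isHomLift_iff F G χ' g).1 h1
      have e1 : χ'.hom.fst ≫ m.hom.fst = n.hom.fst := by
        have := congrArg (fun k => k.hom.fst) h2
        exact this
      have e2 : χ'.hom.snd ≫ m.hom.snd = n.hom.snd := by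
        have := congrArg (fun k => k.hom.snd) h2
        exact this
      have hχ'snd0 : 𝒴.p.IsHomLift (𝒳.p.map χ'.hom.fst) χ'.hom.snd := FibCat.fp_isHomLift_snd F G χ'
      have hgχ' : g = 𝒳.p.map χ'.hom.fst := IsHomLift.eq_of_isHomLift 𝒳.p g χ'.hom.fst
      have hχ'snd : 𝒴.p.IsHomLift g χ'.hom.snd := by rw [hgχ']; exact hχ'snd0
      apply ObjectProperty.hom_ext
      apply CategoricalPullback.hom_ext
      · exact Functor.IsStronglyCartesian.map_uniq 𝒳.p (𝒳.p.map m.hom.fst) m.hom.fst rfl n.hom.fst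
          χ'.hom.fst e1
      · exact Functor.IsStronglyCartesian.map_uniq 𝒴.p (𝒳.p.map m.hom.fst) m.hom.snd rfl n.hom.snd
          χ'.hom.snd e2


/-- Lemma A: lifting a morphism of `𝒳` with target the first component to the fibre product. -/
theorem fp_exists_lift_fst (h𝒴 : FibCat.IsFibGrpd 𝒴.p) (h𝒮 : FibCat.IsFibGrpd 𝒮.p)
    (X : (FibCat.fp F G).obj) {x' : 𝒳.obj} (a : x' ⟶ X.obj.fst) :
    ∃ (X' : (FibCat.fp F G).obj) (m : X' ⟶ X), (FibCat.fpFst F G).toFunctor.IsHomLift a m := by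
  have hX : 𝒮.p.IsHomLift (𝟙 (𝒳.p.obj X.obj.fst)) X.obj.iso.hom := X.property
  obtain ⟨y', b, hb⟩ := FibGrpd.exists_lift' h𝒴 (fp_obj_snd_proj F G X) (𝒳.p.map a)
  have hGb : 𝒮.p.IsHomLift (𝒳.p.map a) (G.map b) := inferInstance
  have hGbsc : 𝒮.p.IsStronglyCartesian (𝒳.p.map a) (G.map b) :=
    FibGrpd.isStronglyCartesian' h𝒮 _ (G.map b)
  have hFa0 : 𝒮.p.IsHomLift (𝒳.p.map a) (F.map a) := inferInstance
  have hFa : 𝒮.p.IsHomLift (𝒳.p.map a) (F.map a ≫ X.obj.iso.hom) := inferInstance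
  have hu : 𝒳.p.map a = 𝟙 _ ≫ 𝒳.p.map a := (Category.id_comp _).symm
  let f' := Functor.IsStronglyCartesian.map 𝒮.p (𝒳.p.map a) (G.map b) hu (F.map a ≫ X.obj.iso.hom)
  have hf'lift : 𝒮.p.IsHomLift (𝟙 (𝒳.p.obj x')) f' := inferInstance
  have hf'fac : f' ≫ G.map b = F.map a ≫ X.obj.iso.hom :=
    Functor.IsStronglyCartesian.fac 𝒮.p (𝒳.p.map a) (G.map b) hu (F.map a ≫ X.obj.iso.hom)
  have hf'iso : IsIso f' := FibGrpd.isIso_of_lift_id h𝒮 (S := 𝒳.p.obj x') f'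
  let X' : (FibCat.fp F G).obj := ⟨⟨x', y', asIso f'⟩, hf'lift⟩
  let m : X' ⟶ X := ObjectProperty.homMk ⟨a, b, hf'fac.symm⟩
  exact ⟨X', m, IsHomLift.map (FibCat.fpFst F G).toFunctor m⟩

/-- Lemma B: morphisms of the fibre product are determined by their first component. -/
theorem fp_existsUnique_of_fst (h𝒴 : FibCat.IsFibGrpd 𝒴.p) (h𝒮 : FibCat.IsFibGrpd 𝒮.p)
    {X Y Z : (FibCat.fp F G).obj} (m : Y ⟶ X) (n : Z ⟶ X) (c : Z.obj.fst ⟶ Y.obj.fst)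
    (hcfac : c ≫ m.hom.fst = n.hom.fst) : ∃! χ : Z ⟶ Y, χ.hom.fst = c ∧ χ ≫ m = n := by
  have hmsnd : 𝒴.p.IsHomLift (𝒳.p.map m.hom.fst) m.hom.snd := FibCat.fp_isHomLift_snd F G m
  have hbsc : 𝒴.p.IsStronglyCartesian (𝒳.p.map m.hom.fst) m.hom.snd :=
    FibGrpd.isStronglyCartesian' h𝒴 _ _
  have hnsnd0 : 𝒴.p.IsHomLift (𝒳.p.map n.hom.fst) n.hom.snd := FibCat.fp_isHomLift_snd F G n
  have hnfst : 𝒳.p.map c ≫ 𝒳.p.map m.hom.fst = 𝒳.p.map n.hom.fst := by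
    rw [← Functor.map_comp, hcfac]
  have hnsnd : 𝒴.p.IsHomLift (𝒳.p.map c ≫ 𝒳.p.map m.hom.fst) n.hom.snd := by
    rw [hnfst]; exact hnsnd0
  let d : Z.obj.snd ⟶ Y.obj.snd :=
    Functor.IsStronglyCartesian.map 𝒴.p (𝒳.p.map m.hom.fst) m.hom.snd (g := 𝒳.p.map c) rfl n.hom.snd
  have hd : 𝒴.p.IsHomLift (𝒳.p.map c) d := inferInstance
  have hdfac : d ≫ m.hom.snd = n.hom.snd :=
    Functor.IsStronglyCartesian.fac 𝒴.p (𝒳.p.map m.hom.fst) m.hom.snd rfl n.hom.snd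
  have hY : 𝒮.p.IsHomLift (𝟙 (𝒳.p.obj Y.obj.fst)) Y.obj.iso.hom := Y.property
  have hZ : 𝒮.p.IsHomLift (𝟙 (𝒳.p.obj Z.obj.fst)) Z.obj.iso.hom := Z.property
  have hGm : 𝒮.p.IsHomLift (𝒳.p.map m.hom.fst) (G.map m.hom.snd) := inferInstance
  have hGmsc : 𝒮.p.IsStronglyCartesian (𝒳.p.map m.hom.fst) (G.map m.hom.snd) :=
    FibGrpd.isStronglyCartesian' h𝒮 _ _
  have hFc : 𝒮.p.IsHomLift (𝒳.p.map c) (F.map c) := inferInstance
  have hGd : 𝒮.p.IsHomLift (𝒳.p.map c) (G.map d) := inferInstance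
  have l1 : 𝒮.p.IsHomLift (𝒳.p.map c) (F.map c ≫ Y.obj.iso.hom) := inferInstance
  have l2 : 𝒮.p.IsHomLift (𝒳.p.map c) (Z.obj.iso.hom ≫ G.map d) := inferInstance
  have compat : F.map c ≫ Y.obj.iso.hom = Z.obj.iso.hom ≫ G.map d := by
    apply Functor.IsStronglyCartesian.ext 𝒮.p (𝒳.p.map m.hom.fst) (G.map m.hom.snd) (𝒳.p.map c)
    rw [Category.assoc, Category.assoc, ← m.hom.w, ← G.map_comp, hdfac, ← n.hom.w,
      ← Category.assoc, ← F.map_comp, hcfac]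
  let χ : Z ⟶ Y := ObjectProperty.homMk ⟨c, d, compat⟩
  refine ⟨χ, ⟨rfl, ?_⟩, ?_⟩
  · apply ObjectProperty.hom_ext
    apply CategoricalPullback.hom_ext
    · exact hcfac
    · exact hdfac
  · rintro χ' ⟨h1, h2⟩
    have e2 : χ'.hom.snd ≫ m.hom.snd = n.hom.snd := by
      have := congrArg (fun k => k.hom.snd) h2
      exact this
    have hχ'snd0 : 𝒴.p.IsHomLift (𝒳.p.map χ'.hom.fst) χ'.hom.snd := FibCat.fp_isHomLift_snd F G χ'
    have hχ'snd : 𝒴.p.IsHomLift (𝒳.p.map c) χ'.hom.snd := by rw [← h1]; exact hχ'snd0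
    apply ObjectProperty.hom_ext
    apply CategoricalPullback.hom_ext
    · exact h1
    · exact Functor.IsStronglyCartesian.map_uniq 𝒴.p (𝒳.p.map m.hom.fst) m.hom.snd rfl n.hom.snd
        χ'.hom.snd e2

/-- The first projection of a 2-fibre product of categories fibred in groupoids is fibred in
groupoids. -/
theorem fpFst_isFibGrpd (h𝒴 : FibCat.IsFibGrpd 𝒴.p) (h𝒮 : FibCat.IsFibGrpd 𝒮.p) :
    FibCat.IsFibGrpd (FibCat.fpFst F G).toFunctor := by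
  refine ⟨?_, ?_⟩
  · intro X x' a
    exact fp_exists_lift_fst F G h𝒴 h𝒮 X a
  · intro Y X m
    refine { toIsHomLift := inferInstance, universal_property' := ?_ }
    intro Z c₀ n hn
    obtain ⟨c, hcc⟩ : ∃ c : Z.obj.fst ⟶ Y.obj.fst, c = c₀ := ⟨c₀, rfl⟩
    subst hcc
    have hcfac : c ≫ m.hom.fst = n.hom.fst :=
      IsHomLift.eq_of_isHomLift (FibCat.fpFst F G).toFunctor (c ≫ (FibCat.fpFst F G).toFunctor.map m) n
    obtain ⟨χ, ⟨hχ1, hχ2⟩, huniq⟩ := fp_existsUnique_of_fst F G h𝒴 h𝒮 m n c hcfac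
    refine ⟨χ, ⟨?_, hχ2⟩, ?_⟩
    · have : c = (FibCat.fpFst F G).toFunctor.map χ := hχ1.symm
      rw [this]
      exact IsHomLift.map _ χ
    · rintro χ' ⟨h1, h2⟩
      apply huniq
      refine ⟨?_, h2⟩
      exact (IsHomLift.eq_of_isHomLift (FibCat.fpFst F G).toFunctor c χ').symm


/-- A fully faithful functor that is surjective on objects is fibred in groupoids. -/
theorem isFibGrpd_of_fullyFaithful_surjective {𝒜 : Type u₂} [Category.{v₂} 𝒜] {ℬ : Type u₃}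
    [Category.{v₃} ℬ] (E : 𝒜 ⥤ ℬ) [E.Full] [E.Faithful] (hE : ∀ b : ℬ, ∃ a : 𝒜, E.obj a = b) :
    FibCat.IsFibGrpd E := by
  refine ⟨?_, ?_⟩
  · intro x V f
    obtain ⟨y, rfl⟩ := hE V
    refine ⟨y, E.preimage f, ?_⟩
    have : f = E.map (E.preimage f) := (E.map_preimage f).symm
    rw [this]
    simp only [Functor.preimage_map]
    exact IsHomLift.map E _
  · intro y x φ
    refine { toIsHomLift := inferInstance, universal_property' := ?_ }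
    intro z g ψ hψ
    have hψ' : g ≫ E.map φ = E.map ψ := IsHomLift.eq_of_isHomLift E _ ψ
    refine ⟨E.preimage g, ⟨?_, ?_⟩, ?_⟩
    · have : g = E.map (E.preimage g) := (E.map_preimage g).symm
      rw [this]
      simp only [Functor.preimage_map]
      exact IsHomLift.map E _
    · apply E.map_injective
      rw [E.map_comp, E.map_preimage, hψ']
    · rintro χ' ⟨h1, h2⟩
      apply E.map_injective
      rw [E.map_preimage]
      exact (IsHomLift.eq_of_isHomLift E g χ').symm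

/-- The swap functor `𝒳 ×_𝒮 𝒴 ⥤ 𝒴 ×_𝒮 𝒳`. -/
def fpSwap : (FibCat.fp F G).obj ⥤ (FibCat.fp G F).obj where
  obj X := ⟨⟨X.obj.snd, X.obj.fst, X.obj.iso.symm⟩, by
    show 𝒮.p.IsHomLift (𝟙 (𝒴.p.obj X.obj.snd)) X.obj.iso.inv
    rw [fp_obj_snd_proj]
    have hX : 𝒮.p.IsHomLift (𝟙 (𝒳.p.obj X.obj.fst)) X.obj.iso.hom := X.property
    exact IsHomLift.lift_id_inv 𝒮.p (𝒳.p.obj X.obj.fst) X.obj.iso⟩
  map m := ObjectProperty.homMk ⟨m.hom.snd, m.hom.fst, m.hom.w'⟩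
  map_id X := rfl
  map_comp f g := rfl

theorem fpSwap_comp_fst : fpSwap F G ⋙ (FibCat.fpFst G F).toFunctor = (FibCat.fpSnd F G).toFunctor :=
  rfl

theorem fpSwap_surjective (Y : (FibCat.fp G F).obj) : ∃ X, (fpSwap F G).obj X = Y :=
  ⟨(fpSwap G F).obj Y, rfl⟩

instance fpSwap_full : (fpSwap F G).Full where
  map_surjective m := ⟨(fpSwap G F).map m, rfl⟩

instance fpSwap_faithful : (fpSwap F G).Faithful where
  map_injective {X Y} m n h := by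
    have := congrArg (fun k => (fpSwap G F).map k) h
    exact this

end Groth.Agent.H13
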