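import Mathlib

/-!
Helper (helper13): homogeneous slices for graded derivations.
-/

namespace Groth.Agent.H13.GradedSlice

open DirectSum

variable {k A Λ : Type*} [CommRing k] [CommRing A] [Algebra k A] [AddCommGroup Λ] [DecidableEq Λ]
  (𝒜 : Λ → Submodule k A) [GradedAlgebra 𝒜]

theorem proj_zero_mul (hpos : ∀ w : Λ, 𝒜 w ≠ ⊥ → 𝒜 (-w) ≠ ⊥ → w = 0) (b x : A) :
    GradedRing.proj 𝒜 0 (b * x) = GradedRing.proj 𝒜 0 b * GradedRing.proj 𝒜 0 x := by
  induction b using DirectSum.Decomposition.inductionOn 𝒜 with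
  | zero => simp
  | add b b' hb hb' => rw [add_mul, map_add, map_add, hb, hb', add_mul]
  | @homogeneous i b =>
    induction x using DirectSum.Decomposition.inductionOn 𝒜 with
    | zero => simp
    | add x x' hx hx' => rw [mul_add, map_add, map_add, hx, hx', mul_add]
    | @homogeneous j x =>
      have hbx : (b : A) * (x : A) ∈ 𝒜 (i + j) := SetLike.mul_mem_graded b.2 x.2
      simp only [GradedRing.proj_apply]
      by_cases hi : i = 0
      · subst hi
        rw [decompose_of_mem_same 𝒜 b.2]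
        by_cases hj : j = 0
        · subst hj
          rw [decompose_of_mem_same 𝒜 x.2]
          rw [zero_add] at hbx
          exact decompose_of_mem_same 𝒜 hbx
        · rw [decompose_of_mem_ne 𝒜 x.2 hj, mul_zero]
          rw [zero_add] at hbx
          exact decompose_of_mem_ne 𝒜 hbx hj
      · rw [decompose_of_mem_ne 𝒜 b.2 hi, zero_mul]
        by_cases hij : i + j = 0
        · have hj : j = -i := eq_neg_of_add_eq_zero_right hij
          have h0 : 𝒜 i = ⊥ ∨ 𝒜 (-i) = ⊥ := by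
            by_contra hcon
            push Not at hcon
            exact hi (hpos i hcon.1 hcon.2)
          have hzero : (b : A) * (x : A) = 0 := by
            rcases h0 with h0 | h0
            · have : (b : A) ∈ (⊥ : Submodule k A) := h0 ▸ b.2
              rw [(Submodule.mem_bot k).mp this, zero_mul]
            · have : (x : A) ∈ (⊥ : Submodule k A) := h0 ▸ (hj ▸ x.2)
              rw [(Submodule.mem_bot k).mp this, mul_zero]
          rw [hzero, decompose_zero]; rfl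
        · exact decompose_of_mem_ne 𝒜 hbx hij

variable (δ : Derivation k A A) (d : Λ)

theorem proj_delta (hhom : ∀ (w : Λ) (a : A), a ∈ 𝒜 w → δ a ∈ 𝒜 (w + d)) (a : A) :
    δ (GradedRing.proj 𝒜 (-d) a) = GradedRing.proj 𝒜 0 (δ a) := by
  induction a using DirectSum.Decomposition.inductionOn 𝒜 with
  | zero => simp
  | add a a' ha ha' => rw [map_add, map_add, map_add, map_add, ha, ha']
  | @homogeneous w a =>
    have hδ := hhom w a a.2
    simp only [GradedRing.proj_apply]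
    by_cases hw : w = -d
    · subst hw
      rw [decompose_of_mem_same 𝒜 a.2]
      rw [neg_add_cancel] at hδ
      exact (decompose_of_mem_same 𝒜 hδ).symm
    · rw [decompose_of_mem_ne 𝒜 a.2 hw, map_zero]
      have hne : w + d ≠ 0 := fun h => hw (eq_neg_of_add_eq_zero_left h)
      exact (decompose_of_mem_ne 𝒜 hδ hne).symm

/-- The ideal of elements whose degree-zero component is `δ` of a degree `-d` element. -/
def K (hpos : ∀ w : Λ, 𝒜 w ≠ ⊥ → 𝒜 (-w) ≠ ⊥ → w = 0)
    (hhom : ∀ (w : Λ) (a : A), a ∈ 𝒜 w → δ a ∈ 𝒜 (w + d)) (hd : 𝒜 d = ⊥) : Ideal A where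
  carrier := {x | ∃ f ∈ 𝒜 (-d), δ f = GradedRing.proj 𝒜 0 x}
  add_mem' := by
    rintro x y ⟨f, hf, hfx⟩ ⟨g, hg, hgy⟩
    exact ⟨f + g, add_mem hf hg, by rw [map_add, map_add, hfx, hgy]⟩
  zero_mem' := ⟨0, zero_mem _, by simp⟩
  smul_mem' := by
    rintro b x ⟨f, hf, hfx⟩
    refine ⟨GradedRing.proj 𝒜 0 b * f, ?_, ?_⟩
    · have h1 : GradedRing.proj 𝒜 0 b ∈ 𝒜 0 := (decompose 𝒜 b 0).2
      have := SetLike.mul_mem_graded h1 hf
      rwa [zero_add] at this
    · have h1 : GradedRing.proj 𝒜 0 b ∈ 𝒜 0 := (decompose 𝒜 b 0).2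
      have h2 : δ (GradedRing.proj 𝒜 0 b) = 0 := by
        have := hhom 0 _ h1
        rw [zero_add, hd] at this
        exact (Submodule.mem_bot k).mp this
      rw [smul_eq_mul, proj_zero_mul 𝒜 hpos, Derivation.leibniz, hfx, h2, smul_zero, add_zero,
        smul_eq_mul]

theorem exists_slice (hpos : ∀ w : Λ, 𝒜 w ≠ ⊥ → 𝒜 (-w) ≠ ⊥ → w = 0)
    (hhom : ∀ (w : Λ) (a : A), a ∈ 𝒜 w → δ a ∈ 𝒜 (w + d)) (hd : 𝒜 d = ⊥)
    (hfix : ∀ m : Ideal A, m.IsMaximal → (∀ w : Λ, w ≠ 0 → (𝒜 w : Set A) ⊆ m) → ∃ a, δ a ∉ m) :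
    ∃ s ∈ 𝒜 (-d), δ s = 1 := by
  by_contra hne
  have hK : K 𝒜 δ d hpos hhom hd ≠ ⊤ := by
    intro h
    have h1 : (1 : A) ∈ K 𝒜 δ d hpos hhom hd := h ▸ Submodule.mem_top
    obtain ⟨f, hf, hf1⟩ := h1
    apply hne
    refine ⟨f, hf, ?_⟩
    rw [hf1]
    exact decompose_of_mem_same 𝒜 (SetLike.one_mem_graded 𝒜)
  obtain ⟨m, hm, hKm⟩ := Ideal.exists_le_maximal _ hK
  obtain ⟨a, ha⟩ := hfix m hm (fun w hw x hx => hKm ⟨0, zero_mem _, by
    rw [map_zero]; exact (decompose_of_mem_ne 𝒜 hx hw).symm⟩)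
  apply ha
  apply hKm
  exact ⟨GradedRing.proj 𝒜 (-d) a, (decompose 𝒜 a (-d)).2, proj_delta 𝒜 δ d hhom a⟩

end Groth.Agent.H13.GradedSlice
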