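import Mathlib
import Groth.Prelude.Def_W4c5stacksedinertiaGpd

/-!
# The inertia operators on the rational vector space of finite groups (helper for S18021–S18025)
-/

set_option autoImplicit false
set_option linter.unusedVariables false
universe u v

open W4c5stacksedinertia

namespace Groth.Agent.H13.Inertia

/-! ## Basic facts on `Idx` -/

/-- The presentation of `G` is isomorphic to `G`. -/
noncomputable def ofEquiv (G : Type u) [Group G] [Finite G] : (FinGrp.of G).carrier ≃* G :=
  { toEquiv := (Nat.equivFinOfCardPos (α := G) Nat.card_pos.ne').symm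
    map_mul' := fun _ _ =>
      (Nat.equivFinOfCardPos (α := G) Nat.card_pos.ne').symm.apply_symm_apply _ }

theorem idx_of_eq {G : Type u} {H : Type v} [Group G] [Finite G] [Group H] [Finite H]
    (e : G ≃* H) : Idx.of G = Idx.of H :=
  Quotient.sound ⟨((ofEquiv G).trans e).trans (ofEquiv H).symm⟩

theorem cl_eq {G : Type u} {H : Type v} [Group G] [Finite G] [Group H] [Finite H]
    (e : G ≃* H) : cl G = cl H := by
  unfold cl
  rw [idx_of_eq e]

/-- The chosen representative of the class of `G` is isomorphic to `G`. -/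
noncomputable def repEquiv (G : Type u) [Group G] [Finite G] : (Idx.of G).rep ≃* G :=
  (Classical.choice (Quotient.mk_out (s := FinGrp.setoid) (FinGrp.of G))).trans (ofEquiv G)

theorem idx_of_rep (i : Idx) : Idx.of i.rep = i := by
  have h : Idx.of i.rep = Quotient.mk FinGrp.setoid (Quotient.out (s := FinGrp.setoid) i) :=
    Quotient.sound ⟨ofEquiv _⟩
  exact h.trans (Quotient.out_eq (s := FinGrp.setoid) i)

theorem cl_rep (i : Idx) : cl i.rep = Finsupp.single i 1 := by
  unfold cl
  rw [idx_of_rep]

theorem card_of (G : Type u) [Group G] [Finite G] : (Idx.of G).card = Nat.card G :=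
  Nat.card_congr (repEquiv G).toEquiv

theorem centerCard_of (G : Type u) [Group G] [Finite G] :
    (Idx.of G).centerCard = Nat.card (Subgroup.center G) :=
  Nat.card_congr (Subgroup.centerCongr (repEquiv G)).toEquiv

/-! ## Centralizers -/

/-- Transport of centralizers along an isomorphism. -/
noncomputable def centEquiv {G : Type u} {H : Type v} [Group G] [Group H] (e : G ≃* H)
    (S : Set G) : Subgroup.centralizer S ≃* Subgroup.centralizer (e '' S) :=
  { toFun := fun x => ⟨e x.1, by
      refine Subgroup.mem_centralizer_iff.2 ?_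
      rintro _ ⟨z, hz, rfl⟩
      rw [← map_mul, ← map_mul, Subgroup.mem_centralizer_iff.1 x.2 z hz]⟩
    invFun := fun y => ⟨e.symm y.1, by
      refine Subgroup.mem_centralizer_iff.2 ?_
      intro z hz
      have h1 := Subgroup.mem_centralizer_iff.1 y.2 (e z) ⟨z, hz, rfl⟩
      apply e.injective
      rw [map_mul, map_mul, e.apply_symm_apply]
      exact h1⟩
    left_inv := fun x => Subtype.ext (e.symm_apply_apply _)
    right_inv := fun y => Subtype.ext (e.apply_symm_apply _)
    map_mul' := fun x y => Subtype.ext (map_mul e _ _) }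

/-- weight times class of the centralizer of a subset -/
noncomputable def term {G : Type u} [Group G] [Finite G] (S : Set G) : K :=
  ((Nat.card (Subgroup.centralizer S) : ℚ) / (Nat.card G : ℚ)) • cl (Subgroup.centralizer S)

theorem term_image {G : Type u} {H : Type v} [Group G] [Finite G] [Group H] [Finite H]
    (e : G ≃* H) (S : Set G) : term (e '' S) = term S := by
  unfold term
  rw [← cl_eq (centEquiv e S), ← Nat.card_congr (centEquiv e S).toEquiv,
    ← Nat.card_congr e.toEquiv]

/-- admissible tuples -/
def Ok {G : Type u} [Group G] {r : ℕ} (s : Fin r → G) : Prop :=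
  Function.Injective s ∧ ∀ i j, Commute (s i) (s j)

open Classical in
/-- The mass-formula form of the `r`-th inertia operator on the class of `G`. -/
noncomputable def mass (r : ℕ) (G : Type u) [Group G] [Finite G] : K :=
  ∑ᶠ s : Fin r → G, if Ok s then term (Set.range s) else 0

theorem ok_comp {G : Type u} {H : Type v} [Group G] [Group H] (e : G ≃* H) {r : ℕ}
    (s : Fin r → G) : Ok (fun i => e (s i)) ↔ Ok s := by
  unfold Ok
  constructor
  · rintro ⟨h1, h2⟩
    refine ⟨fun i j hij => h1 (by simp only [hij]), fun i j => ?_⟩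
    have h3 := (h2 i j).eq
    rw [← map_mul, ← map_mul] at h3
    exact e.injective h3
  · rintro ⟨h1, h2⟩
    refine ⟨fun i j hij => h1 (e.injective hij), fun i j => ?_⟩
    show e (s i) * e (s j) = e (s j) * e (s i)
    rw [← map_mul, ← map_mul, (h2 i j).eq]

theorem mass_congr (r : ℕ) {G : Type u} {H : Type v} [Group G] [Finite G] [Group H] [Finite H]
    (e : G ≃* H) : mass r G = mass r H := by
  classical
  unfold mass
  rw [← finsum_comp_equiv (Equiv.piCongrRight (fun _ : Fin r => e.toEquiv))]
  refine finsum_congr fun s => ?_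
  have h1 : (Equiv.piCongrRight (fun _ : Fin r => e.toEquiv)) s = fun i => e (s i) := rfl
  rw [h1]
  have h2 : Set.range (fun i => e (s i)) = e '' Set.range s := by
    rw [← Set.range_comp]; rfl
  by_cases hs : Ok s
  · rw [if_pos hs, if_pos ((ok_comp e s).2 hs), h2, term_image]
  · rw [if_neg hs, if_neg (fun h => hs ((ok_comp e s).1 h))]

/-! ## The conjugation action on tuples and the mass formula -/

/-- conjugation action on tuples -/
noncomputable instance conjAction (G : Type u) [Group G] (r : ℕ) : MulAction G (CommTuple G r) where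
  smul g s := ⟨fun i => g * s.1 i * g⁻¹,
    fun i j h => s.2.1 (by simpa using h),
    fun i j => by
      show g * s.1 i * g⁻¹ * (g * s.1 j * g⁻¹) = g * s.1 j * g⁻¹ * (g * s.1 i * g⁻¹)
      have h := (s.2.2 i j).eq
      calc g * s.1 i * g⁻¹ * (g * s.1 j * g⁻¹) = g * (s.1 i * s.1 j) * g⁻¹ := by group
        _ = g * (s.1 j * s.1 i) * g⁻¹ := by rw [h]
        _ = _ := by group⟩
  one_smul s := Subtype.ext (funext fun i => by
    show 1 * s.1 i * 1⁻¹ = s.1 i
    group)
  mul_smul g h s := Subtype.ext (funext fun i => by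
    show g * h * s.1 i * (g * h)⁻¹ = g * (h * s.1 i * h⁻¹) * g⁻¹
    group)

theorem smul_val {G : Type u} [Group G] {r : ℕ} (g : G) (s : CommTuple G r) (i : Fin r) :
    (g • s).1 i = g * s.1 i * g⁻¹ := rfl

theorem setoid_iff {G : Type u} [Group G] {r : ℕ} (s t : CommTuple G r) :
    (CommTuple.setoid G r).r s t ↔ ∃ g : G, g • s = t := by
  constructor
  · rintro ⟨g, hg⟩
    exact ⟨g, Subtype.ext (funext hg)⟩
  · rintro ⟨g, rfl⟩
    exact ⟨g, fun i => rfl⟩

theorem stabilizer_eq {G : Type u} [Group G] {r : ℕ} (s : CommTuple G r) :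
    MulAction.stabilizer G s = Subgroup.centralizer (Set.range s.1) := by
  ext g
  rw [MulAction.mem_stabilizer_iff, Subgroup.mem_centralizer_iff]
  constructor
  · rintro h _ ⟨i, rfl⟩
    have h1 : g * s.1 i * g⁻¹ = s.1 i := congrFun (congrArg Subtype.val h) i
    rw [mul_inv_eq_iff_eq_mul] at h1
    exact h1.symm
  · intro h
    refine Subtype.ext (funext fun i => ?_)
    show g * s.1 i * g⁻¹ = s.1 i
    rw [mul_inv_eq_iff_eq_mul]
    exact (h _ ⟨i, rfl⟩).symm

theorem term_smul {G : Type u} [Group G] [Finite G] {r : ℕ} (g : G) (s : CommTuple G r) :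
    term (Set.range (g • s).1) = term (Set.range s.1) := by
  have h : Set.range (g • s).1 = (MulAut.conj g) '' Set.range s.1 := by
    rw [← Set.range_comp]
    rfl
  rw [h, term_image]

theorem sum_fiber_const {ι κ M : Type*} [Fintype ι] [DecidableEq κ] [AddCommMonoid M]
    (g : ι → κ) (j : κ) (c : M) (f : ι → M) (hf : ∀ i, g i = j → f i = c) :
    ∑ i : {i // g i = j}, f i = Nat.card {i // g i = j} • c := by
  rw [Finset.sum_congr rfl (fun x _ => hf x.1 x.2), Finset.sum_const, Finset.card_univ,
    Nat.card_eq_fintype_card]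

theorem inertiaROf_eq_mass (r : ℕ) (G : Type u) [Group G] [Finite G] :
    inertiaROf r G = mass r G := by
  classical
  have : Finite (CommTuple G r) := by unfold CommTuple; infer_instance
  have : Finite (Quotient (CommTuple.setoid G r)) := inferInstance
  let _ := Fintype.ofFinite (CommTuple G r)
  let instQ : Fintype (Quotient (CommTuple.setoid G r)) := Fintype.ofFinite _
  let _ : Fintype (CommTuple.Orbit G r) := instQ
  have h1 : mass r G = ∑ x : CommTuple G r, term (Set.range x.1) := by
    unfold mass
    rw [← finsum_eq_sum_of_fintype]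
    refine Eq.trans ?_ (finsum_subtype_eq_finsum_cond
      (f := fun s : Fin r → G => term (Set.range s)) Ok).symm
    refine finsum_congr fun s => ?_
    rw [finsum_eq_if]
  rw [h1, ← Fintype.sum_fiberwise (Quotient.mk (CommTuple.setoid G r))
    (fun x : CommTuple G r => term (Set.range x.1))]
  unfold inertiaROf
  rw [finsum_eq_sum_of_fintype]
  refine Finset.sum_congr rfl fun O _ => ?_
  set x₀ := Quotient.out (s := CommTuple.setoid G r) O with hx₀
  have hO : Quotient.mk (CommTuple.setoid G r) x₀ = O :=
    Quotient.out_eq (s := CommTuple.setoid G r) O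
  have hconst : ∀ x : {x : CommTuple G r // Quotient.mk (CommTuple.setoid G r) x = O},
      term (Set.range x.1.1) = term (Set.range x₀.1) := by
    rintro ⟨x, hx⟩
    have h2 : (CommTuple.setoid G r).r x x₀ := Quotient.exact (hx.trans hO.symm)
    obtain ⟨g, hg⟩ := (setoid_iff x x₀).1 h2
    rw [← hg, term_smul]
  rw [sum_fiber_const (Quotient.mk (CommTuple.setoid G r)) O (term (Set.range x₀.1))
    (fun x : CommTuple G r => term (Set.range x.1)) (fun x hx => hconst ⟨x, hx⟩)]
  -- the fibre is the orbit of `x₀`
  have hcard : Nat.card {x : CommTuple G r // Quotient.mk (CommTuple.setoid G r) x = O} =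
      Nat.card (MulAction.orbit G x₀) := by
    refine Nat.card_congr (Equiv.subtypeEquivRight fun x => ?_)
    rw [MulAction.mem_orbit_iff]
    constructor
    · intro hx
      have h2 : (CommTuple.setoid G r).r x₀ x := Quotient.exact (hO.trans hx.symm)
      exact (setoid_iff x₀ x).1 h2
    · intro hx
      have h2 : (CommTuple.setoid G r).r x₀ x := (setoid_iff x₀ x).2 hx
      have h3 := Quotient.sound (s := CommTuple.setoid G r) h2
      exact h3.symm.trans hO
  have hos : Nat.card (MulAction.orbit G x₀) * Nat.card (Subgroup.centralizer (Set.range x₀.1)) =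
      Nat.card G := by
    rw [← stabilizer_eq, ← Nat.card_prod]
    exact Nat.card_congr (MulAction.orbitProdStabilizerEquivGroup G x₀)
  rw [hcard]
  unfold term
  have hG : (Nat.card G : ℚ) ≠ 0 := by
    have : Nat.card G ≠ 0 := Nat.card_pos.ne'
    exact_mod_cast this
  rw [← Nat.cast_smul_eq_nsmul ℚ, smul_smul]
  have h5 : (Nat.card (MulAction.orbit G x₀) : ℚ) *
      ((Nat.card (Subgroup.centralizer (Set.range x₀.1)) : ℚ) / (Nat.card G : ℚ)) = 1 := by
    have h6 : (Nat.card (MulAction.orbit G x₀) : ℚ) *
        (Nat.card (Subgroup.centralizer (Set.range x₀.1)) : ℚ) = (Nat.card G : ℚ) := by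
      exact_mod_cast hos
    rw [← mul_div_assoc, h6, div_self hG]
  rw [h5, one_smul]

theorem inertiaR_cl (r : ℕ) (G : Type u) [Group G] [Finite G] :
    inertiaR r (cl G) = mass r G := by
  unfold inertiaR cl
  rw [Finsupp.linearCombination_single, one_smul, inertiaROf_eq_mass]
  exact mass_congr r (repEquiv G)

theorem inertiaR_single (r : ℕ) (i : Idx) :
    inertiaR r (Finsupp.single i 1) = mass r i.rep := by
  rw [← cl_rep, inertiaR_cl]

/-! ## The filtration by the order of the centre -/

theorem cl_mem_Kge {G : Type u} [Group G] [Finite G] (k : ℕ)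
    (h : k ≤ Nat.card (Subgroup.center G)) : cl G ∈ Kge k := by
  unfold cl Kge
  apply Finsupp.single_mem_supported
  show k ≤ (Idx.of G).centerCard
  rw [centerCard_of]
  exact h

theorem center_card_lt {G : Type u} [Group G] [Finite G] {r : ℕ} (s : Fin r → G) (hs : Ok s)
    (i : Fin r) (hi : s i ∉ Subgroup.center G) :
    Nat.card (Subgroup.center G) + 1 ≤
      Nat.card (Subgroup.center (Subgroup.centralizer (Set.range s))) := by
  classical
  rw [← Finite.card_option]
  have hsi : s i ∈ Subgroup.centralizer (Set.range s) := by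
    rw [Subgroup.mem_centralizer_iff]
    rintro _ ⟨j, rfl⟩
    exact (hs.2 j i).eq
  have h1 : (⟨s i, hsi⟩ : Subgroup.centralizer (Set.range s)) ∈
      Subgroup.center (Subgroup.centralizer (Set.range s)) := by
    rw [Subgroup.mem_center_iff]
    intro g
    apply Subtype.ext
    show g.1 * s i = s i * g.1
    exact (Subgroup.mem_centralizer_iff.1 g.2 (s i) ⟨i, rfl⟩).symm
  have h2 : ∀ c : Subgroup.center G,
      (⟨c.1, Subgroup.center_le_centralizer _ c.2⟩ : Subgroup.centralizer (Set.range s)) ∈
      Subgroup.center (Subgroup.centralizer (Set.range s)) := by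
    intro c
    rw [Subgroup.mem_center_iff]
    intro g
    apply Subtype.ext
    show g.1 * c.1 = c.1 * g.1
    exact Subgroup.mem_center_iff.1 c.2 g.1
  let f : Option (Subgroup.center G) →
      Subgroup.center (Subgroup.centralizer (Set.range s)) := fun o =>
    o.elim ⟨⟨s i, hsi⟩, h1⟩ (fun c => ⟨⟨c.1, Subgroup.center_le_centralizer _ c.2⟩, h2 c⟩)
  refine Nat.card_le_card_of_injective f ?_
  intro a b hab
  cases a with
  | none =>
    cases b with
    | none => rfl
    | some c =>
      exfalso
      have h3 : s i = c.1 := congrArg (fun x => x.1.1) hab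
      exact hi (h3 ▸ c.2)
  | some c =>
    cases b with
    | none =>
      exfalso
      have h3 : c.1 = s i := congrArg (fun x => x.1.1) hab
      exact hi (h3 ▸ c.2)
    | some c' =>
      have h3 : c.1 = c'.1 := congrArg (fun x => x.1.1) hab
      exact congrArg some (Subtype.ext h3)

theorem sum_ite_const {ι M : Type*} [Fintype ι] [AddCommMonoid M] (P : ι → Prop)
    [DecidablePred P] (c : M) : ∑ i, (if P i then c else 0) = Nat.card {i // P i} • c := by
  rw [Finset.sum_ite, Finset.sum_const_zero, add_zero, Finset.sum_const,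
    Nat.card_eq_fintype_card, Fintype.card_subtype]

theorem term_of_central {G : Type u} [Group G] [Finite G] (S : Set G)
    (hS : S ⊆ Subgroup.center G) : term S = cl G := by
  have h : Subgroup.centralizer S = ⊤ := Subgroup.centralizer_eq_top_iff_subset.2 hS
  let e : Subgroup.centralizer S ≃* G := (MulEquiv.subgroupCongr h).trans Subgroup.topEquiv
  unfold term
  rw [cl_eq e, Nat.card_congr e.toEquiv, div_self, one_smul]
  have : Nat.card G ≠ 0 := Nat.card_pos.ne'
  exact_mod_cast this

/-- central admissible tuples are embeddings into the centre -/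
noncomputable def centralEquiv (G : Type u) [Group G] (r : ℕ) :
    {s : Fin r → G // Ok s ∧ ∀ i, s i ∈ Subgroup.center G} ≃ (Fin r ↪ Subgroup.center G) where
  toFun x := ⟨fun i => ⟨x.1 i, x.2.2 i⟩, fun i j h => x.2.1.1 (congrArg Subtype.val h)⟩
  invFun e := ⟨fun i => (e i).1,
    ⟨⟨fun i j h => e.injective (Subtype.ext h),
      fun i j => Subgroup.mem_center_iff.1 (e j).2 (e i).1⟩, fun i => (e i).2⟩⟩
  left_inv x := rfl
  right_inv e := rfl

theorem mass_sub_mem (r : ℕ) (G : Type u) [Group G] [Finite G] :
    mass r G - ((Nat.card (Subgroup.center G)).descFactorial r : ℚ) • cl G ∈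
      Kge (Nat.card (Subgroup.center G) + 1) := by
  classical
  let _ := Fintype.ofFinite G
  unfold mass
  rw [finsum_eq_sum_of_fintype]
  have hsplit : ∀ s : Fin r → G, (if Ok s then term (Set.range s) else 0) =
      (if (Ok s ∧ ∀ i, s i ∈ Subgroup.center G) then cl G else 0) +
      (if (Ok s ∧ ¬ ∀ i, s i ∈ Subgroup.center G) then term (Set.range s) else 0) := by
    intro s
    by_cases h1 : Ok s
    · by_cases h2 : ∀ i, s i ∈ Subgroup.center G
      · rw [if_pos h1, if_pos ⟨h1, h2⟩, if_neg (fun h => h.2 h2), add_zero]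
        apply term_of_central
        rintro _ ⟨i, rfl⟩
        exact h2 i
      · rw [if_pos h1, if_neg (fun h => h2 h.2), if_pos ⟨h1, h2⟩, zero_add]
    · rw [if_neg h1, if_neg (fun h => h1 h.1), if_neg (fun h => h1 h.1), add_zero]
  rw [Finset.sum_congr rfl (fun s _ => hsplit s), Finset.sum_add_distrib]
  have hfirst : ∑ s : Fin r → G, (if (Ok s ∧ ∀ i, s i ∈ Subgroup.center G) then cl G else 0) =
      ((Nat.card (Subgroup.center G)).descFactorial r : ℚ) • cl G := by
    rw [sum_ite_const, Nat.card_congr (centralEquiv G r), ← Nat.cast_smul_eq_nsmul ℚ]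
    congr 2
    let _ := Fintype.ofFinite (Subgroup.center G)
    rw [Nat.card_eq_fintype_card, Fintype.card_embedding_eq, Fintype.card_fin,
      ← Nat.card_eq_fintype_card]
  rw [hfirst, add_sub_cancel_left]
  refine Submodule.sum_mem _ fun s _ => ?_
  split_ifs with h
  · obtain ⟨i, hi⟩ := not_forall.1 h.2
    unfold term
    exact Submodule.smul_mem _ _ (cl_mem_Kge _ (center_card_lt s h.1 i hi))
  · exact Submodule.zero_mem _

theorem inertiaR_sub_mem (r k : ℕ) (v : K) (hv : v ∈ Kge k) :
    inertiaR r v - ((Nat.factorial r * Nat.choose k r : ℕ) : ℚ) • v ∈ Kge (k + 1) := by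
  have hmap : Kge k ≤ (Kge (k + 1)).comap
      (inertiaR r - ((Nat.factorial r * Nat.choose k r : ℕ) : ℚ) • LinearMap.id) := by
    unfold Kge
    rw [Finsupp.supported_eq_span_single, Submodule.span_le]
    rintro _ ⟨i, hi, rfl⟩
    have hi' : k ≤ Nat.card (Subgroup.center i.rep) := hi
    rw [SetLike.mem_coe, Submodule.mem_comap, LinearMap.sub_apply, LinearMap.smul_apply,
      LinearMap.id_apply, inertiaR_single]
    have h1 := mass_sub_mem r i.rep
    rw [cl_rep] at h1
    have h2 : Kge (Nat.card (Subgroup.center i.rep) + 1) ≤ Kge (k + 1) :=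
      Finsupp.supported_mono fun j (hj : _ ≤ _) => le_trans (Nat.succ_le_succ hi') hj
    have e : mass r i.rep - ((Nat.factorial r * Nat.choose k r : ℕ) : ℚ) • Finsupp.single i 1 =
        (mass r i.rep - ((Nat.card (Subgroup.center i.rep)).descFactorial r : ℚ) •
          Finsupp.single i 1) +
        (((Nat.card (Subgroup.center i.rep)).descFactorial r : ℚ) -
          ((Nat.factorial r * Nat.choose k r : ℕ) : ℚ)) • Finsupp.single i 1 := by
      rw [sub_smul]; abel
    rw [e]
    refine Submodule.add_mem _ (h2 h1) ?_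
    rcases Nat.eq_or_lt_of_le hi' with h3 | h3
    · rw [← h3, Nat.descFactorial_eq_factorial_mul_choose, sub_self, zero_smul]
      exact Submodule.zero_mem _
    · refine Submodule.smul_mem _ _ ?_
      exact Finsupp.single_mem_supported ℚ 1 (show k + 1 ≤ i.centerCard from h3)
  exact hmap hv

end Groth.Agent.H13.Inertia
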