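import Mathlib
import Groth.Agent.H13.Inertia

/-!
# The recursion for the inertia operators and their polynomial form
-/

set_option autoImplicit false
set_option linter.unusedVariables false
universe u v

open W4c5stacksedinertia

namespace Groth.Agent.H13.Inertia

open Classical in
theorem mass_eq_sum (r : ℕ) (G : Type u) [Group G] [Finite G] [Fintype G] :
    mass r G = ∑ s : Fin r → G, if Ok s then term (Set.range s) else 0 := by
  unfold mass
  exact finsum_eq_sum_of_fintype _

theorem mass_zero (G : Type u) [Group G] [Finite G] : mass 0 G = cl G := by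
  classical
  let _ := Fintype.ofFinite G
  rw [mass_eq_sum, Fintype.sum_unique, if_pos]
  · apply term_of_central
    rintro _ ⟨i, _⟩
    exact i.elim0
  · exact ⟨fun i => i.elim0, fun i => i.elim0⟩

theorem mass_one (H : Type u) [Group H] [Finite H] [Fintype H] :
    mass 1 H = ∑ h : H, term ({h} : Set H) := by
  classical
  rw [mass_eq_sum]
  refine Fintype.sum_equiv (Equiv.funUnique (Fin 1) H) _ _ fun t => ?_
  have hok : Ok t := ⟨fun i j _ => Subsingleton.elim i j, fun i j => by
    have := Subsingleton.elim i j
    subst this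
    exact Commute.refl _⟩
  have hr : Set.range t = {t 0} := by
    ext x
    constructor
    · rintro ⟨i, rfl⟩
      rw [Subsingleton.elim i 0]; rfl
    · rintro rfl
      exact ⟨0, rfl⟩
  rw [if_pos hok, hr]
  rfl

/-- The centralizer of `{h}` inside the centralizer of `S` is the centralizer of `insert h S`. -/
noncomputable def centCentEquiv {G : Type u} [Group G] (S : Set G) (h : Subgroup.centralizer S) :
    Subgroup.centralizer ({h} : Set (Subgroup.centralizer S)) ≃*
      Subgroup.centralizer (insert h.1 S) where
  toFun x := ⟨x.1.1, by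
    rw [Subgroup.mem_centralizer_iff]
    intro z hz
    rcases hz with hz | hz
    · rw [hz]
      have := Subgroup.mem_centralizer_iff.1 x.2 h rfl
      exact congrArg Subtype.val this
    · exact Subgroup.mem_centralizer_iff.1 x.1.2 z hz⟩
  invFun y := ⟨⟨y.1, by
      rw [Subgroup.mem_centralizer_iff]
      intro z hz
      exact Subgroup.mem_centralizer_iff.1 y.2 z (Set.mem_insert_of_mem _ hz)⟩, by
    rw [Subgroup.mem_centralizer_iff]
    intro z hz
    have hz' : z = h := hz
    rw [hz']
    apply Subtype.ext
    exact Subgroup.mem_centralizer_iff.1 y.2 h.1 (Set.mem_insert _ _)⟩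
  left_inv x := rfl
  right_inv y := rfl
  map_mul' x y := rfl

theorem term_cent {G : Type u} [Group G] [Finite G] (S : Set G) (h : Subgroup.centralizer S) :
    ((Nat.card (Subgroup.centralizer S) : ℚ) / (Nat.card G : ℚ)) •
      term ({h} : Set (Subgroup.centralizer S)) = term (insert h.1 S) := by
  unfold term
  rw [smul_smul, cl_eq (centCentEquiv S h), Nat.card_congr (centCentEquiv S h).toEquiv]
  congr 1
  have hH : (Nat.card (Subgroup.centralizer S) : ℚ) ≠ 0 := by
    have : Nat.card (Subgroup.centralizer S) ≠ 0 := Nat.card_pos.ne'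
    exact_mod_cast this
  have hG : (Nat.card G : ℚ) ≠ 0 := by
    have : Nat.card G ≠ 0 := Nat.card_pos.ne'
    exact_mod_cast this
  field_simp

theorem inertia_term {G : Type u} [Group G] [Finite G] [Fintype G] (S : Set G)
    [DecidablePred (· ∈ Subgroup.centralizer S)] :
    inertiaR 1 (term S) =
      ∑ g : G, if g ∈ Subgroup.centralizer S then term (insert g S) else 0 := by
  classical
  let _ : Fintype (Subgroup.centralizer S) := Fintype.ofFinite _
  have h1 : inertiaR 1 (term S) = ∑ h : Subgroup.centralizer S, term (insert h.1 S) := by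
    have h0 : term S = ((Nat.card (Subgroup.centralizer S) : ℚ) / (Nat.card G : ℚ)) •
        cl (Subgroup.centralizer S) := rfl
    rw [h0, map_smul, inertiaR_cl, mass_one, Finset.smul_sum]
    exact Finset.sum_congr rfl fun h _ => term_cent S h
  rw [h1, ← Finset.sum_filter]
  exact (Finset.sum_subtype (Finset.univ.filter (· ∈ Subgroup.centralizer S)) (by simp)
    (fun g => term (insert g S))).symm

theorem ok_cons_iff {G : Type u} [Group G] {r : ℕ} (g : G) (s : Fin r → G) :
    Ok (Fin.cons g s : Fin (r + 1) → G) ↔
      Ok s ∧ g ∉ Set.range s ∧ g ∈ Subgroup.centralizer (Set.range s) := by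
  unfold Ok
  rw [Fin.cons_injective_iff]
  constructor
  · rintro ⟨⟨h1, h2⟩, h3⟩
    refine ⟨⟨h2, fun i j => ?_⟩, h1, ?_⟩
    · have := h3 i.succ j.succ
      simpa only [Fin.cons_succ] using this
    · rw [Subgroup.mem_centralizer_iff]
      rintro _ ⟨i, rfl⟩
      have := h3 i.succ 0
      simp only [Fin.cons_succ, Fin.cons_zero] at this
      exact this.eq
  · rintro ⟨⟨h1, h2⟩, h3, h4⟩
    refine ⟨⟨h3, h1⟩, ?_⟩
    have h5 : ∀ i, Commute (s i) g := fun i =>
      Subgroup.mem_centralizer_iff.1 h4 (s i) ⟨i, rfl⟩
    intro i j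
    refine Fin.cases ?_ (fun i' => ?_) i <;> refine Fin.cases ?_ (fun j' => ?_) j
    · simp only [Fin.cons_zero]; exact Commute.refl _
    · simp only [Fin.cons_zero, Fin.cons_succ]; exact (h5 j').symm
    · simp only [Fin.cons_zero, Fin.cons_succ]; exact h5 i'
    · simp only [Fin.cons_succ]; exact h2 i' j'

theorem mass_succ (r : ℕ) (G : Type u) [Group G] [Finite G] :
    inertiaR 1 (mass r G) = mass (r + 1) G + (r : ℚ) • mass r G := by
  classical
  let _ := Fintype.ofFinite G
  rw [mass_eq_sum r G, mass_eq_sum (r + 1) G, map_sum]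
  have hL : ∀ s : Fin r → G, inertiaR 1 (if Ok s then term (Set.range s) else 0) =
      (∑ g : G, if Ok (Fin.cons g s : Fin (r + 1) → G) then
        term (Set.range (Fin.cons g s : Fin (r + 1) → G)) else 0) +
      (r : ℚ) • (if Ok s then term (Set.range s) else 0) := by
    intro s
    by_cases hs : Ok s
    · rw [if_pos hs, inertia_term]
      have hg : ∀ g : G, (if g ∈ Subgroup.centralizer (Set.range s) then
            term (insert g (Set.range s)) else 0) =
          (if Ok (Fin.cons g s : Fin (r + 1) → G) then
            term (Set.range (Fin.cons g s : Fin (r + 1) → G)) else 0) +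
          (if g ∈ Set.range s then term (Set.range s) else 0) := by
        intro g
        rw [Fin.range_cons]
        by_cases h1 : g ∈ Set.range s
        · have h2 : g ∈ Subgroup.centralizer (Set.range s) := by
            obtain ⟨j, rfl⟩ := h1
            rw [Subgroup.mem_centralizer_iff]
            rintro _ ⟨i, rfl⟩
            exact (hs.2 i j).eq
          have h3 : ¬ Ok (Fin.cons g s : Fin (r + 1) → G) := fun h =>
            ((ok_cons_iff g s).1 h).2.1 h1
          rw [if_pos h2, if_neg h3, if_pos h1, zero_add, Set.insert_eq_of_mem h1]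
        · rw [if_neg h1, add_zero]
          by_cases h2 : g ∈ Subgroup.centralizer (Set.range s)
          · rw [if_pos h2, if_pos ((ok_cons_iff g s).2 ⟨hs, h1, h2⟩)]
          · rw [if_neg h2, if_neg (fun h => h2 ((ok_cons_iff g s).1 h).2.2)]
      rw [Finset.sum_congr rfl (fun g _ => hg g), Finset.sum_add_distrib]
      congr 1
      rw [sum_ite_const, ← Nat.cast_smul_eq_nsmul ℚ]
      congr 2
      rw [Nat.card_congr (Equiv.ofInjective s hs.1).symm, Nat.card_fin]
    · rw [if_neg hs, map_zero, smul_zero, add_zero]
      symm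
      apply Finset.sum_eq_zero
      intro g _
      rw [if_neg]
      intro h
      exact hs ((ok_cons_iff g s).1 h).1
  rw [Finset.sum_congr rfl (fun s _ => hL s), Finset.sum_add_distrib, ← Finset.smul_sum]
  congr 1
  rw [Finset.sum_comm]
  rw [← Fintype.sum_prod_type' (f := fun (g : G) (s : Fin r → G) =>
    if Ok (Fin.cons g s : Fin (r + 1) → G) then
      term (Set.range (Fin.cons g s : Fin (r + 1) → G)) else 0)]
  exact Fintype.sum_equiv (Fin.consEquiv (fun _ : Fin (r + 1) => G)) _ _ fun p => rfl

theorem inertia_comp (r : ℕ) :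
    inertiaR 1 ∘ₗ inertiaR r = inertiaR (r + 1) + (r : ℚ) • inertiaR r := by
  refine Finsupp.lhom_ext' fun i => LinearMap.ext_ring ?_
  simp only [LinearMap.comp_apply, LinearMap.add_apply, LinearMap.smul_apply,
    Finsupp.lsingle_apply]
  rw [inertiaR_single, inertiaR_single, mass_succ]

theorem inertiaR_zero : inertiaR 0 = LinearMap.id := by
  refine Finsupp.lhom_ext' fun i => LinearMap.ext_ring ?_
  simp only [LinearMap.comp_apply, Finsupp.lsingle_apply, LinearMap.id_apply]
  rw [inertiaR_single, mass_zero, cl_rep]

theorem inertiaR_eq_aeval (r : ℕ) :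
    inertiaR r = Polynomial.aeval (inertiaR 1) (descPochhammer ℚ r) := by
  induction r with
  | zero =>
    rw [descPochhammer_zero, map_one, inertiaR_zero]
    rfl
  | succ r ih =>
    have h := inertia_comp r
    rw [descPochhammer_succ_right, mul_comm, map_mul, map_sub, Polynomial.aeval_X, map_natCast,
      ← ih, sub_mul, Module.End.mul_eq_comp, h, ← nsmul_eq_mul, Nat.cast_smul_eq_nsmul,
      add_sub_cancel_right]

end Groth.Agent.H13.Inertia
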