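import Mathlib
import Groth.Agent.H13.Inertia2

/-!
# Eigenspaces of the inertia operator
-/

set_option autoImplicit false
set_option linter.unusedVariables false
universe u v

open W4c5stacksedinertia

namespace Groth.Agent.H13.Inertia

theorem eigenspace_le (k r : ℕ) :
    Module.End.eigenspace inertia (k : ℚ) ≤
      Module.End.eigenspace (inertiaR r) ((Nat.factorial r * Nat.choose k r : ℕ) : ℚ) := by
  intro v hv
  rw [Module.End.mem_eigenspace_iff] at hv ⊢
  by_cases hv0 : v = 0
  · rw [hv0, map_zero, smul_zero]
  have hvec : Module.End.HasEigenvector (inertiaR 1) (k : ℚ) v :=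
    ⟨Module.End.mem_eigenspace_iff.2 hv, hv0⟩
  rw [inertiaR_eq_aeval r, Module.End.aeval_apply_of_hasEigenvector hvec,
    descPochhammer_eval_eq_descFactorial, Nat.descFactorial_eq_factorial_mul_choose]

theorem isCoprime_descPochhammer (r : ℕ) :
    IsCoprime (descPochhammer ℚ r) (Polynomial.X - (r : Polynomial ℚ)) := by
  have hX : (Polynomial.X - (r : Polynomial ℚ)) = Polynomial.X - Polynomial.C (r : ℚ) := by
    rw [Polynomial.C_eq_natCast]
  rw [hX]
  apply IsCoprime.symm
  rw [(Polynomial.irreducible_X_sub_C (r : ℚ)).coprime_iff_not_dvd, Polynomial.dvd_iff_isRoot,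
    Polynomial.IsRoot, descPochhammer_eval_eq_descFactorial, Nat.descFactorial_self]
  exact_mod_cast (Nat.factorial_pos r).ne'

theorem ker_inertiaR (r : ℕ) :
    LinearMap.ker (inertiaR r) =
      ⨆ k ∈ Finset.range r, Module.End.eigenspace inertia (k : ℚ) := by
  induction r with
  | zero =>
    rw [inertiaR_zero, LinearMap.ker_id]
    simp
  | succ r ih =>
    rw [Finset.range_add_one, Finset.iSup_insert, ← ih, inertiaR_eq_aeval (r + 1),
      descPochhammer_succ_right,
      ← Polynomial.sup_ker_aeval_eq_ker_aeval_mul_of_coprime _ (isCoprime_descPochhammer r),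
      ← inertiaR_eq_aeval r, sup_comm]
    congr 1
    rw [Module.End.eigenspace_def, map_sub, Polynomial.aeval_X, map_natCast]
    rfl

end Groth.Agent.H13.Inertia
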