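import Mathlib
import Groth.Agent.H13.Inertia3

/-!
# Diagonalizability of the inertia operator and the eigenprojections
-/

set_option autoImplicit false
set_option linter.unusedVariables false
universe u v

open W4c5stacksedinertia

namespace Groth.Agent.H13.Inertia

theorem mass_eq_zero_of_card_lt (r : ℕ) (G : Type u) [Group G] [Finite G]
    (h : Nat.card G < r) : mass r G = 0 := by
  classical
  let _ := Fintype.ofFinite G
  rw [mass_eq_sum]
  apply Finset.sum_eq_zero
  intro s _
  rw [if_neg]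
  intro hs
  have := Fintype.card_le_of_injective s hs.1
  rw [Fintype.card_fin, ← Nat.card_eq_fintype_card] at this
  omega

theorem single_mem_iSup (i : Idx) :
    Finsupp.single i (1 : ℚ) ∈ ⨆ n : ℕ, Module.End.eigenspace inertia (n : ℚ) := by
  have h1 : Finsupp.single i (1 : ℚ) ∈ LinearMap.ker (inertiaR (Nat.card i.rep + 1)) := by
    rw [LinearMap.mem_ker, inertiaR_single]
    exact mass_eq_zero_of_card_lt _ _ (Nat.lt_succ_self _)
  rw [ker_inertiaR] at h1
  have hle : (⨆ k ∈ Finset.range (Nat.card i.rep + 1), Module.End.eigenspace inertia (k : ℚ)) ≤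
      ⨆ n : ℕ, Module.End.eigenspace inertia (n : ℚ) :=
    iSup₂_le fun k _ => le_iSup (fun n : ℕ => Module.End.eigenspace inertia (n : ℚ)) k
  exact hle h1

theorem iSup_eigenspace : (⨆ n : ℕ, Module.End.eigenspace inertia (n : ℚ)) = ⊤ := by
  rw [eq_top_iff]
  intro v hv
  clear hv
  induction v using Finsupp.induction_linear with
  | zero => exact Submodule.zero_mem _
  | add f g hf hg => exact Submodule.add_mem _ hf hg
  | single i q =>
    have : Finsupp.single i q = q • Finsupp.single i (1 : ℚ) := by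
      rw [Finsupp.smul_single, smul_eq_mul, mul_one]
    rw [this]
    exact Submodule.smul_mem _ _ (single_mem_iSup i)

theorem mass_one_comm (G : Type u) [CommGroup G] [Finite G] :
    mass 1 G = (Nat.card G : ℚ) • cl G := by
  classical
  let _ := Fintype.ofFinite G
  rw [mass_one]
  have : ∀ h : G, term ({h} : Set G) = cl G := fun h =>
    term_of_central _ (fun x _ => Subgroup.mem_center_iff.2 fun g => mul_comm _ _)
  rw [Finset.sum_congr rfl (fun h _ => this h), Finset.sum_const, Finset.card_univ,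
    ← Nat.card_eq_fintype_card, Nat.cast_smul_eq_nsmul]

theorem hasEigenvalue_nat (n : ℕ) (hn : 0 < n) : Module.End.HasEigenvalue inertia (n : ℚ) := by
  have : NeZero n := ⟨hn.ne'⟩
  have hcard : Nat.card (Multiplicative (ZMod n)) = n := by
    rw [Nat.card_congr Multiplicative.toAdd, Nat.card_zmod]
  apply Module.End.hasEigenvalue_of_hasEigenvector (x := cl (Multiplicative (ZMod n)))
  refine ⟨Module.End.mem_eigenspace_iff.2 ?_, ?_⟩
  · rw [inertiaR_cl, mass_one_comm, hcard]
  · unfold cl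
    intro h
    have := Finsupp.single_eq_zero.1 h
    exact one_ne_zero this

theorem eigenvalue_is_nat (μ : ℚ) (h : Module.End.HasEigenvalue inertia μ) :
    ∃ n : ℕ, 0 < n ∧ μ = n := by
  obtain ⟨v, hv⟩ := h.exists_hasEigenvector
  have hv0 : v ≠ 0 := hv.2
  have hvμ : inertiaR 1 v = μ • v := Module.End.mem_eigenspace_iff.1 hv.1
  have hsupp : v.support.Nonempty := Finsupp.support_nonempty_iff.2 hv0
  obtain ⟨i, hi, hmin⟩ := Finset.exists_min_image v.support Idx.centerCard hsupp
  have hvk : v ∈ Kge i.centerCard := by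
    unfold Kge
    rw [Finsupp.mem_supported]
    intro j hj
    exact hmin j hj
  have h1 := inertiaR_sub_mem 1 i.centerCard v hvk
  rw [hvμ, Nat.factorial_one, one_mul, Nat.choose_one_right, ← sub_smul] at h1
  have h2 : ((μ - (i.centerCard : ℚ)) • v) i = 0 := by
    unfold Kge at h1
    rw [Finsupp.mem_supported'] at h1
    exact h1 i (fun (h : i.centerCard + 1 ≤ i.centerCard) => Nat.lt_irrefl _ h)
  rw [Finsupp.smul_apply, smul_eq_mul, mul_eq_zero] at h2
  rcases h2 with h2 | h2
  · refine ⟨i.centerCard, ?_, sub_eq_zero.1 h2⟩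
    show 0 < Nat.card (Subgroup.center i.rep)
    exact Nat.card_pos
  · exact absurd h2 (Finsupp.mem_support_iff.1 hi)

theorem diag_result :
    (⨆ n : ℕ, Module.End.eigenspace inertia (n : ℚ)) = ⊤ ∧
    ∀ μ : ℚ, Module.End.HasEigenvalue inertia μ ↔ ∃ n : ℕ, 0 < n ∧ μ = (n : ℚ) := by
  refine ⟨iSup_eigenspace, fun μ => ⟨eigenvalue_is_nat μ, ?_⟩⟩
  rintro ⟨n, hn, rfl⟩
  exact hasEigenvalue_nat n hn

/-! ## Eigenprojections -/

theorem binom_inv (N n k : ℕ) (hn : n < N) :
    ∑ r ∈ Finset.range N, ((-1 : ℚ) ^ (r + k) * (r.choose k : ℚ) * (n.choose r : ℚ)) =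
      if n = k then 1 else 0 := by
  have h1 : ∑ r ∈ Finset.range N, ((-1 : ℚ) ^ (r + k) * (r.choose k : ℚ) * (n.choose r : ℚ)) =
      ∑ r ∈ Finset.range (n + 1),
        ((-1 : ℚ) ^ (r + k) * (r.choose k : ℚ) * (n.choose r : ℚ)) := by
    symm
    apply Finset.sum_subset (Finset.range_mono (by omega))
    intro r _ hr
    have : n < r := by
      rw [Finset.mem_range] at hr; omega
    rw [Nat.choose_eq_zero_of_lt this, Nat.cast_zero, mul_zero]
  rw [h1]
  by_cases hkn : k ≤ n
  · obtain ⟨m, rfl⟩ := Nat.exists_eq_add_of_le hkn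
    rw [show k + m + 1 = k + (m + 1) from rfl, Finset.sum_range_add]
    have h2 : ∑ r ∈ Finset.range k,
        ((-1 : ℚ) ^ (r + k) * (r.choose k : ℚ) * ((k + m).choose r : ℚ)) = 0 := by
      apply Finset.sum_eq_zero
      intro r hr
      rw [Finset.mem_range] at hr
      rw [Nat.choose_eq_zero_of_lt hr, Nat.cast_zero, mul_zero, zero_mul]
    rw [h2, zero_add]
    have h3 : ∀ j ∈ Finset.range (m + 1),
        ((-1 : ℚ) ^ (k + j + k) * ((k + j).choose k : ℚ) * ((k + m).choose (k + j) : ℚ)) =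
        ((k + m).choose k : ℚ) * ((-1 : ℚ) ^ j * (m.choose j : ℚ)) := by
      intro j _
      have h4 : (k + m).choose (k + j) * (k + j).choose k = (k + m).choose k * m.choose j := by
        rw [Nat.choose_mul (Nat.le_add_right k j), Nat.add_sub_cancel_left,
          Nat.add_sub_cancel_left]
      have h5 : ((-1 : ℚ)) ^ (k + j + k) = (-1) ^ j := by
        rw [show k + j + k = j + 2 * k by ring, pow_add, pow_mul, neg_one_sq, one_pow, mul_one]
      have h6 : (((k + m).choose (k + j) : ℚ)) * ((k + j).choose k : ℚ) =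
          ((k + m).choose k : ℚ) * (m.choose j : ℚ) := by exact_mod_cast h4
      rw [h5]
      calc (-1 : ℚ) ^ j * ((k + j).choose k : ℚ) * ((k + m).choose (k + j) : ℚ)
          = (-1 : ℚ) ^ j * ((((k + m).choose (k + j) : ℚ)) * ((k + j).choose k : ℚ)) := by ring
        _ = _ := by rw [h6]; ring
    rw [Finset.sum_congr rfl h3, ← Finset.mul_sum]
    have h7 : ∑ j ∈ Finset.range (m + 1), ((-1 : ℚ) ^ j * (m.choose j : ℚ)) =
        if m = 0 then 1 else 0 := by
      have := congrArg (Int.cast : ℤ → ℚ) (Int.alternating_sum_range_choose (n := m))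
      push_cast at this
      exact this
    rw [h7]
    by_cases hm : m = 0
    · subst hm
      simp
    · rw [if_neg hm, mul_zero, if_neg]
      omega
  · rw [not_le] at hkn
    rw [if_neg (by omega)]
    apply Finset.sum_eq_zero
    intro r hr
    rw [Finset.mem_range] at hr
    rw [Nat.choose_eq_zero_of_lt (by omega : r < k), Nat.cast_zero, mul_zero, zero_mul]

theorem inertiaR_eq_zero_of_lt (v : K) (r : ℕ) (hr : v.support.sup Idx.card < r) :
    inertiaR r v = 0 := by
  unfold inertiaR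
  rw [Finsupp.linearCombination_apply, Finsupp.sum]
  apply Finset.sum_eq_zero
  intro i hi
  have h1 : i.card < r := lt_of_le_of_lt (Finset.le_sup (f := Idx.card) hi) hr
  rw [inertiaROf_eq_mass, mass_eq_zero_of_card_lt _ _ h1, smul_zero]

theorem proj_exists (v : K) :
    ∃ (N : ℕ) (w : ℕ → K), (∀ n : ℕ, w n ∈ Module.End.eigenspace inertia (n : ℚ)) ∧
      (∀ n : ℕ, N ≤ n → w n = 0) ∧ (∑ n ∈ Finset.range N, w n = v) ∧
      ∀ k, (∑ᶠ r : ℕ, (((-1 : ℚ) ^ (r + k)) / (Nat.factorial r : ℚ) * (Nat.choose r k : ℚ)) •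
        inertiaR r v) = w k := by
  classical
  obtain ⟨N, hN⟩ : ∃ N, N = v.support.sup Idx.card + 1 := ⟨_, rfl⟩
  have hzero : ∀ r, N ≤ r → inertiaR r v = 0 := fun r hr =>
    inertiaR_eq_zero_of_lt v r (by omega)
  have hker : v ∈ LinearMap.ker (inertiaR N) := LinearMap.mem_ker.2 (hzero N le_rfl)
  rw [ker_inertiaR, Submodule.mem_iSup_finset_iff_exists_sum] at hker
  obtain ⟨μ, hμ⟩ := hker
  obtain ⟨w, hwdef⟩ : ∃ w : ℕ → K, w = fun n => if n < N then (μ n : K) else 0 := ⟨_, rfl⟩
  have hw : ∀ n : ℕ, w n ∈ Module.End.eigenspace inertia (n : ℚ) := by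
    intro n
    rw [hwdef]
    show (if n < N then (μ n : K) else 0) ∈ _
    split_ifs
    · exact (μ n).2
    · exact Submodule.zero_mem _
  have hw0 : ∀ n, N ≤ n → w n = 0 := fun n hn => by
    rw [hwdef]
    exact if_neg (by omega)
  have hsum : ∑ n ∈ Finset.range N, w n = v := by
    rw [← hμ, hwdef]
    refine Finset.sum_congr rfl fun n hn => ?_
    exact if_pos (Finset.mem_range.1 hn)
  refine ⟨N, w, hw, hw0, hsum, fun k => ?_⟩
  have hR : ∀ r, inertiaR r v =
      ∑ n ∈ Finset.range N, ((Nat.factorial r * Nat.choose n r : ℕ) : ℚ) • w n := by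
    intro r
    calc inertiaR r v = inertiaR r (∑ n ∈ Finset.range N, w n) := by rw [hsum]
      _ = ∑ n ∈ Finset.range N, inertiaR r (w n) := map_sum _ _ _
      _ = _ := Finset.sum_congr rfl fun n _ =>
        Module.End.mem_eigenspace_iff.1 (eigenspace_le n r (hw n))
  have hsupp : Function.support (fun r : ℕ =>
      (((-1 : ℚ) ^ (r + k)) / (Nat.factorial r : ℚ) * (Nat.choose r k : ℚ)) • inertiaR r v) ⊆
      ↑(Finset.range N) := by
    intro r hr
    rw [Function.mem_support] at hr
    rw [Finset.coe_range, Set.mem_Iio]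
    by_contra hcon
    exact hr (by rw [hzero r (by omega), smul_zero])
  rw [finsum_eq_sum_of_support_subset _ hsupp]
  have hterm : ∀ r ∈ Finset.range N,
      (((-1 : ℚ) ^ (r + k)) / (Nat.factorial r : ℚ) * (Nat.choose r k : ℚ)) • inertiaR r v =
      ∑ n ∈ Finset.range N,
        ((-1 : ℚ) ^ (r + k) * (r.choose k : ℚ) * (n.choose r : ℚ)) • w n := by
    intro r _
    rw [hR r, Finset.smul_sum]
    refine Finset.sum_congr rfl fun n _ => ?_
    rw [smul_smul]
    congr 1
    have : (Nat.factorial r : ℚ) ≠ 0 := by exact_mod_cast (Nat.factorial_pos r).ne'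
    push_cast
    field_simp
  rw [Finset.sum_congr rfl hterm, Finset.sum_comm]
  have hcoef : ∀ n ∈ Finset.range N, ∑ r ∈ Finset.range N,
      ((-1 : ℚ) ^ (r + k) * (r.choose k : ℚ) * (n.choose r : ℚ)) • w n =
      if n = k then w n else 0 := by
    intro n hn
    rw [← Finset.sum_smul, binom_inv N n k (Finset.mem_range.1 hn), ite_smul, one_smul,
      zero_smul]
  rw [Finset.sum_congr rfl hcoef, Finset.sum_ite_eq']
  split_ifs with hk
  · rfl
  · rw [Finset.mem_range] at hk
    exact (hw0 k (by omega)).symm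

theorem proj_result (v : K) :
    (∀ k : ℕ, (∑ᶠ r : ℕ, (((-1 : ℚ) ^ (r + k)) / (Nat.factorial r : ℚ) * (Nat.choose r k : ℚ)) •
        inertiaR r v) ∈ Module.End.eigenspace inertia (k : ℚ)) ∧
    (∑ᶠ k : ℕ, ∑ᶠ r : ℕ, (((-1 : ℚ) ^ (r + k)) / (Nat.factorial r : ℚ) * (Nat.choose r k : ℚ)) •
        inertiaR r v) = v := by
  obtain ⟨N, w, hw, hw0, hsum, hP⟩ := proj_exists v
  refine ⟨fun k => by rw [hP k]; exact hw k, ?_⟩
  rw [finsum_congr hP]
  have hsupp : Function.support w ⊆ ↑(Finset.range N) := by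
    intro n hn
    rw [Function.mem_support] at hn
    rw [Finset.coe_range, Set.mem_Iio]
    by_contra hcon
    exact hn (hw0 n (by omega))
  rw [finsum_eq_sum_of_support_subset _ hsupp, hsum]

end Groth.Agent.H13.Inertia
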