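import Mathlib

/-!
# Inverse limits of `I^{n+1}`-torsion modules over an adically complete ring

Helper for S7852 / S7853.
-/

set_option autoImplicit false
universe u v

namespace Groth.Agent.H13.InvLim

open Submodule in
theorem main (A : Type u) [CommRing A] (I : Ideal A) [IsAdicComplete I A]
    (M : ℕ → Type v) [∀ n, AddCommGroup (M n)] [∀ n, Module A (M n)]
    (f : ∀ n, M (n + 1) →ₗ[A] M n) (hf : ∀ n, Function.Surjective (f n))
    (hk : ∀ n, I ^ (n + 1) • (⊤ : Submodule A (M n)) = ⊥)
    (hker : ∀ n, LinearMap.ker (f n) = I ^ (n + 1) • (⊤ : Submodule A (M (n + 1))))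
    (L : Type v) [AddCommGroup L] [Module A L] (π : ∀ n, L →ₗ[A] M n)
    (hπ : ∀ n, f n ∘ₗ π (n + 1) = π n)
    (hinj : ∀ x : L, (∀ n, π n x = 0) → x = 0)
    (hlift : ∀ y : (∀ n, M n), (∀ n, f n (y (n + 1)) = y n) → ∃ x : L, ∀ n, π n x = y n)
    (h0 : Module.Finite A (M 0)) :
    Module.Finite A L ∧ IsAdicComplete I L ∧
      ∀ n, Function.Surjective (π n) ∧ LinearMap.ker (π n) = I ^ (n + 1) • (⊤ : Submodule A L) := by
  classical
  have hπ' : ∀ n (z : L), f n (π (n + 1) z) = π n z := fun n z => LinearMap.congr_fun (hπ n) z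
  -- `π 0` is surjective
  have hsurj0 : Function.Surjective (π 0) := by
    intro y
    let w : ∀ m, M m := fun m =>
      Nat.rec (motive := fun m => M m) y (fun m wm => Function.surjInv (hf m) wm) m
    obtain ⟨x, hx⟩ := hlift w (fun m => Function.surjInv_eq (hf m) (w m))
    exact ⟨x, hx 0⟩
  obtain ⟨r, s, hs⟩ := Submodule.fg_iff_exists_fin_generating_family.1 h0.fg_top
  choose x hx using fun i => hsurj0 (s i)
  -- the images of the `x i` generate every `M m`
  have hgen : ∀ m, (⊤ : Submodule A (M m)) ≤ span A (Set.range fun i => π m (x i)) := by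
    intro m
    induction m with
    | zero =>
      have e : (fun i => π 0 (x i)) = s := funext hx
      rw [e, hs]
    | succ m ih =>
      have h1 : (⊤ : Submodule A (M (m + 1))) ≤
          span A (Set.range fun i => π (m + 1) (x i)) ⊔ I ^ (m + 1) • ⊤ := by
        intro y _
        have hy : f m y ∈ span A (Set.range fun i => π m (x i)) := ih Submodule.mem_top
        obtain ⟨c, hc⟩ := (Submodule.mem_span_range_iff_exists_fun A).1 hy
        have hy2 : y - ∑ i, c i • π (m + 1) (x i) ∈ LinearMap.ker (f m) := by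
          rw [LinearMap.mem_ker, map_sub, map_sum, ← hc, sub_eq_zero]
          refine Finset.sum_congr rfl fun i _ => ?_
          rw [map_smul, hπ']
        rw [hker m] at hy2
        have e : y = ∑ i, c i • π (m + 1) (x i) + (y - ∑ i, c i • π (m + 1) (x i)) := by abel
        rw [e]
        refine Submodule.add_mem_sup ?_ hy2
        exact Submodule.sum_mem _ fun i _ =>
          Submodule.smul_mem _ _ (Submodule.subset_span ⟨i, rfl⟩)
      have h2 : I ^ (m + 1) • (⊤ : Submodule A (M (m + 1))) ≤
          span A (Set.range fun i => π (m + 1) (x i)) := by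
        calc I ^ (m + 1) • (⊤ : Submodule A (M (m + 1)))
            ≤ I ^ (m + 1) • (span A (Set.range fun i => π (m + 1) (x i)) ⊔ I ^ (m + 1) • ⊤) :=
              Submodule.smul_mono le_rfl h1
          _ = I ^ (m + 1) • span A (Set.range fun i => π (m + 1) (x i)) ⊔
                I ^ (m + 1) • (I ^ (m + 1) • (⊤ : Submodule A (M (m + 1)))) :=
              Submodule.smul_sup _ _ _
          _ ≤ span A (Set.range fun i => π (m + 1) (x i)) := by
              refine sup_le Submodule.smul_le_right ?_
              rw [← Submodule.mul_smul, ← pow_add]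
              have h3 : I ^ (m + 1 + (m + 1)) ≤ I ^ (m + 1 + 1) :=
                Ideal.pow_le_pow_right (by omega)
              calc I ^ (m + 1 + (m + 1)) • (⊤ : Submodule A (M (m + 1)))
                  ≤ I ^ (m + 1 + 1) • ⊤ := Submodule.smul_mono_left h3
                _ = ⊥ := hk (m + 1)
                _ ≤ _ := bot_le
      exact h1.trans (sup_le le_rfl h2)
  have hF2 : ∀ m (z : L), π m z = 0 →
      π (m + 1) z ∈ I ^ (m + 1) • (⊤ : Submodule A (M (m + 1))) := by
    intro m z hz
    rw [← hker m, LinearMap.mem_ker, hπ', hz]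
  have hF3 : ∀ m (z : L), π (m + 1) z ∈ I ^ (m + 1) • (⊤ : Submodule A (M (m + 1))) →
      π m z = 0 := by
    intro m z hz
    rw [← hker m, LinearMap.mem_ker, hπ'] at hz
    exact hz
  have hdesc : ∀ k k' (z : L), k ≤ k' → π k' z = 0 → π k z = 0 := by
    intro k k' z hkk'
    induction k', hkk' using Nat.le_induction with
    | base => exact id
    | succ k' hk' ih =>
      intro h
      apply ih
      rw [← hπ', h, map_zero]
  have hstep : ∀ m (z : L), π m z ∈ I ^ m • (⊤ : Submodule A (M m)) →
      ∃ a : Fin r → A, (∀ i, a i ∈ I ^ m) ∧ π m (z - ∑ i, a i • x i) = 0 := by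
    intro m z hz
    have hz' : π m z ∈ I ^ m • span A (Set.range fun i => π m (x i)) := by
      have e : span A (Set.range fun i => π m (x i)) = ⊤ := top_le_iff.1 (hgen m)
      rw [e]; exact hz
    obtain ⟨a, ha, hsum⟩ :=
      (Submodule.mem_ideal_smul_span_iff_exists_sum (I ^ m) (fun i => π m (x i)) (π m z)).1 hz'
    refine ⟨a, ha, ?_⟩
    rw [map_sub, map_sum, sub_eq_zero, ← hsum,
      Finsupp.sum_fintype a (fun i c => c • π m (x i)) (fun i => zero_smul _ _)]
    refine Finset.sum_congr rfl fun i _ => ?_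
    rw [map_smul]
  -- the key approximation lemma
  have hkey : ∀ n (z0 : L), π n z0 ∈ I ^ n • (⊤ : Submodule A (M n)) →
      ∃ b : Fin r → A, (∀ i, b i ∈ I ^ n) ∧ z0 = ∑ i, b i • x i := by
    intro n z0 hz0
    have hstep' : ∀ m (z : L), ∃ a : Fin r → A, π m z ∈ I ^ m • (⊤ : Submodule A (M m)) →
        (∀ i, a i ∈ I ^ m) ∧ π m (z - ∑ i, a i • x i) = 0 := by
      intro m z
      by_cases h : π m z ∈ I ^ m • (⊤ : Submodule A (M m))
      · obtain ⟨a, ha⟩ := hstep m z h
        exact ⟨a, fun _ => ha⟩
      · exact ⟨0, fun h' => absurd h' h⟩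
    choose a ha using hstep'
    let z : ℕ → L := fun j =>
      Nat.rec (motive := fun _ => L) z0 (fun j zj => zj - ∑ i, a (n + j) zj i • x i) j
    have hz_succ : ∀ j, z (j + 1) = z j - ∑ i, a (n + j) (z j) i • x i := fun j => rfl
    have hzP : ∀ j, π (n + j) (z j) ∈ I ^ (n + j) • (⊤ : Submodule A (M (n + j))) := by
      intro j
      induction j with
      | zero => exact hz0
      | succ j ih =>
        rw [hz_succ]
        exact hF2 (n + j) _ ((ha (n + j) (z j) ih).2)
    have ha_mem : ∀ j i, a (n + j) (z j) i ∈ I ^ (n + j) :=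
      fun j i => (ha (n + j) (z j) (hzP j)).1 i
    have hz_eq : ∀ J, z J = z0 - ∑ i, (∑ j ∈ Finset.range J, a (n + j) (z j) i) • x i := by
      intro J
      induction J with
      | zero => simp [z]
      | succ J ih =>
        have e1 : ∑ i, (∑ j ∈ Finset.range (J + 1), a (n + j) (z j) i) • x i =
            ∑ i, (∑ j ∈ Finset.range J, a (n + j) (z j) i) • x i +
              ∑ i, a (n + J) (z J) i • x i := by
          simp only [Finset.sum_range_succ, add_smul, Finset.sum_add_distrib]
        rw [e1, hz_succ]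
        generalize (∑ i, a (n + J) (z J) i • x i) = t
        rw [ih]
        abel
    have hcauchy : ∀ i, ∃ b : A, ∀ J,
        (∑ j ∈ Finset.range J, a (n + j) (z j) i) ≡ b [SMOD (I ^ J • ⊤ : Submodule A A)] := by
      intro i
      apply IsPrecomplete.prec' (I := I)
      intro m k hmk
      rw [SModEq.sub_mem, smul_eq_mul, Ideal.mul_top, ← Finset.sum_range_add_sum_Ico _ hmk,
        sub_add_cancel_left]
      apply neg_mem
      refine Ideal.sum_mem _ fun j hj => ?_
      exact Ideal.pow_le_pow_right (by have := (Finset.mem_Ico.1 hj).1; omega) (ha_mem j i)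
    choose b hb using hcauchy
    have hb' : ∀ i J, (∑ j ∈ Finset.range J, a (n + j) (z j) i) - b i ∈ I ^ J := by
      intro i J
      have h := hb i J
      rw [SModEq.sub_mem, smul_eq_mul, Ideal.mul_top] at h
      exact h
    refine ⟨b, fun i => ?_, ?_⟩
    · have h1 : (∑ j ∈ Finset.range n, a (n + j) (z j) i) ∈ I ^ n :=
        Ideal.sum_mem _ fun j _ => Ideal.pow_le_pow_right (Nat.le_add_right n j) (ha_mem j i)
      have h2 := hb' i n
      have e : b i = (∑ j ∈ Finset.range n, a (n + j) (z j) i) -
          ((∑ j ∈ Finset.range n, a (n + j) (z j) i) - b i) := by ring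
      rw [e]
      exact sub_mem h1 h2
    · rw [← sub_eq_zero]
      apply hinj
      intro m
      have e : z0 - ∑ i, b i • x i = z (m + 1) +
          ∑ i, ((∑ j ∈ Finset.range (m + 1), a (n + j) (z j) i) - b i) • x i := by
        rw [hz_eq (m + 1)]
        simp only [sub_smul, Finset.sum_sub_distrib]
        abel
      rw [e, map_add, map_sum]
      have h1 : π m (z (m + 1)) = 0 := by
        have h2 := hF3 (n + m) (z (m + 1)) (hzP (m + 1))
        exact hdesc m (n + m) _ (Nat.le_add_left m n) h2
      rw [h1, zero_add]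
      refine Finset.sum_eq_zero fun i _ => ?_
      rw [map_smul]
      have h3 := Submodule.smul_mem_smul (hb' i (m + 1))
        (Submodule.mem_top : π m (x i) ∈ (⊤ : Submodule A (M m)))
      rw [hk m] at h3
      exact (Submodule.mem_bot _).1 h3
  have hkerπ : ∀ n, LinearMap.ker (π n) = I ^ (n + 1) • (⊤ : Submodule A L) := by
    intro n
    apply le_antisymm
    · intro z hz
      obtain ⟨b, hb, rfl⟩ := hkey (n + 1) z (hF2 n z hz)
      exact Submodule.sum_mem _ fun i _ => Submodule.smul_mem_smul (hb i) Submodule.mem_top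
    · rw [Submodule.smul_le]
      intro c hc z _
      rw [LinearMap.mem_ker, map_smul]
      have h3 := Submodule.smul_mem_smul hc
        (Submodule.mem_top : π n z ∈ (⊤ : Submodule A (M n)))
      rw [hk n] at h3
      exact (Submodule.mem_bot _).1 h3
  have hspan : span A (Set.range x) = ⊤ := by
    refine top_le_iff.1 fun z _ => ?_
    obtain ⟨b, -, hb⟩ := hkey 0 z (by
      rw [pow_zero, Ideal.one_eq_top, Submodule.top_smul]; exact Submodule.mem_top)
    rw [hb]
    exact Submodule.sum_mem _ fun i _ =>
      Submodule.smul_mem _ _ (Submodule.subset_span ⟨i, rfl⟩)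
  refine ⟨⟨hspan ▸ Submodule.fg_span (Set.finite_range x)⟩, ?_, fun n => ⟨?_, hkerπ n⟩⟩
  · refine { haus' := ?_, prec' := ?_ }
    · intro z hz
      apply hinj
      intro n
      have h := hz (n + 1)
      rw [SModEq.sub_mem, sub_zero, ← hkerπ n] at h
      exact h
    · intro g hg
      have hcompat : ∀ n, f n (π (n + 1) (g (n + 1 + 1))) = π n (g (n + 1)) := by
        intro n
        rw [hπ']
        have h := hg (Nat.le_succ (n + 1))
        rw [SModEq.sub_mem, ← hkerπ n, LinearMap.mem_ker, map_sub, sub_eq_zero] at h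
        exact h.symm
      obtain ⟨y, hy⟩ := hlift (fun n => π n (g (n + 1))) hcompat
      refine ⟨y, fun n => ?_⟩
      cases n with
      | zero =>
        rw [pow_zero, Ideal.one_eq_top, Submodule.top_smul]
        exact SModEq.top
      | succ n =>
        rw [SModEq.sub_mem, ← hkerπ n, LinearMap.mem_ker, map_sub, hy n, sub_self]
  · rw [← LinearMap.range_eq_top]
    refine top_le_iff.1 ((hgen n).trans (Submodule.span_le.2 ?_))
    rintro _ ⟨i, rfl⟩
    exact ⟨x i, rfl⟩

end Groth.Agent.H13.InvLim
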