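import Groth.Agent.H13.LCFaltings
import Groth.Agent.Lib.Helper7.Melkersson

/-!
# Artinianness of local cohomology
-/

set_option autoImplicit false
set_option linter.style.haveILetI false

open CategoryTheory Limits Opposite Pointwise

namespace Groth.Agent.H13.LC

universe u

variable {R : Type u} [CommRing R]

/-- Melkersson step: if `x ∈ I` is `M`-regular and `H^i_I(M/xM)` is Artinian, so is
`H^{i+1}_I(M)`. -/
theorem isArtinian_succ_of_regular (I : Ideal R) (i : ℕ) {M : Type u} [AddCommGroup M]
    [Module R M] (x : R) (hx : x ∈ I) (hreg : IsSMulRegular M x)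
    (hA : IsArtinian R ((localCohomology I i).obj (ModuleCat.of R (QuotSMulTop x M)))) :
    IsArtinian R ((localCohomology I (i + 1)).obj (ModuleCat.of R M)) := by
  have hS := scLin_shortExact _ _ (exact_smul_mkQ (M := M) x) (fun a b hab => hreg hab)
    (Submodule.mkQ_surjective _)
  have htors : ∀ z : (localCohomology I (i + 1)).obj (ModuleCat.of R M), ∃ n : ℕ,
      x ^ n • z = 0 := fun z => by
    obtain ⟨n, hn⟩ := isPowerTorsion I (i + 1) _ z
    exact ⟨n, hn _ (Ideal.pow_mem_pow hx n)⟩
  haveI : IsArtinian R ((localCohomology I i).obj (scLin _ _ (exact_smul_mkQ (M := M) x)).X₃) := hA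
  let φ : (localCohomology I i).obj (scLin _ _ (exact_smul_mkQ (M := M) x)).X₃ →ₗ[R]
      Submodule.torsionBy R ((localCohomology I (i + 1)).obj (ModuleCat.of R M)) x :=
    LinearMap.codRestrict _ (δ I _ hS i).hom (fun y => by
      rw [Submodule.mem_torsionBy_iff]
      exact (map_smul_id_apply I (i + 1) M x _).symm.trans
        ((exact₁ I _ hS i).apply_apply_eq_zero y))
  have hφ : Function.Surjective φ := by
    rintro ⟨z, hz⟩
    rw [Submodule.mem_torsionBy_iff] at hz
    have h1 : ((localCohomology I (i + 1)).map (scLin _ _ (exact_smul_mkQ (M := M) x)).f).hom z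
        = 0 := (map_smul_id_apply I (i + 1) M x z).trans hz
    obtain ⟨y, hy⟩ := (exact₁ I _ hS i z).mp h1
    exact ⟨y, Subtype.ext hy⟩
  haveI : IsArtinian R (Submodule.torsionBy R
      ((localCohomology I (i + 1)).obj (ModuleCat.of R M)) x) := isArtinian_of_surjective _ φ hφ
  exact Groth.Agent.Helper7.Melk.isArtinian_of_torsion x htors

variable [IsNoetherianRing R] [IsLocalRing R]

/-- A finite module which is power-torsion for the maximal ideal is Artinian. -/
theorem isArtinian_of_finite_of_powerTorsion (N : Type u) [AddCommGroup N] [Module R N]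
    [Module.Finite R N] (h : LocCoh.IsPowerTorsion (IsLocalRing.maximalIdeal R) N) :
    IsArtinian R N := by
  apply Groth.Agent.Helper7.Melk.isArtinian_of_powerTorsion (IsLocalRing.maximalIdeal R)
    (IsNoetherian.noetherian _) h
  haveI : IsNoetherian R N := isNoetherian_of_isNoetherianRing_of_finite R N
  haveI : Module.Finite (R ⧸ IsLocalRing.maximalIdeal R)
      (Submodule.torsionBySet R N (IsLocalRing.maximalIdeal R : Set R)) :=
    Module.Finite.of_restrictScalars_finite R _ _
  letI : Field (R ⧸ IsLocalRing.maximalIdeal R) := Ideal.Quotient.field _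
  haveI : IsArtinian (R ⧸ IsLocalRing.maximalIdeal R)
      (Submodule.torsionBySet R N (IsLocalRing.maximalIdeal R : Set R)) := inferInstance
  exact isArtinian_of_surjective_algebraMap (S := R) (R := R ⧸ IsLocalRing.maximalIdeal R)
    Ideal.Quotient.mk_surjective

/-- `H^i_m(M)` is Artinian for finite `M`. -/
theorem isArtinian_max (i : ℕ) : ∀ (M : Type u) [AddCommGroup M] [Module R M],
    Module.Finite R M →
    IsArtinian R ((localCohomology (IsLocalRing.maximalIdeal R) i).obj (ModuleCat.of R M)) := by
  induction i with
  | zero =>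
    intro M _ _ hfin
    haveI := finite_H0 (IsLocalRing.maximalIdeal R) M
    exact isArtinian_of_finite_of_powerTorsion _ (isPowerTorsion _ 0 _)
  | succ i ih =>
    intro M _ _ hfin
    have htors' := torsionSub_quotient_eq_bot (IsLocalRing.maximalIdeal R) M
    have hbij := map_mkQ_bijective (IsLocalRing.maximalIdeal R) M (i + 1) (Nat.succ_pos i)
    obtain ⟨x, hxI, hreg⟩ := exists_isSMulRegular_of_torsionSub_eq_bot (IsLocalRing.maximalIdeal R)
      (M ⧸ DRing.torsionSub (IsLocalRing.maximalIdeal R) M) htors'
    have hA := ih (QuotSMulTop x (M ⧸ DRing.torsionSub (IsLocalRing.maximalIdeal R) M))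
      inferInstance
    haveI := isArtinian_succ_of_regular (IsLocalRing.maximalIdeal R) i x hxI hreg hA
    exact isArtinian_of_linearEquiv (LinearEquiv.ofBijective _ hbij).symm

omit [IsNoetherianRing R] in
lemma withBot_eq_zero_of_le (x : WithBot ℕ∞) (h : x ≤ 0) (h' : x ≠ ⊥) : x = 0 := by
  induction x using WithBot.recBotCoe with
  | bot => exact absurd rfl h'
  | coe n =>
    have : n ≤ 0 := by exact_mod_cast h
    have : n = 0 := nonpos_iff_eq_zero.mp this
    rw [this]
    rfl

/-- A finite module of dimension `≤ 0` over a Noetherian local ring is Artinian. -/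
theorem isArtinian_of_supportDim_le_zero (M : Type u) [AddCommGroup M] [Module R M]
    [Module.Finite R M] (h : Module.supportDim R M ≤ 0) : IsArtinian R M := by
  by_cases hbot : Module.supportDim R M = ⊥
  · haveI := (Module.supportDim_eq_bot_iff_subsingleton R M).mp hbot
    exact isArtinian_of_finite
  have h0 := withBot_eq_zero_of_le _ h hbot
  have hsupp := support_of_supportDim_eq_zero R M h0
  rw [Module.support_eq_zeroLocus] at hsupp
  have hrad : IsLocalRing.maximalIdeal R ≤ (Module.annihilator R M).radical := by
    rw [← PrimeSpectrum.vanishingIdeal_zeroLocus_eq_radical, hsupp,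
      PrimeSpectrum.vanishingIdeal_zeroLocus_eq_radical]
    exact Ideal.le_radical
  obtain ⟨k, hk⟩ := Ideal.exists_pow_le_of_le_radical_of_fg hrad (IsNoetherian.noetherian _)
  apply isArtinian_of_finite_of_powerTorsion
  intro m
  exact ⟨k, fun a ha => Module.mem_annihilator.mp (hk ha) m⟩

/-- `H^n_a(M)` is Artinian for finite `M` of dimension at most `n`. -/
theorem isArtinian_top (a : Ideal R) (n : ℕ) : ∀ (M : Type u) [AddCommGroup M] [Module R M],
    Module.Finite R M → Module.supportDim R M ≤ n →
    IsArtinian R ((localCohomology a n).obj (ModuleCat.of R M)) := by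
  induction n with
  | zero =>
    intro M _ _ hfin hdim
    haveI := isArtinian_of_supportDim_le_zero M (by exact_mod_cast hdim)
    exact isArtinian_of_injective (ε a (ModuleCat.of R M)).hom (ε_injective a _)
  | succ n ih =>
    intro M _ _ hfin hdim
    have htors' := torsionSub_quotient_eq_bot a M
    have hbij := map_mkQ_bijective a M (n + 1) (Nat.succ_pos n)
    obtain ⟨x, hxI, hreg⟩ := exists_isSMulRegular_of_torsionSub_eq_bot a
      (M ⧸ DRing.torsionSub a M) htors'
    have hdim' : Module.supportDim R (M ⧸ DRing.torsionSub a M) ≤ ((n + 1 : ℕ) : WithBot ℕ∞) :=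
      (Module.supportDim_le_of_surjective _ (Submodule.mkQ_surjective _)).trans hdim
    have h1 : Module.supportDim R (QuotSMulTop x (M ⧸ DRing.torsionSub a M)) + 1 ≤
        Module.supportDim R (M ⧸ DRing.torsionSub a M) :=
      Module.supportDim_quotSMulTop_succ_le_of_notMem_minimalPrimes
        (fun q hq => hreg.notMem_of_mem_minimalPrimes hq)
    have hA : IsArtinian R ((localCohomology a n).obj
        (ModuleCat.of R (QuotSMulTop x (M ⧸ DRing.torsionSub a M)))) := by
      rcases wb_aux _ (n + 1) (h1.trans hdim') with h2 | ⟨-, h3⟩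
      · haveI := (Module.supportDim_eq_bot_iff_subsingleton R _).mp h2
        haveI := subsingleton_of_subsingleton a n
          (ModuleCat.of R (QuotSMulTop x (M ⧸ DRing.torsionSub a M)))
        exact isArtinian_of_finite
      · exact ih _ inferInstance h3
    haveI := isArtinian_succ_of_regular a n x hxI hreg hA
    exact isArtinian_of_linearEquiv (LinearEquiv.ofBijective _ hbij).symm

end Groth.Agent.H13.LC
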