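import Groth.Agent.H13.LCJac
import Groth.Agent.H13.LCPrincipal

/-!
# Injective modules over an algebra are acyclic for local cohomology over the base
-/

set_option autoImplicit false
set_option linter.style.haveILetI false
set_option linter.unusedSectionVars false

open CategoryTheory Limits Opposite Pointwise

namespace Groth.Agent.H13.LC

universe u

variable {R : Type u} [CommRing R] [IsNoetherianRing R] {R' : Type u} [CommRing R']
  [IsNoetherianRing R'] [Algebra R R']

/-- On a torsion-free injective module, a non-zero-divisor-like element acts bijectively. -/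
theorem smul_bijective_of_injective_of_torsionFree (a' : R') (Q : Type u) [AddCommGroup Q]
    [Module R' Q] [Module.Injective R' Q] (hQ : DRing.torsionSub (Ideal.span {a'}) Q = ⊥) :
    Function.Bijective (fun q : Q => a' • q) := by
  have hzero : ∀ q : Q, a' • q = 0 → q = 0 := by
    intro q hq
    have : q ∈ DRing.torsionSub (Ideal.span {a'}) Q :=
      (mem_torsionSub_span_singleton a' q).mpr ⟨1, by rwa [pow_one]⟩
    rwa [hQ, Submodule.mem_bot] at this
  constructor
  · intro q q' h
    have h' : a' • q = a' • q' := h
    rw [← sub_eq_zero] at h' ⊢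
    rw [← smul_sub] at h'
    exact hzero _ h'
  · intro q
    let μ : R' →ₗ[R'] R' := LinearMap.lsmul R' R' a'
    let f : (R' ⧸ LinearMap.ker μ) →ₗ[R'] R' := (LinearMap.ker μ).liftQ μ le_rfl
    have hf : Function.Injective f := by
      rw [← LinearMap.ker_eq_bot]
      exact Submodule.ker_liftQ_eq_bot' _ μ rfl
    have hle : LinearMap.ker μ ≤ LinearMap.ker (LinearMap.toSpanSingleton R' Q q) := by
      intro r hr
      rw [LinearMap.mem_ker] at hr ⊢
      rw [LinearMap.toSpanSingleton_apply]
      apply hzero
      rw [smul_smul]
      have : a' * r = 0 := hr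
      rw [this, zero_smul]
    let g : (R' ⧸ LinearMap.ker μ) →ₗ[R'] Q :=
      (LinearMap.ker μ).liftQ (LinearMap.toSpanSingleton R' Q q) hle
    obtain ⟨h, hh⟩ := Module.Injective.out (R := R') (Q := Q) f hf g
    refine ⟨h 1, ?_⟩
    have h1 := hh (Submodule.Quotient.mk 1)
    have h2 : f (Submodule.Quotient.mk 1) = a' • (1 : R') := rfl
    have h3 : g (Submodule.Quotient.mk 1) = (1 : R') • q := rfl
    rw [h2, h3, _root_.map_smul, one_smul] at h1
    exact h1

theorem subsingleton_of_injective_algebra_finset (s : Finset R) :
    ∀ (E' : Type u) [AddCommGroup E'] [Module R' E'] [Module R E'] [IsScalarTower R R' E']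
      [Module.Injective R' E'] (i : ℕ),
      Subsingleton ((localCohomology (Ideal.span (s : Set R)) (i + 1)).obj
        (ModuleCat.of R E')) := by
  classical
  induction s using Finset.induction_on with
  | empty =>
    intro E' _ _ _ _ _ i
    rw [Finset.coe_empty, Ideal.span_empty]
    exact cdLE_bot E' (i + 1) (Nat.succ_pos i)
  | insert a s has ih =>
    intro E' _ _ _ _ _ i
    let a' : R' := algebraMap R R' a
    let T' : Submodule R' E' := DRing.torsionSub (Ideal.span {a'}) E'
    haveI hT'inj : Module.Injective R' T' := torsionSub_injective (Ideal.span {a'}) E'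
    haveI hQ'inj : Module.Injective R' (E' ⧸ T') :=
      injective_quotient_torsionSub (Ideal.span {a'}) E'
    have hQtf : DRing.torsionSub (Ideal.span {a'}) (E' ⧸ T') = ⊥ :=
      torsionSub_quotient_eq_bot' (Ideal.span {a'}) E'
    have hbij' := smul_bijective_of_injective_of_torsionFree a' (E' ⧸ T') hQtf
    have hbij : Function.Bijective (fun q : E' ⧸ T' => a • q) := by
      have : (fun q : E' ⧸ T' => a • q) = (fun q : E' ⧸ T' => a' • q) := by
        funext q
        exact (algebraMap_smul R' a q).symm
      rw [this]
      exact hbij'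
    have hEq : Ideal.span ((insert a s : Finset R) : Set R) =
        Ideal.span (s : Set R) ⊔ Ideal.span {a} := by
      rw [Finset.coe_insert, Ideal.span_insert, sup_comm]
    rw [hEq]
    have hTt : LocCoh.IsPowerTorsion (Ideal.span {a}) T' := by
      intro x
      obtain ⟨n, hn⟩ := (mem_torsionSub_span_singleton a' (x : E')).mp x.2
      have : x ∈ DRing.torsionSub (Ideal.span {a}) T' := by
        rw [mem_torsionSub_span_singleton]
        refine ⟨n, Subtype.ext ?_⟩
        change a ^ n • (x : E') = 0
        rw [← algebraMap_smul R' (a ^ n) (x : E'), map_pow]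
        exact hn
      exact this
    have hT : Subsingleton ((localCohomology (Ideal.span (s : Set R) ⊔ Ideal.span {a})
        (i + 1)).obj (ModuleCat.of R T')) :=
      subsingleton_sup_of_isPowerTorsion (Ideal.span (s : Set R)) (Ideal.span {a}) (i + 1) T' hTt
        (ih T' i)
    have hQ : Subsingleton ((localCohomology (Ideal.span (s : Set R) ⊔ Ideal.span {a})
        (i + 1)).obj (ModuleCat.of R (E' ⧸ T'))) :=
      subsingleton_of_smul_bijective (Ideal.span (s : Set R) ⊔ Ideal.span {a}) a
        (Ideal.mem_sup_right (Ideal.mem_span_singleton_self a)) _ hbij (i + 1)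
    exact subsingleton_mid (Ideal.span (s : Set R) ⊔ Ideal.span {a}) (i + 1)
      (T'.subtype.restrictScalars R) (T'.mkQ.restrictScalars R)
      (LinearMap.exact_subtype_mkQ T') T'.injective_subtype (Submodule.mkQ_surjective T') hT hQ

/-- An injective module over a Noetherian `R`-algebra is acyclic for `Γ_I`, `I` an ideal of
`R`. -/
theorem subsingleton_of_injective_algebra (I : Ideal R) (E' : Type u) [AddCommGroup E']
    [Module R' E'] [Module R E'] [IsScalarTower R R' E'] [Module.Injective R' E'] (i : ℕ) :
    Subsingleton ((localCohomology I (i + 1)).obj (ModuleCat.of R E')) := by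
  obtain ⟨s, hs⟩ : ∃ s : Finset R, Ideal.span (s : Set R) = I := IsNoetherian.noetherian I
  rw [← hs]
  exact subsingleton_of_injective_algebra_finset (R' := R') s E' i

end Groth.Agent.H13.LC
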