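import Groth.Agent.H13.LCFaltings
import Groth.Agent.H13.LCFinDim

/-!
# Finiteness of `(0 :_H I)` for the first non-finite local cohomology module and the
local-global principle for finiteness
-/

set_option autoImplicit false
set_option linter.style.haveILetI false
set_option linter.unusedSectionVars false

open CategoryTheory Limits Opposite

namespace Groth.Agent.H13.LC

universe u

section Colon

variable {R : Type u} [CommRing R] (I : Ideal R) {L : Type u} [AddCommGroup L] [Module R L]

/-- The submodule `(K :_L I)`. -/
def colonSub (K : Submodule R L) : Submodule R L where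
  carrier := {n | ∀ a ∈ I, a • n ∈ K}
  add_mem' := fun hx hy a ha => by rw [smul_add]; exact K.add_mem (hx a ha) (hy a ha)
  zero_mem' := fun a _ => by rw [smul_zero]; exact K.zero_mem
  smul_mem' := fun c x hx a ha => by rw [smul_comm]; exact K.smul_mem c (hx a ha)

lemma mem_colonSub {K : Submodule R L} {n : L} : n ∈ colonSub I K ↔ ∀ a ∈ I, a • n ∈ K := Iff.rfl

lemma colonSub_mono {K K' : Submodule R L} (h : K ≤ K') : colonSub I K ≤ colonSub I K' :=
  fun _ hn a ha => h (hn a ha)

lemma le_colonSub (K : Submodule R L) : K ≤ colonSub I K := fun _ hn a _ => K.smul_mem a hn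

theorem colonSub_fg [IsNoetherianRing R] (K : Submodule R L) (hK : K.FG)
    (hT : (colonSub I (⊥ : Submodule R L)).FG) : (colonSub I K).FG := by
  classical
  obtain ⟨s, hs⟩ : I.FG := IsNoetherian.noetherian I
  let f : L →ₗ[R] (s → L) := LinearMap.pi (fun t => LinearMap.lsmul R L (t : R))
  apply Submodule.fg_of_fg_map_of_fg_inf_ker f
  · refine Submodule.FG.of_le (Submodule.fg_pi (p := fun _ : s => K) (fun _ => hK)) ?_
    rintro _ ⟨n, hn, rfl⟩ t _
    exact hn t (by rw [← hs]; exact Ideal.subset_span t.2)
  · have h1 : colonSub I K ⊓ LinearMap.ker f = colonSub I ⊥ := by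
      ext n
      constructor
      · rintro ⟨-, hn⟩ a ha
        rw [Submodule.mem_bot]
        rw [← hs] at ha
        induction ha using Submodule.span_induction with
        | mem t ht => exact congrFun hn ⟨t, ht⟩
        | zero => exact zero_smul _ _
        | add x y _ _ hx hy => rw [add_smul, hx, hy, add_zero]
        | smul c x _ hx => rw [smul_eq_mul, mul_smul, hx, smul_zero]
      · intro hn
        refine ⟨colonSub_mono I bot_le hn, LinearMap.mem_ker.mpr ?_⟩
        ext t
        exact (Submodule.mem_bot R).mp (hn t (by rw [← hs]; exact Ideal.subset_span t.2))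
    rw [h1]
    exact hT

variable (L) in
/-- The iterated colon `T k = (0 :_L I^k)`, defined recursively. -/
def Tcol : ℕ → Submodule R L
  | 0 => ⊥
  | k + 1 => colonSub I (Tcol k)

lemma Tcol_succ (k : ℕ) : Tcol I L (k + 1) = colonSub I (Tcol I L k) := rfl

lemma Tcol_le_succ (k : ℕ) : Tcol I L k ≤ Tcol I L (k + 1) := le_colonSub I _

lemma Tcol_mono : Monotone (Tcol I L) := monotone_nat_of_le_succ (fun k => Tcol_le_succ I (L := L) k)

lemma Tcol_fg [IsNoetherianRing R] (hT : (Tcol I L 1).FG) (k : ℕ) : (Tcol I L k).FG := by
  induction k with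
  | zero => exact Submodule.fg_bot
  | succ k ih => exact colonSub_fg I _ ih hT

lemma mem_Tcol_of_kills (k : ℕ) : ∀ x : L, (∀ a ∈ I ^ k, a • x = 0) → x ∈ Tcol I L k := by
  induction k with
  | zero =>
    intro x h
    have h1 := h 1 (by rw [pow_zero, Ideal.one_eq_top]; exact Submodule.mem_top)
    rw [one_smul] at h1
    rw [h1]
    exact Submodule.zero_mem _
  | succ k ih =>
    intro x h a ha
    apply ih
    intro b hb
    rw [smul_smul]
    exact h (b * a) (by rw [pow_succ]; exact Ideal.mul_mem_mul hb ha)

lemma Tcol_one_fg_of_linearEquiv [IsNoetherianRing R] {L' : Type u} [AddCommGroup L']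
    [Module R L'] (e : L ≃ₗ[R] L') (h : (Tcol I L' 1).FG) : (Tcol I L 1).FG := by
  apply Submodule.fg_of_fg_map_injective e.toLinearMap e.injective
  refine Submodule.FG.of_le h ?_
  rintro _ ⟨x, hx, rfl⟩ a ha
  have h1 := hx a ha
  change a • x ∈ (⊥ : Submodule R L) at h1
  rw [Submodule.mem_bot] at h1
  change a • e x ∈ (⊥ : Submodule R L')
  rw [Submodule.mem_bot, ← _root_.map_smul, h1, map_zero]

end Colon

section LG

variable {R : Type u} [CommRing R] [IsNoetherianRing R] (I : Ideal R)

/-- A finitely generated localized module which is `I`-power torsion is killed by a power of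
`I`. -/
lemma exists_pow_kills_localized (H : Type u) [AddCommGroup H] [Module R H]
    (hH : LocCoh.IsPowerTorsion I H) (p : Ideal R) [p.IsPrime]
    [hfin : Module.Finite (Localization.AtPrime p) (LocalizedModule p.primeCompl H)] :
    ∃ k : ℕ, ∀ a ∈ I ^ k, ∀ x : H, ∃ s, s ∉ p ∧ s • a • x = 0 := by
  classical
  obtain ⟨G, hG⟩ := hfin.fg_top
  let f := LocalizedModule.mkLinearMap p.primeCompl H
  have h1 : ∀ g ∈ G, ∃ n : ℕ, ∀ a ∈ I ^ n, a • g = 0 := by
    intro g _
    obtain ⟨⟨x, s⟩, hxs⟩ := IsLocalizedModule.surj p.primeCompl f g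
    have hxs' : (s : R) • g = f x := hxs
    obtain ⟨n, hn⟩ := hH x
    refine ⟨n, fun a ha => ?_⟩
    have hinj := IsLocalizedModule.smul_injective f s
    apply hinj
    change (s : R) • (a • g) = (s : R) • (0 : LocalizedModule p.primeCompl H)
    rw [smul_zero, smul_comm, hxs', ← _root_.map_smul, hn a ha, map_zero]
  choose! n hn using h1
  refine ⟨G.sup n, fun a ha x => ?_⟩
  have h2 : ∀ z : LocalizedModule p.primeCompl H, a • z = 0 := by
    intro z
    have hz : z ∈ Submodule.span (Localization.AtPrime p)
        (G : Set (LocalizedModule p.primeCompl H)) := by rw [hG]; exact Submodule.mem_top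
    induction hz using Submodule.span_induction with
    | mem g hg => exact hn g hg a (Ideal.pow_le_pow_right (Finset.le_sup hg) ha)
    | zero => exact smul_zero _
    | add y z _ _ hy hz => rw [smul_add, hy, hz, add_zero]
    | smul c y _ hy => rw [smul_comm, hy, smul_zero]
  have h3 : f (a • x) = 0 := by rw [_root_.map_smul]; exact h2 _
  rw [IsLocalizedModule.eq_zero_iff p.primeCompl] at h3
  obtain ⟨⟨s, hs⟩, h⟩ := h3
  exact ⟨s, hs, h⟩

/-- Local-global principle: an `I`-power torsion module with `(0 :_H I)` finitely generated,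
all of whose localizations at primes are finitely generated, is finitely generated. -/
theorem finite_of_forall_localized_finite (H : Type u) [AddCommGroup H] [Module R H]
    (hH : LocCoh.IsPowerTorsion I H) (hT : (Tcol I H 1).FG)
    (hloc : ∀ (p : Ideal R) [p.IsPrime],
      Module.Finite (Localization.AtPrime p) (LocalizedModule p.primeCompl H)) :
    Module.Finite R H := by
  classical
  let c : ℕ → Ideal R := fun k =>
    { carrier := {s | ∀ x ∈ Tcol I H (k + 1), s • x ∈ Tcol I H k}
      add_mem' := fun hs ht x hx => by
        rw [add_smul]; exact Submodule.add_mem _ (hs x hx) (ht x hx)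
      zero_mem' := fun x _ => by rw [zero_smul]; exact Submodule.zero_mem _
      smul_mem' := fun r s hs x hx => by
        rw [smul_eq_mul, mul_smul]; exact Submodule.smul_mem _ r (hs x hx) }
  have hc_mono : ∀ k, c k ≤ c (k + 1) := by
    intro k s hs x hx a ha
    rw [smul_comm]
    exact hs (a • x) (hx a ha)
  obtain ⟨k0, hk0⟩ := monotone_stabilizes_iff_noetherian.mpr (inferInstance : IsNoetherian R R)
    ⟨c, monotone_nat_of_le_succ hc_mono⟩
  have hk0' : ∀ m, k0 ≤ m → c k0 = c m := fun m hm => hk0 m hm
  by_cases htop : c k0 = ⊤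
  · have h1 : ∀ m, k0 ≤ m → Tcol I H m ≤ Tcol I H k0 := by
      intro m hm
      induction m, hm using Nat.le_induction with
      | base => exact le_rfl
      | succ m hm ih =>
        intro x hx
        have h2 : (1 : R) ∈ c m := by rw [← hk0' m hm, htop]; exact Submodule.mem_top
        have h3 := h2 x hx
        rw [one_smul] at h3
        exact ih h3
    have h2 : (⊤ : Submodule R H) ≤ Tcol I H k0 := by
      intro x _
      obtain ⟨n, hn⟩ := hH x
      have h3 := mem_Tcol_of_kills I n x hn
      rcases le_total n k0 with h | h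
      · exact Tcol_mono I h h3
      · exact h1 n h h3
    rw [Module.finite_def]
    rw [top_le_iff] at h2
    rw [← h2]
    exact Tcol_fg I hT k0
  · exfalso
    obtain ⟨p, hpmax, hcp⟩ := Ideal.exists_le_maximal (c k0) htop
    haveI := hpmax.isPrime
    haveI := hloc p
    obtain ⟨k', hk'⟩ := exists_pow_kills_localized I H hH p
    let K := max k' k0
    obtain ⟨Gt, hGt⟩ := Tcol_fg I hT (K + 1)
    obtain ⟨B, hB⟩ : (I ^ K).FG := IsNoetherian.noetherian _
    have h1 : ∀ a ∈ B, ∀ x ∈ Gt, ∃ s, s ∉ p ∧ s • a • x = 0 := by
      intro a ha x _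
      have haK : a ∈ I ^ k' := Ideal.pow_le_pow_right (le_max_left k' k0)
        (by rw [← hB]; exact Ideal.subset_span ha)
      exact hk' a haK x
    choose! s hs using h1
    let S : R := ∏ a ∈ B, ∏ x ∈ Gt, s a x
    have hSp : S ∉ p := by
      have h : S ∈ p.primeCompl := Submonoid.prod_mem _
        (fun a ha => Submonoid.prod_mem _ (fun x hx => (hs a ha x hx).1))
      exact h
    have h2 : ∀ a ∈ B, ∀ x ∈ Gt, S • a • x = 0 := by
      intro a ha x hx
      obtain ⟨c', hc'⟩ : s a x ∣ S :=
        dvd_trans (Finset.dvd_prod_of_mem (fun x' => s a x') hx)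
          (Finset.dvd_prod_of_mem (fun a' => ∏ x' ∈ Gt, s a' x') ha)
      rw [hc', mul_comm, mul_smul, (hs a ha x hx).2, smul_zero]
    have h3 : ∀ a ∈ B, ∀ x ∈ Tcol I H (K + 1), S • a • x = 0 := by
      intro a ha x hx
      rw [← hGt] at hx
      induction hx using Submodule.span_induction with
      | mem x hx => exact h2 a ha x hx
      | zero => rw [smul_zero, smul_zero]
      | add y z _ _ hy hz => rw [smul_add, smul_add, hy, hz, add_zero]
      | smul r y _ hy => rw [smul_comm a r y, smul_comm S r, hy, smul_zero]
    have h4 : ∀ x ∈ Tcol I H (K + 1), ∀ a ∈ I ^ K, a • S • x = 0 := by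
      intro x hx a ha
      rw [← hB] at ha
      induction ha using Submodule.span_induction with
      | mem a ha => rw [smul_comm]; exact h3 a ha x hx
      | zero => exact zero_smul _ _
      | add y z _ _ hy hz => rw [add_smul, hy, hz, add_zero]
      | smul r y _ hy => rw [smul_eq_mul, mul_smul, hy, smul_zero]
    have h5 : S ∈ c K := fun x hx => mem_Tcol_of_kills I K (S • x) (h4 x hx)
    rw [← hk0' K (le_max_right k' k0)] at h5
    exact hSp (hcp h5)

end LG

section BL

variable {R : Type u} [CommRing R] [IsNoetherianRing R] (I : Ideal R)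

lemma finite_of_exact {A B C : Type u} [AddCommGroup A] [Module R A] [AddCommGroup B]
    [Module R B] [AddCommGroup C] [Module R C] (f : A →ₗ[R] B) (g : B →ₗ[R] C)
    (h : Function.Exact f g) (hA : Module.Finite R A) (hC : Module.Finite R C) :
    Module.Finite R B := by
  rw [Module.finite_def]
  apply Submodule.fg_of_fg_map_of_fg_inf_ker g
  · haveI : IsNoetherian R C := isNoetherian_of_isNoetherianRing_of_finite R C
    exact IsNoetherian.noetherian _
  · rw [top_inf_eq, LinearMap.exact_iff.mp h, LinearMap.range_eq_map]
    exact Submodule.FG.map f (Module.finite_def.mp hA)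

/-- If `H^j_I(M)` is finite for all `j < i`, then `(0 :_{H^i_I(M)} I)` is finitely generated. -/
theorem Tcol_one_fg_H (i : ℕ) : ∀ (M : Type u) [AddCommGroup M] [Module R M], Module.Finite R M →
    (∀ j < i, Module.Finite R ((localCohomology I j).obj (ModuleCat.of R M))) →
    (Tcol I ((localCohomology I i).obj (ModuleCat.of R M)) 1).FG := by
  induction i with
  | zero =>
    intro M _ _ hfin _
    haveI := finite_H0 I M
    haveI : IsNoetherian R ((localCohomology I 0).obj (ModuleCat.of R M)) :=
      isNoetherian_of_isNoetherianRing_of_finite R _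
    exact IsNoetherian.noetherian _
  | succ i ih =>
    intro M _ _ hfin hlow
    have htors' := torsionSub_quotient_eq_bot I M
    have hbij := fun j (hj : 0 < j) => map_mkQ_bijective I M j hj
    have hlow' : ∀ j < i + 1, Module.Finite R ((localCohomology I j).obj
        (ModuleCat.of R (M ⧸ DRing.torsionSub I M))) := by
      intro j hj
      rcases Nat.eq_zero_or_pos j with rfl | hpos
      · haveI := subsingleton_H0 I (ModuleCat.of R (M ⧸ DRing.torsionSub I M)) htors'
        infer_instance
      · haveI := hlow j hj
        exact Module.Finite.equiv (LinearEquiv.ofBijective _ (hbij j hpos))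
    obtain ⟨x, hxI, hreg⟩ := exists_isSMulRegular_of_torsionSub_eq_bot I
      (M ⧸ DRing.torsionSub I M) htors'
    have hinj : Function.Injective (x • (LinearMap.id :
        (M ⧸ DRing.torsionSub I M) →ₗ[R] (M ⧸ DRing.torsionSub I M))) := fun a b hab => hreg hab
    have hS := scLin_shortExact _ _ (exact_smul_mkQ (M := M ⧸ DRing.torsionSub I M) x) hinj
      (Submodule.mkQ_surjective _)
    have hlowN : ∀ j < i, Module.Finite R ((localCohomology I j).obj
        (ModuleCat.of R (QuotSMulTop x (M ⧸ DRing.torsionSub I M)))) := by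
      intro j hj
      exact finite_of_exact _ _ (exact₃ I _ hS j) (hlow' j (by omega)) (hlow' (j + 1) (by omega))
    have hTN := ih (QuotSMulTop x (M ⧸ DRing.torsionSub I M)) inferInstance hlowN
    have hfi := hlow' i (by omega)
    let gs := ((localCohomology I i).map (scLin _ _
      (exact_smul_mkQ (M := M ⧸ DRing.torsionSub I M) x)).g).hom
    let dl := (δ I _ hS i).hom
    have hK' : (LinearMap.range gs).FG := by
      rw [LinearMap.range_eq_map]
      exact Submodule.FG.map _ (Module.finite_def.mp hfi)
    have hcol := colonSub_fg I (LinearMap.range gs) hK' hTN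
    have hle : Tcol I ((localCohomology I (i + 1)).obj
        (ModuleCat.of R (M ⧸ DRing.torsionSub I M))) 1 ≤
        (colonSub I (LinearMap.range gs)).map dl := by
      intro y hy
      have hy0 : ∀ a ∈ I, a • y = 0 := fun a ha => (Submodule.mem_bot R).mp (hy a ha)
      have h1 : ((localCohomology I (i + 1)).map (scLin _ _
          (exact_smul_mkQ (M := M ⧸ DRing.torsionSub I M) x)).f).hom y = 0 :=
        (map_smul_id_apply I (i + 1) _ x y).trans (hy0 x hxI)
      obtain ⟨n, hn⟩ := (exact₁ I _ hS i y).mp h1
      refine ⟨n, fun a ha => ?_, hn⟩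
      have h2 : dl (a • n) = 0 :=
        (dl.map_smul a n).trans ((congrArg (a • ·) hn).trans (hy0 a ha))
      exact (exact₃ I _ hS i (a • n)).mp h2
    have hTM' := Submodule.FG.of_le (Submodule.FG.map dl hcol) hle
    exact Tcol_one_fg_of_linearEquiv I
      (LinearEquiv.ofBijective _ (hbij (i + 1) (Nat.succ_pos i))) hTM'

/-- Faltings' local-global principle for the finiteness of local cohomology. -/
theorem finite_H_iff_localized (M : Type u) [AddCommGroup M] [Module R M] [Module.Finite R M]
    (n : ℕ) :
    (∀ i : ℕ, i ≤ n → Module.Finite R ((localCohomology I i).obj (ModuleCat.of R M))) ↔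
      ∀ (p : Ideal R) [p.IsPrime], ∀ i : ℕ, i ≤ n →
        Module.Finite (Localization.AtPrime p)
          (LocalizedModule p.primeCompl ((localCohomology I i).obj (ModuleCat.of R M))) := by
  constructor
  · intro h p _ i hi
    haveI := h i hi
    infer_instance
  · intro h i
    induction i using Nat.strong_induction_on with
    | _ i ih =>
      intro hi
      have hT := Tcol_one_fg_H I i M inferInstance (fun j hj => ih j hj (by omega))
      exact finite_of_forall_localized_finite I _ (isPowerTorsion I i _) hT
        (fun p _ => h p i hi)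

end BL

end Groth.Agent.H13.LC
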