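import Groth.Agent.H13.LCDT

/-!
# More on the ideal transform: `η_{D_I(K)}` is bijective
-/

set_option autoImplicit false
set_option linter.style.haveILetI false

open CategoryTheory Limits Opposite LocCoh Groth.Agent.H29

namespace Groth.Agent.H13.LC

universe u

variable {R : Type u} [CommRing R] [IsNoetherianRing R] (I : Ideal R)

/-- `η : D_I(K) → D_I(D_I(K))` is bijective. -/
theorem toDT_DT_bijective (K : Type u) [AddCommGroup K] [Module R K] :
    Function.Bijective (toDT I (DT I K)) := by
  constructor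
  · rw [injective_iff_map_eq_zero]
    intro w hw
    obtain ⟨k, hk⟩ := toDT_ker_torsion I (DT I K) w hw
    exact dt_eq_zero_of_pow_smul_eq_zero I K w k hk
  · intro z
    obtain ⟨n, φ, rfl⟩ := exists_dtι_eq I (DT I K) z
    obtain ⟨w, k', hk, hw⟩ := exists_eq_smul I K n φ
    refine ⟨w, ?_⟩
    rw [toDT_eq, ← dtι_resPow I (DT I K) hk φ, ← dtι_resPow I (DT I K) (Nat.zero_le k')]
    congr 1
    ext a
    rw [resPow_apply, resPow_apply, hw a]
    rfl

/-- Uniqueness/characterisation: if `e : M → M'` has torsion kernel and cokernel, `ψ : M ≃ K`,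
`ψ' ∘ e = η_K ∘ ψ` and `η_{M'}` is bijective then `ψ'` is bijective. -/
theorem bijective_of_toDT_bijective {M M' K : Type u} [AddCommGroup M] [Module R M]
    [AddCommGroup M'] [Module R M'] [AddCommGroup K] [Module R K]
    (e : M →ₗ[R] M') (hker : ∀ m, e m = 0 → ∃ k : ℕ, ∀ a ∈ I ^ k, a • m = 0)
    (hcoker : ∀ m' : M', ∃ k : ℕ, ∀ a ∈ I ^ k, a • m' ∈ LinearMap.range e)
    (ψ : M →ₗ[R] K) (hψ : Function.Bijective ψ) (ψ' : M' →ₗ[R] DT I K)
    (hψ' : ψ' ∘ₗ e = toDT I K ∘ₗ ψ) (hη : Function.Bijective (toDT I M')) :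
    Function.Bijective ψ' := by
  have hDe := idealTransform_map_bijective I e hker hcoker
  have hDψ := idealTransform_map_bijective I ψ
    (fun m hm => ⟨0, fun a _ => by
      have : m = 0 := hψ.1 (hm.trans (map_zero ψ).symm)
      rw [this, smul_zero]⟩)
    (fun k => ⟨0, fun a _ => ⟨a • (hψ.2 k).choose, by
      rw [_root_.map_smul, (hψ.2 k).choose_spec]⟩⟩)
  have hDη := idealTransform_map_bijective I (toDT I K)
    (fun m hm => toDT_ker_torsion I K m hm) (fun w => toDT_coker_torsion I K w)
  have hcomp : (idealTransform I).map (ModuleCat.ofHom e) ≫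
      (idealTransform I).map (ModuleCat.ofHom ψ') =
      (idealTransform I).map (ModuleCat.ofHom ψ) ≫
        (idealTransform I).map (ModuleCat.ofHom (toDT I K)) := by
    rw [← Functor.map_comp, ← Functor.map_comp, ← ModuleCat.ofHom_comp, ← ModuleCat.ofHom_comp,
      hψ']
  have hDψ' : Function.Bijective ((idealTransform I).map (ModuleCat.ofHom ψ')).hom := by
    have h1 : ((idealTransform I).map (ModuleCat.ofHom ψ')).hom ∘
        ((idealTransform I).map (ModuleCat.ofHom e)).hom =
        ((idealTransform I).map (ModuleCat.ofHom (toDT I K))).hom ∘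
          ((idealTransform I).map (ModuleCat.ofHom ψ)).hom := by
      funext x
      exact ConcreteCategory.congr_hom hcomp x
    have h2 : Function.Bijective (((idealTransform I).map (ModuleCat.ofHom ψ')).hom ∘
        ((idealTransform I).map (ModuleCat.ofHom e)).hom) := by
      rw [h1]
      exact hDη.comp hDψ
    exact (Function.Bijective.of_comp_iff _ hDe).mp h2
  have h3 : (toDT I (DT I K)) ∘ ψ' =
      ((idealTransform I).map (ModuleCat.ofHom ψ')).hom ∘ (toDT I M') := by
    funext m'
    exact (idealTransform_map_toDT I ψ' m').symm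
  have h4 : Function.Bijective ((toDT I (DT I K)) ∘ ψ') := by
    rw [h3]
    exact hDψ'.comp hη
  exact (Function.Bijective.of_comp_iff' (toDT_DT_bijective I K) _).mp h4

end Groth.Agent.H13.LC
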