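import Groth.Agent.H13.LCDT2

/-!
# Comparison maps of ideal transforms: `D_I(D_J(M)) → D_{IJ}(D_J(M))` is bijective
-/

set_option autoImplicit false
set_option linter.style.haveILetI false

open CategoryTheory Limits Opposite LocCoh Groth.Agent.H29

namespace Groth.Agent.H13.LC

universe u

variable {R : Type u} [CommRing R]

/-- The comparison map on representatives: restriction along `I^n ≤ J^n`. -/
theorem DTmapOfLE_dtι {I J : Ideal R} (h : I ≤ J) (M : Type u) [AddCommGroup M] [Module R M]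
    (n : ℕ) (φ : ↥(J ^ n) →ₗ[R] M) :
    ((DTmapOfLE h).app (ModuleCat.of R M)).hom (dtι J M n φ) =
      dtι I M n (φ ∘ₗ Submodule.inclusion (Ideal.pow_right_mono h n)) := by
  have h1 := ι_colimMap (Functor.whiskerRight (NatTrans.op (Functor.whiskerRight (powLE h)
    idealModFunctor)) (linearCoyoneda R (ModuleCat.{u} R))) (op (op n))
  have h2 := congrArg (fun t => (t.app (ModuleCat.of R M)).hom
    ((ModuleCat.homLinearEquiv (S := R) (M := ModuleCat.of R ↥(J ^ n))
      (N := ModuleCat.of R M)).symm φ)) h1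
  exact h2

variable [IsNoetherianRing R]

/-- The product map `I^n × J^n → (IJ)^n`. -/
noncomputable def mulPow (I J : Ideal R) (n : ℕ) :
    ↥(I ^ n) →ₗ[R] ↥(J ^ n) →ₗ[R] ↥((I * J) ^ n) :=
  LinearMap.mk₂ R (fun a b => ⟨a.1 * b.1, by
      rw [mul_pow]
      exact Ideal.mul_mem_mul a.2 b.2⟩)
    (fun a a' b => Subtype.ext (add_mul _ _ _))
    (fun r a b => Subtype.ext (by simp [mul_assoc]))
    (fun a b b' => Subtype.ext (mul_add _ _ _))
    (fun r a b => Subtype.ext (by simp [mul_left_comm]))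

@[simp] lemma mulPow_apply_coe (I J : Ideal R) (n : ℕ) (a : ↥(I ^ n)) (b : ↥(J ^ n)) :
    ((mulPow I J n a b : ↥((I * J) ^ n)) : R) = a.1 * b.1 := rfl

theorem DTmapOfLE_mul_bijective (I J : Ideal R) (M : Type u) [AddCommGroup M] [Module R M] :
    Function.Bijective
      ((DTmapOfLE (Ideal.mul_le_left : I * J ≤ I)).app (ModuleCat.of R (DT J M))).hom := by
  have htors : DRing.torsionSub J (DT J M) = ⊥ := torsionSub_DT_eq_bot J M
  have hzero : ∀ (w : DT J M) (k : ℕ), (∀ b ∈ J ^ k, b • w = 0) → w = 0 := by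
    intro w k hk
    have : w ∈ DRing.torsionSub J (DT J M) := ⟨k, hk⟩
    rwa [htors, Submodule.mem_bot] at this
  constructor
  · rw [injective_iff_map_eq_zero]
    intro z hz
    obtain ⟨n, φ, rfl⟩ := exists_dtι_eq I (DT J M) z
    rw [DTmapOfLE_dtι, dtι_eq_zero_iff] at hz
    obtain ⟨k, hk, h0⟩ := hz
    rw [dtι_eq_zero_iff]
    refine ⟨k, hk, ?_⟩
    ext a
    rw [resPow_apply, LinearMap.zero_apply]
    apply hzero _ k
    intro b hb
    have hab : a.1 * b ∈ (I * J) ^ k := by
      rw [mul_pow]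
      exact Ideal.mul_mem_mul a.2 hb
    have h1 := LinearMap.congr_fun h0 ⟨a.1 * b, hab⟩
    rw [resPow_apply, LinearMap.comp_apply, LinearMap.zero_apply] at h1
    rw [← _root_.map_smul, ← h1]
    congr 1
    exact Subtype.ext (mul_comm _ _)
  · intro z
    obtain ⟨n, φ, rfl⟩ := exists_dtι_eq (I * J) (DT J M) z
    -- the defining property of the extension
    let P : ↥(I ^ n) → DT J M → Prop := fun a w =>
      ∃ (k : ℕ) (hk : n ≤ k), ∀ b : ↥(J ^ k),
        φ (mulPow I J n a ⟨b.1, Ideal.pow_le_pow_right hk b.2⟩) = (b : R) • w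
    have hPex : ∀ a, ∃ w, P a w := by
      intro a
      obtain ⟨w, k', hk, hw⟩ := exists_eq_smul J M n (φ ∘ₗ mulPow I J n a)
      exact ⟨w, k', hk, fun b => hw b⟩
    have hPuniq : ∀ a w w', P a w → P a w' → w = w' := by
      rintro a w w' ⟨k, hk, h⟩ ⟨k', hk', h'⟩
      rw [← sub_eq_zero]
      apply hzero _ (max k k')
      intro b hb
      have h1 := h ⟨b, Ideal.pow_le_pow_right (le_max_left k k') hb⟩
      have h2 := h' ⟨b, Ideal.pow_le_pow_right (le_max_right k k') hb⟩
      rw [smul_sub, ← h1, ← h2, sub_self]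
    have hPadd : ∀ a a' w w', P a w → P a' w' → P (a + a') (w + w') := by
      rintro a a' w w' ⟨k, hk, h⟩ ⟨k', hk', h'⟩
      refine ⟨max k k', hk.trans (le_max_left k k'), fun b => ?_⟩
      have h1 := h ⟨b.1, Ideal.pow_le_pow_right (le_max_left k k') b.2⟩
      have h2 := h' ⟨b.1, Ideal.pow_le_pow_right (le_max_right k k') b.2⟩
      rw [map_add, LinearMap.add_apply, map_add, smul_add]
      exact congrArg₂ (· + ·) h1 h2
    have hPsmul : ∀ (r : R) a w, P a w → P (r • a) (r • w) := by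
      rintro r a w ⟨k, hk, h⟩
      refine ⟨k, hk, fun b => ?_⟩
      rw [_root_.map_smul, LinearMap.smul_apply, _root_.map_smul, h b, smul_comm]
    let ψ : ↥(I ^ n) →ₗ[R] DT J M :=
      { toFun := fun a => (hPex a).choose
        map_add' := fun a a' => hPuniq _ _ _ (hPex (a + a')).choose_spec
          (hPadd a a' _ _ (hPex a).choose_spec (hPex a').choose_spec)
        map_smul' := fun r a => hPuniq _ _ _ (hPex (r • a)).choose_spec
          (hPsmul r a _ (hPex a).choose_spec) }
    have hψ : ∀ a, P a (ψ a) := fun a => (hPex a).choose_spec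
    refine ⟨dtι I (DT J M) n ψ, ?_⟩
    rw [DTmapOfLE_dtι]
    congr 1
    ext c
    rw [LinearMap.comp_apply, ← sub_eq_zero]
    obtain ⟨k, hk, h⟩ := hψ (Submodule.inclusion (Ideal.pow_right_mono Ideal.mul_le_left n) c)
    apply hzero _ k
    intro b hb
    have h1 := h ⟨b, hb⟩
    rw [smul_sub, ← h1, ← _root_.map_smul, sub_eq_zero]
    congr 1
    exact Subtype.ext (by simp [mul_comm])

end Groth.Agent.H13.LC
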