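import Groth.Agent.H13.LCDT3

/-!
# Ideal transforms and localization
-/

set_option autoImplicit false
set_option linter.style.haveILetI false
set_option linter.unusedSectionVars false

open CategoryTheory Limits Opposite LocCoh Groth.Agent.H29

namespace Groth.Agent.H13.LC

universe u

variable {R : Type u} [CommRing R]

theorem idealTransform_map_injective (I : Ideal R) {M N : Type u} [AddCommGroup M] [Module R M]
    [AddCommGroup N] [Module R N] (f : M →ₗ[R] N) (hf : Function.Injective f) :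
    Function.Injective ((idealTransform I).map (ModuleCat.ofHom f)).hom := by
  rw [injective_iff_map_eq_zero]
  intro z hz
  obtain ⟨n, φ, rfl⟩ := exists_dtι_eq I M z
  rw [idealTransform_map_dtι, dtι_eq_zero_iff] at hz
  obtain ⟨k, hk, h0⟩ := hz
  rw [dtι_eq_zero_iff]
  refine ⟨k, hk, ?_⟩
  ext a
  apply hf
  have := LinearMap.congr_fun h0 a
  rw [resPow_apply, LinearMap.comp_apply, LinearMap.zero_apply] at this
  rw [resPow_apply, LinearMap.zero_apply, map_zero]
  exact this

theorem toDT_eq_dtι_of_smul_eq (I : Ideal R) (L : Type u) [AddCommGroup L] [Module R L] (s : R)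
    (hs : s ∈ I) (n : ℕ) (hinj : Function.Injective (fun x : L => s ^ n • x))
    (φ : ↥(I ^ n) →ₗ[R] L) (x : L)
    (hx : s ^ n • x = φ ⟨s ^ n, Ideal.pow_mem_pow hs n⟩) : toDT I L x = dtι I L n φ := by
  rw [toDT_eq, ← dtι_resPow I L (Nat.zero_le n)]
  congr 1
  ext a
  apply hinj
  change s ^ n • ((a : R) • x) = s ^ n • φ a
  rw [smul_comm, hx, ← _root_.map_smul, ← _root_.map_smul]
  congr 1
  exact Subtype.ext (by simp [mul_comm])

theorem toDT_bijective_of_smul_bijective (I : Ideal R) (L : Type u) [AddCommGroup L] [Module R L]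
    (s : R) (hs : s ∈ I) (hbij : ∀ n : ℕ, Function.Bijective (fun x : L => s ^ n • x)) :
    Function.Bijective (toDT I L) := by
  constructor
  · rw [injective_iff_map_eq_zero]
    intro x hx
    obtain ⟨k, hk⟩ := toDT_ker_torsion I L x hx
    apply (hbij k).1
    change s ^ k • x = s ^ k • 0
    rw [hk _ (Ideal.pow_mem_pow hs k), smul_zero]
  · intro z
    obtain ⟨n, φ, rfl⟩ := exists_dtι_eq I L z
    obtain ⟨x, hx⟩ := (hbij n).2 (φ ⟨s ^ n, Ideal.pow_mem_pow hs n⟩)
    exact ⟨x, toDT_eq_dtι_of_smul_eq I L s hs n (hbij n).1 φ x hx⟩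

variable [IsNoetherianRing R]

theorem existsUnique_DT_of_localization (I : Ideal R) (M : Type u) [AddCommGroup M] [Module R M]
    (S : Submonoid R) (hS : ∀ s ∈ S, IsSMulRegular M s) (hSI : ∃ s ∈ S, s ∈ I) :
    ∃! ψ : ↥(⨆ n : ℕ, ⨅ (a : R) (_ : a ∈ I ^ n),
        (LinearMap.range (LocalizedModule.mkLinearMap S M)).comap
          (LinearMap.lsmul R (LocalizedModule S M) a)) →ₗ[R] LocCoh.DT I M,
      (∀ (x : ↥(⨆ n : ℕ, ⨅ (a : R) (_ : a ∈ I ^ n),
        (LinearMap.range (LocalizedModule.mkLinearMap S M)).comap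
          (LinearMap.lsmul R (LocalizedModule S M) a))) (m : M),
        (x : LocalizedModule S M) = LocalizedModule.mkLinearMap S M m →
          ψ x = LocCoh.toDT I M m) ∧ Function.Bijective ψ := by
  classical
  obtain ⟨s, hsS, hsI⟩ := hSI
  have hmem : ∀ x : LocalizedModule S M,
      x ∈ (⨆ n : ℕ, ⨅ (a : R) (_ : a ∈ I ^ n),
        (LinearMap.range (LocalizedModule.mkLinearMap S M)).comap
          (LinearMap.lsmul R (LocalizedModule S M) a)) ↔
      ∃ n : ℕ, ∀ a ∈ I ^ n, a • x ∈ LinearMap.range (LocalizedModule.mkLinearMap S M) := by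
    intro x
    rw [Submodule.mem_iSup_of_directed]
    · simp only [Submodule.mem_iInf, Submodule.mem_comap, LinearMap.lsmul_apply]
    · apply Monotone.directed_le
      intro n k hnk
      refine le_iInf fun a => le_iInf fun ha => ?_
      exact (iInf_le _ a).trans (iInf_le _ (Ideal.pow_le_pow_right hnk ha))
  have hlocinj : Function.Injective (LocalizedModule.mkLinearMap S M) := by
    rw [injective_iff_map_eq_zero]
    intro m hm
    obtain ⟨c, hc⟩ := (IsLocalizedModule.eq_zero_iff S (LocalizedModule.mkLinearMap S M)).mp hm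
    apply hS c.1 c.2
    change c.1 • m = c.1 • 0
    rw [smul_zero]
    exact hc
  have hbij : ∀ n : ℕ, Function.Bijective (fun x : LocalizedModule S M => s ^ n • x) := by
    intro n
    have h1 := IsLocalizedModule.map_units (LocalizedModule.mkLinearMap S M)
      ⟨s ^ n, pow_mem hsS n⟩
    exact (Module.End.isUnit_iff _).mp h1
  have hηL := toDT_bijective_of_smul_bijective I (LocalizedModule S M) s hsI hbij
  let eL := LinearEquiv.ofBijective (toDT I (LocalizedModule S M)) hηL
  let Θ : DT I M →ₗ[R] LocalizedModule S M := eL.symm.toLinearMap ∘ₗ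
    ((idealTransform I).map (ModuleCat.ofHom (LocalizedModule.mkLinearMap S M))).hom
  have hΘ : ∀ z, toDT I (LocalizedModule S M) (Θ z) =
      ((idealTransform I).map (ModuleCat.ofHom (LocalizedModule.mkLinearMap S M))).hom z :=
    fun z => eL.apply_symm_apply _
  have hΘinj : Function.Injective Θ :=
    eL.symm.injective.comp (idealTransform_map_injective I _ hlocinj)
  have hΘη : ∀ m, Θ (toDT I M m) = LocalizedModule.mkLinearMap S M m := by
    intro m
    apply hηL.1
    rw [hΘ, idealTransform_map_toDT]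
  have hΘsmul : ∀ (n : ℕ) (φ : ↥(I ^ n) →ₗ[R] M) (a : ↥(I ^ n)),
      (a : R) • Θ (dtι I M n φ) = LocalizedModule.mkLinearMap S M (φ a) := by
    intro n φ a
    rw [← _root_.map_smul, smul_dtι_eq_toDT I M φ a.1 a.2, hΘη]
  have hΘmem : ∀ z, Θ z ∈ (⨆ n : ℕ, ⨅ (a : R) (_ : a ∈ I ^ n),
        (LinearMap.range (LocalizedModule.mkLinearMap S M)).comap
          (LinearMap.lsmul R (LocalizedModule S M) a)) := by
    intro z
    obtain ⟨n, φ, rfl⟩ := exists_dtι_eq I M z
    rw [hmem]
    exact ⟨n, fun a ha => ⟨φ ⟨a, ha⟩, (hΘsmul n φ ⟨a, ha⟩).symm⟩⟩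
  have hΘsurj : ∀ x ∈ (⨆ n : ℕ, ⨅ (a : R) (_ : a ∈ I ^ n),
        (LinearMap.range (LocalizedModule.mkLinearMap S M)).comap
          (LinearMap.lsmul R (LocalizedModule S M) a)), ∃ z, Θ z = x := by
    intro x hx
    obtain ⟨n, hn⟩ := (hmem x).mp hx
    let e := LinearEquiv.ofInjective (LocalizedModule.mkLinearMap S M) hlocinj
    let φ₀ : ↥(I ^ n) →ₗ[R] LinearMap.range (LocalizedModule.mkLinearMap S M) :=
      LinearMap.codRestrict _
        ((LinearMap.toSpanSingleton R (LocalizedModule S M) x) ∘ₗ (I ^ n).subtype) (fun a => by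
          rw [LinearMap.comp_apply, LinearMap.toSpanSingleton_apply]
          exact hn a.1 a.2)
    let φ : ↥(I ^ n) →ₗ[R] M := e.symm.toLinearMap ∘ₗ φ₀
    have hφ : ∀ a : ↥(I ^ n), LocalizedModule.mkLinearMap S M (φ a) = (a : R) • x := by
      intro a
      have h1 : e (φ a) = φ₀ a := LinearEquiv.apply_symm_apply _ _
      have h2 := congrArg Subtype.val h1
      exact h2
    refine ⟨dtι I M n φ, ?_⟩
    apply (hbij n).1
    change s ^ n • Θ _ = s ^ n • x
    rw [hΘsmul n φ ⟨s ^ n, Ideal.pow_mem_pow hsI n⟩, hφ]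
  let Θ' : DT I M →ₗ[R] ↥(⨆ n : ℕ, ⨅ (a : R) (_ : a ∈ I ^ n),
        (LinearMap.range (LocalizedModule.mkLinearMap S M)).comap
          (LinearMap.lsmul R (LocalizedModule S M) a)) := Θ.codRestrict _ hΘmem
  have hΘ'bij : Function.Bijective Θ' :=
    ⟨fun z z' h => hΘinj (congrArg Subtype.val h), fun x => by
      obtain ⟨z, hz⟩ := hΘsurj x.1 x.2
      exact ⟨z, Subtype.ext hz⟩⟩
  let eΘ := LinearEquiv.ofBijective Θ' hΘ'bij
  have h1 : ∀ (x : ↥(⨆ n : ℕ, ⨅ (a : R) (_ : a ∈ I ^ n),
        (LinearMap.range (LocalizedModule.mkLinearMap S M)).comap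
          (LinearMap.lsmul R (LocalizedModule S M) a))) (m : M),
        (x : LocalizedModule S M) = LocalizedModule.mkLinearMap S M m →
          eΘ.symm x = LocCoh.toDT I M m := by
    intro x m hxm
    rw [LinearEquiv.symm_apply_eq]
    apply Subtype.ext
    change x.1 = Θ (toDT I M m)
    rw [hΘη, hxm]
  refine ⟨eΘ.symm.toLinearMap, ⟨h1, eΘ.symm.bijective⟩, ?_⟩
  rintro ψ₂ ⟨h2, -⟩
  ext x
  obtain ⟨n, hn⟩ := (hmem x.1).mp x.2
  rw [← sub_eq_zero]
  apply dt_eq_zero_of_pow_smul_eq_zero I M _ n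
  intro a ha
  obtain ⟨m, hm⟩ := hn a ha
  have h3 : ((a • x : ↥(⨆ n : ℕ, ⨅ (a : R) (_ : a ∈ I ^ n),
        (LinearMap.range (LocalizedModule.mkLinearMap S M)).comap
          (LinearMap.lsmul R (LocalizedModule S M) a))) : LocalizedModule S M) =
      LocalizedModule.mkLinearMap S M m := hm.symm
  rw [smul_sub, ← _root_.map_smul, h2 (a • x) m h3]
  change toDT I M m - a • eΘ.symm x = 0
  rw [← _root_.map_smul, h1 (a • x) m h3, sub_self]

end Groth.Agent.H13.LC
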