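import Groth.Agent.H13.LCDimLib

/-!
# The dimension formula over a quotient of a Gorenstein local ring
-/

set_option autoImplicit false
set_option linter.style.haveILetI false
set_option linter.unusedSectionVars false

open CategoryTheory Limits Opposite IsLocalRing TensorProduct

namespace Groth.Agent.H13.LC

open Abelian Groth.Agent.H29

universe u

lemma ringKrullDim_quotient_eq_height_add {R' R : Type u} [CommRing R']
    [hG : LocCoh.IsGorensteinLocalRing R'] [CommRing R] [IsNoetherianRing R] [IsLocalRing R]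
    [Algebra R' R] (hg : Function.Surjective (algebraMap R' R)) (p₀ p : Ideal R) [p₀.IsPrime]
    [p.IsPrime] (h : p₀ ≤ p) :
    ringKrullDim (R ⧸ p₀) =
      (((p.map (Ideal.Quotient.mk p₀)).height : ℕ∞) : WithBot ℕ∞) + ringKrullDim (R ⧸ p) := by
  obtain ⟨n', hn'⟩ : ∃ n' : ℕ, ringKrullDim R' = n' :=
    withBot_exists_natCast ringKrullDim_ne_bot (ringKrullDim_lt_top (R := R')).ne
  have hS : ∀ (Q : Ideal R') [Q.IsPrime],
      LocCoh.IsGorensteinLocalRing (Localization.AtPrime Q) := by
    intro Q _
    obtain ⟨_, _, _, _, _, hQ⟩ := gor_prime_data R' n' hn' Q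
    exact hQ
  obtain ⟨h0, a0, e1, e2, e3, -⟩ := gor_prime_data R' n' hn' (p₀.comap (algebraMap R' R))
  obtain ⟨h1, a1, f1, f2, f3, -⟩ := gor_prime_data R' n' hn' (p.comap (algebraMap R' R))
  have hform := gor_height_formula hS (p₀.comap (algebraMap R' R)) (p.comap (algebraMap R' R))
    (Ideal.comap_mono h)
  rw [IsLocalization.AtPrime.ringKrullDim_eq_height (p₀.comap (algebraMap R' R))
    (Localization.AtPrime (p₀.comap (algebraMap R' R)))] at e1
  rw [IsLocalization.AtPrime.ringKrullDim_eq_height (p.comap (algebraMap R' R))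
    (Localization.AtPrime (p.comap (algebraMap R' R)))] at f1
  have g0 : (p₀.comap (algebraMap R' R)).height = h0 := by exact_mod_cast e1
  have g1 : (p.comap (algebraMap R' R)).height = h1 := by exact_mod_cast f1
  have hx : ((p.comap (algebraMap R' R)).map
      (Ideal.Quotient.mk (p₀.comap (algebraMap R' R)))).height =
      (p.map (Ideal.Quotient.mk p₀)).height := by
    rw [height_comap_quot_eq hg ⟨p₀, inferInstance⟩ ⟨p, inferInstance⟩ h,
      ← RelCodim.height_map_eq ⟨p₀, inferInstance⟩ ⟨p, inferInstance⟩ h]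
  rw [g0, g1, hx] at hform
  have hxfin : (p.map (Ideal.Quotient.mk p₀)).height ≠ ⊤ := by
    intro htop
    rw [htop, add_top] at hform
    exact ENat.natCast_ne_top _ hform
  obtain ⟨x, hxx⟩ := ENat.ne_top_iff_exists.mp hxfin
  rw [← hxx] at hform ⊢
  have hform' : h1 = h0 + x := by exact_mod_cast hform
  rw [← ringKrullDim_quotient_comap hg p₀, ← ringKrullDim_quotient_comap hg p, e2, f2]
  have : a0 = x + a1 := by omega
  rw [this]
  push_cast
  rfl

end Groth.Agent.H13.LC
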