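import Groth.Agent.H13.LCDual
import Groth.Agent.H29.CMLoc
import Groth.Agent.H29.RegLocal
import Groth.Agent.S0345

/-!
# Local duality over a Gorenstein local ring: consequences
-/

set_option autoImplicit false
set_option linter.style.haveILetI false
set_option linter.unusedSectionVars false

open CategoryTheory Limits Opposite IsLocalRing

namespace Groth.Agent.H13.LC

open Abelian Groth.Agent.H29

universe u

section Gor

variable (R : Type u) [CommRing R] [hG : LocCoh.IsGorensteinLocalRing R] (n : ℕ)
  (hn : ringKrullDim R = n)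

include hn

lemma gor_depth : LocCoh.depth R R = n := by
  have h1 := ringKrullDim_eq_depth_of_gorenstein R hG
  have h2 : ((n : ℕ∞) : WithBot ℕ∞) = ((LocCoh.depth R R : ℕ∞) : WithBot ℕ∞) :=
    hn.symm.trans h1
  exact (WithBot.coe_injective h2).symm

lemma gor_low (i : ℕ) (hi : i < n) :
    Subsingleton ((localCohomology (maximalIdeal R) i).obj (ModuleCat.of R R)) := by
  have hIM : maximalIdeal R • (⊤ : Submodule R R) ≠ ⊤ := maximalIdeal_smul_top_ne_top R R
  have h5 : ((n : ℕ) : ℕ∞) ≤ LocCoh.idealDepth (maximalIdeal R) R :=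
    le_of_eq (gor_depth R n hn).symm
  exact (le_idealDepth_iff_subsingleton (maximalIdeal R) R hIM n).mp h5 i hi

lemma gor_injective :
    Module.Injective R ((localCohomology (maximalIdeal R) n).obj (ModuleCat.of R R)) := by
  have hlow : ∀ i < n, Injective ((localCohomology (maximalIdeal R) i).obj
      (ModuleCat.of R R)) := by
    intro i hi
    haveI := gor_low R n hn i hi
    exact (ModuleCat.isZero_of_subsingleton _).injective
  have hinjObj := injective_H_top (maximalIdeal R) n R
    (hasInjectiveDimensionLT_of_gorenstein R hG n (gor_depth R n hn)) hlow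
  exact Module.injective_module_of_injective_object R _

lemma gor_GV (X : Type u) [AddCommGroup X] [Module R X] (i : ℕ) (hi : n < i) :
    Subsingleton ((localCohomology (maximalIdeal R) i).obj (ModuleCat.of R X)) := by
  apply subsingleton_of_supportDim_lt (maximalIdeal R) X i
  refine lt_of_le_of_lt (Module.supportDim_le_ringKrullDim R X) ?_
  rw [hn]
  exact_mod_cast hi

/-- Local duality for a Gorenstein local ring. -/
theorem nonempty_H_equiv_dual_ext (M : Type u) [AddCommGroup M] [Module R M] [Module.Finite R M]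
    (i j : ℕ) (hij : i + j = n) :
    Nonempty ((localCohomology (maximalIdeal R) i).obj (ModuleCat.of R M) ≃ₗ[R]
      (Ext (ModuleCat.of R M) (ModuleCat.of R R) j →ₗ[R]
        (localCohomology (maximalIdeal R) n).obj (ModuleCat.of R R))) :=
  duality_aux (maximalIdeal R) n (gor_injective R n hn)
    (fun X _ _ _ => gor_GV R n hn X (n + 1) (Nat.lt_succ_self n))
    (gor_low R n hn) j M i hij

/-- `H^n_m(R)` is a cogenerator. -/
lemma exists_hom_ne_zero (N : Type u) [AddCommGroup N] [Module R N] (y : N) (hy : y ≠ 0) :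
    ∃ ψ : N →ₗ[R] (localCohomology (maximalIdeal R) n).obj (ModuleCat.of R R), ψ y ≠ 0 := by
  obtain ⟨h0, hne, hkill, -⟩ := socleGen_of_gorenstein n R hG (gor_depth R n hn)
  have hE := gor_injective R n hn
  let κ : Submodule R R := LinearMap.ker (LinearMap.toSpanSingleton R N y)
  have hκm : ∀ r ∈ κ, r ∈ maximalIdeal R := by
    intro r hr
    rw [LinearMap.mem_ker, LinearMap.toSpanSingleton_apply] at hr
    by_contra hrm
    have hu : IsUnit r := by
      by_contra hnu
      exact hrm ((mem_maximalIdeal r).mpr hnu)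
    obtain ⟨u, rfl⟩ := hu
    apply hy
    have h1 : (↑u⁻¹ : R) • ((u : R) • y) = y := by rw [smul_smul, Units.inv_mul, one_smul]
    rw [← h1, hr, smul_zero]
  have hκ : κ ≤ LinearMap.ker (LinearMap.toSpanSingleton R
      ((localCohomology (maximalIdeal R) n).obj (ModuleCat.of R R)) h0) := by
    intro r hr
    rw [LinearMap.mem_ker, LinearMap.toSpanSingleton_apply]
    exact hkill r (hκm r hr)
  let q1 : (R ⧸ κ) →ₗ[R] N := κ.liftQ (LinearMap.toSpanSingleton R N y) le_rfl
  have hq1 : Function.Injective q1 := by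
    rw [← LinearMap.ker_eq_bot]
    exact Submodule.ker_liftQ_eq_bot' _ _ rfl
  let q2 : (R ⧸ κ) →ₗ[R] (localCohomology (maximalIdeal R) n).obj (ModuleCat.of R R) :=
    κ.liftQ _ hκ
  obtain ⟨ψ, hψ⟩ := hE.out q1 hq1 q2
  refine ⟨ψ, ?_⟩
  have h1 := hψ (Submodule.Quotient.mk 1)
  have h2 : q1 (Submodule.Quotient.mk 1) = y := by
    change (1 : R) • y = y
    rw [one_smul]
  have h3 : q2 (Submodule.Quotient.mk 1) = h0 := by
    change (1 : R) • h0 = h0
    rw [one_smul]
  rw [h2, h3] at h1
  rw [h1]
  exact hne

/-- The Matlis dual has the same annihilator. -/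
lemma annihilator_dual_eq (X : Type u) [AddCommGroup X] [Module R X] :
    Module.annihilator R
      (X →ₗ[R] (localCohomology (maximalIdeal R) n).obj (ModuleCat.of R R)) =
      Module.annihilator R X := by
  ext s
  rw [Module.mem_annihilator, Module.mem_annihilator]
  constructor
  · intro h x
    by_contra hx
    obtain ⟨ψ, hψ⟩ := exists_hom_ne_zero R n hn X (s • x) hx
    apply hψ
    have h1 := LinearMap.congr_fun (h ψ) x
    rw [LinearMap.smul_apply, LinearMap.zero_apply, ← LinearMap.map_smul] at h1
    exact h1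
  · intro h θ
    refine LinearMap.ext fun x => ?_
    rw [LinearMap.smul_apply, LinearMap.zero_apply, ← LinearMap.map_smul, h x, map_zero]

theorem annihilator_H_eq (M : Type u) [AddCommGroup M] [Module R M] [Module.Finite R M]
    (i j : ℕ) (hij : i + j = n) :
    Module.annihilator R ((localCohomology (maximalIdeal R) i).obj (ModuleCat.of R M)) =
      Module.annihilator R (Ext (ModuleCat.of R M) (ModuleCat.of R R) j) := by
  obtain ⟨e⟩ := nonempty_H_equiv_dual_ext R n hn M i j hij
  rw [e.annihilator_eq, annihilator_dual_eq R n hn]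

theorem subsingleton_H_iff (M : Type u) [AddCommGroup M] [Module R M] [Module.Finite R M]
    (i j : ℕ) (hij : i + j = n) :
    Subsingleton ((localCohomology (maximalIdeal R) i).obj (ModuleCat.of R M)) ↔
      Subsingleton (Ext (ModuleCat.of R M) (ModuleCat.of R R) j) := by
  rw [← Module.annihilator_eq_top_iff (R := R), ← Module.annihilator_eq_top_iff (R := R),
    annihilator_H_eq R n hn M i j hij]

omit hn in
theorem subsingleton_ext_of_lt (hn : ringKrullDim R = n)
    (M : Type u) [AddCommGroup M] [Module R M] (j : ℕ) (hj : n < j) :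
    Subsingleton (Ext (ModuleCat.of R M) (ModuleCat.of R R) j) := by
  haveI := hasInjectiveDimensionLT_of_gorenstein R hG n (gor_depth R n hn)
  exact HasInjectiveDimensionLT.subsingleton (ModuleCat.of R R) (n + 1) j (by omega)
    (ModuleCat.of R M)

end Gor

section ExtIso

variable {C : Type*} [Category C] [Abelian C] [HasExt C]

lemma ext_subsingleton_of_iso {X X' Y Y' : C} (e : X ≅ X') (e' : Y ≅ Y') (n : ℕ)
    (h : Subsingleton (Ext X Y n)) : Subsingleton (Ext X' Y' n) := by
  have key : ∀ x : Ext X' Y' n, x = 0 := by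
    intro x
    have h1 : ((Ext.mk₀ e.hom).comp x (zero_add n)).comp (Ext.mk₀ e'.inv) (add_zero n) = 0 :=
      h.elim _ _
    have h2 : x = (Ext.mk₀ e.inv).comp ((((Ext.mk₀ e.hom).comp x (zero_add n)).comp
        (Ext.mk₀ e'.inv) (add_zero n)).comp (Ext.mk₀ e'.hom) (add_zero n)) (zero_add n) := by
      rw [Ext.comp_assoc_of_third_deg_zero, Ext.mk₀_comp_mk₀, e'.inv_hom_id, Ext.comp_mk₀_id,
        Ext.mk₀_comp_mk₀_assoc, e.inv_hom_id, Ext.mk₀_id_comp]
    rw [h2, h1, Ext.zero_comp, Ext.comp_zero]
  exact ⟨fun a b => by rw [key a, key b]⟩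

end ExtIso

end Groth.Agent.H13.LC
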