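import Groth.Agent.H13.LCDual2

/-!
# Annihilators of `H^i_m(M)` over a Gorenstein local ring via localizations
-/

set_option autoImplicit false
set_option linter.style.haveILetI false
set_option linter.unusedSectionVars false

open CategoryTheory Limits Opposite IsLocalRing

namespace Groth.Agent.H13.LC

open Abelian Groth.Agent.H29

universe u

section Loc

variable (R : Type u) [CommRing R] [IsNoetherianRing R] (p : Ideal R) [p.IsPrime]

theorem subsingleton_localizedModule_ext_iff (M : Type u) [AddCommGroup M] [Module R M]
    [Module.Finite R M] (j : ℕ) :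
    Subsingleton (LocalizedModule p.primeCompl (Ext (ModuleCat.of R M) (ModuleCat.of R R) j)) ↔
      Subsingleton (Ext (ModuleCat.of (Localization.AtPrime p) (LocalizedModule p.primeCompl M))
        (ModuleCat.of (Localization.AtPrime p) (Localization.AtPrime p)) j) := by
  obtain ⟨e⟩ := ext_baseChange R (Localization.AtPrime p) R M j
  let e1 := (IsLocalizedModule.isBaseChange p.primeCompl (Localization.AtPrime p)
    (LocalizedModule.mkLinearMap p.primeCompl
      (Ext (ModuleCat.of R M) (ModuleCat.of R R) j))).equiv
  let eM := (IsLocalizedModule.isBaseChange p.primeCompl (Localization.AtPrime p)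
    (LocalizedModule.mkLinearMap p.primeCompl M)).equiv
  let eR := TensorProduct.AlgebraTensorModule.rid R (Localization.AtPrime p)
    (Localization.AtPrime p)
  constructor
  · intro h
    have h1 := e1.toEquiv.subsingleton_congr.mpr h
    have h2 := e.toEquiv.subsingleton_congr.mp h1
    exact ext_subsingleton_of_iso eM.toModuleIso eR.toModuleIso j h2
  · intro h
    have h2 := ext_subsingleton_of_iso eM.symm.toModuleIso eR.symm.toModuleIso j h
    have h1 := e.toEquiv.subsingleton_congr.mpr h2
    exact e1.toEquiv.subsingleton_congr.mp h1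

end Loc

section GC

variable (R : Type u) [CommRing R] [hG : LocCoh.IsGorensteinLocalRing R]

/-- Data at a prime of a Gorenstein local ring. -/
lemma gor_prime_data (n : ℕ) (hn : ringKrullDim R = n) (p : Ideal R) [p.IsPrime] :
    ∃ (h' a' : ℕ), ringKrullDim (Localization.AtPrime p) = h' ∧ ringKrullDim (R ⧸ p) = a' ∧
      h' + a' = n ∧ LocCoh.IsGorensteinLocalRing (Localization.AtPrime p) := by
  have hGR : LocCoh.IsGorensteinRing R :=
    ((Groth.Agent.S0345.result R).mp hG.exists_hasInjectiveDimensionLT).1
  have hGp := hGR.isGorensteinLocalRing_localization p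
  obtain ⟨a', ha'⟩ := withBot_exists_natCast (ringKrullDim_quotient_ne_bot R p)
    (ringKrullDim_quotient_ne_top R p)
  obtain ⟨h', hh'⟩ := withBot_exists_natCast
    (ringKrullDim_ne_bot (R := Localization.AtPrime p))
    (ringKrullDim_lt_top (R := Localization.AtPrime p)).ne
  refine ⟨h', a', hh', ha', ?_, hGp⟩
  have hCM : LocCoh.IsCohenMacaulayModule R R :=
    (isCohenMacaulayLocalRing_of_gorenstein R).supportDim_eq_depth
  have hp : (⟨p, inferInstance⟩ : PrimeSpectrum R) ∈ Module.support R R := by
    rw [Module.mem_support_iff_of_finite, Module.annihilator_eq_bot.mpr inferInstance]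
    exact bot_le
  obtain ⟨-, hdim⟩ := isCohenMacaulayModule_localizedModule_and_dim R R hCM ⟨p, inferInstance⟩ hp
  rw [Module.supportDim_self_eq_ringKrullDim, hn] at hdim
  have h2 : Module.supportDim (Localization.AtPrime p) (LocalizedModule p.primeCompl R) ≤
      (h' : WithBot ℕ∞) := by
    rw [← hh']
    exact Module.supportDim_le_ringKrullDim _ _
  have h3 := height_add_ringKrullDim_quotient_le R p
  rw [← IsLocalization.AtPrime.ringKrullDim_eq_height p (Localization.AtPrime p), hh', ha',
    hn] at h3
  change (n : WithBot ℕ∞) = ringKrullDim (R ⧸ p) + _ at hdim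
  rw [ha'] at hdim
  have h4 : (n : WithBot ℕ∞) ≤ (a' : WithBot ℕ∞) + (h' : WithBot ℕ∞) := by
    rw [hdim]
    gcongr
  have h5 : n ≤ a' + h' := by exact_mod_cast h4
  have h6 : h' + a' ≤ n := by exact_mod_cast h3
  omega

theorem gor_le_radical_annihilator_iff (M : Type u) [AddCommGroup M] [Module R M]
    [Module.Finite R M] (J : Ideal R) (i : ℕ) :
    J ≤ (Module.annihilator R
      ((localCohomology (maximalIdeal R) i).obj (ModuleCat.of R M))).radical ↔
      ∀ (p : Ideal R) [p.IsPrime], ¬ J ≤ p → ∀ j : ℕ,
        (j : WithBot ℕ∞) + ringKrullDim (R ⧸ p) = i →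
        Subsingleton ((localCohomology (maximalIdeal (Localization.AtPrime p)) j).obj
          (ModuleCat.of (Localization.AtPrime p) (LocalizedModule p.primeCompl M))) := by
  obtain ⟨n, hn⟩ : ∃ n : ℕ, ringKrullDim R = n :=
    withBot_exists_natCast ringKrullDim_ne_bot (ringKrullDim_lt_top (R := R)).ne
  by_cases hin : i ≤ n
  · obtain ⟨j0, hj0⟩ : ∃ j0, i + j0 = n := ⟨n - i, by omega⟩
    rw [annihilator_H_eq R n hn M i j0 hj0]
    haveI : Module.Finite R (Ext (ModuleCat.of R M) (ModuleCat.of R R) j0) :=
      ModuleCat.finite_ext R (ModuleCat.of R M) (ModuleCat.of R R) j0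
    constructor
    · intro hJ p _ hJp j hj
      obtain ⟨h', a', hh', ha', hsum, hGp⟩ := gor_prime_data R n hn p
      rw [ha'] at hj
      have hj' : j + a' = i := by exact_mod_cast hj
      have hjj : j + j0 = h' := by omega
      haveI := hGp
      rw [subsingleton_H_iff (Localization.AtPrime p) h' hh' (LocalizedModule p.primeCompl M)
        j j0 hjj, ← subsingleton_localizedModule_ext_iff R p M j0]
      have hp : (⟨p, inferInstance⟩ : PrimeSpectrum R) ∉
          Module.support R (Ext (ModuleCat.of R M) (ModuleCat.of R R) j0) := by
        rw [Module.mem_support_iff_of_finite]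
        intro hle
        exact hJp (hJ.trans ((Ideal.IsPrime.radical_le_iff ‹p.IsPrime›).mpr hle))
      exact Module.notMem_support_iff.mp hp
    · intro hall
      rw [Ideal.radical_eq_sInf]
      refine le_sInf fun p hp => ?_
      obtain ⟨hle, hpprime⟩ := hp
      by_contra hJp
      haveI := hpprime
      obtain ⟨h', a', hh', ha', hsum, hGp⟩ := gor_prime_data R n hn p
      haveI := hGp
      have hsub : Subsingleton (Ext
          (ModuleCat.of (Localization.AtPrime p) (LocalizedModule p.primeCompl M))
          (ModuleCat.of (Localization.AtPrime p) (Localization.AtPrime p)) j0) := by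
        by_cases hjh : j0 ≤ h'
        · have h1 := hall p hJp (h' - j0) (by
            rw [ha']
            exact_mod_cast (by omega : h' - j0 + a' = i))
          exact (subsingleton_H_iff (Localization.AtPrime p) h' hh' _ (h' - j0) j0
            (by omega)).mp h1
        · exact subsingleton_ext_of_lt (Localization.AtPrime p) h' hh' _ j0 (by omega)
      have hXp := (subsingleton_localizedModule_ext_iff R p M j0).mpr hsub
      have hp' : (⟨p, hpprime⟩ : PrimeSpectrum R) ∉
          Module.support R (Ext (ModuleCat.of R M) (ModuleCat.of R R) j0) :=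
        Module.notMem_support_iff.mpr hXp
      exact hp' (Module.mem_support_iff_of_finite.mpr hle)
  · push Not at hin
    have hH := gor_GV R n hn M i hin
    constructor
    · intro _ p _ hJp j hj
      obtain ⟨h', a', hh', ha', hsum, hGp⟩ := gor_prime_data R n hn p
      rw [ha'] at hj
      have hj' : j + a' = i := by exact_mod_cast hj
      haveI := hGp
      exact gor_GV (Localization.AtPrime p) h' hh' _ j (by omega)
    · intro _
      have h1 : Module.annihilator R
          ((localCohomology (maximalIdeal R) i).obj (ModuleCat.of R M)) = ⊤ :=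
        Module.annihilator_eq_top_iff.mpr hH
      rw [h1, Ideal.radical_top]
      exact le_top

end GC

end Groth.Agent.H13.LC
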