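import Groth.Agent.H13.LCNat
import Groth.Agent.H13.LCTors2

/-!
# Every local cohomology class comes from a finitely generated submodule (Noetherian case)
-/

set_option autoImplicit false
set_option linter.style.haveILetI false

open CategoryTheory Limits Opposite

namespace Groth.Agent.H13.LC

universe u

variable {R : Type u} [CommRing R] (I : Ideal R)

/-- Lift a finitely generated submodule along a surjection. -/
lemma exists_fg_map_eq {A B : Type u} [AddCommGroup A] [Module R A] [AddCommGroup B] [Module R B]
    (g : A →ₗ[R] B) (hg : Function.Surjective g) (Q : Submodule R B) (hQ : Q.FG) :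
    ∃ N : Submodule R A, N.FG ∧ N.map g = Q := by
  classical
  obtain ⟨s, hs⟩ := hQ
  refine ⟨Submodule.span R (s.image (Function.surjInv hg) : Set A), ⟨s.image _, rfl⟩, ?_⟩
  rw [Submodule.map_span, ← hs, Finset.coe_image, Set.image_image]
  congr 1
  ext b
  simp [Function.surjInv_eq hg]

theorem exists_fg_rep_zero (M : Type u) [AddCommGroup M] [Module R M]
    (x : (localCohomology I 0).obj (ModuleCat.of R M)) :
    ∃ N : Submodule R M, N.FG ∧
      x ∈ Set.range ((localCohomology I 0).map (ModuleCat.ofHom N.subtype)).hom := by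
  set m : M := (ε I (ModuleCat.of R M)).hom x with hm
  have hmt : m ∈ DRing.torsionSub I M := by
    have : m ∈ LinearMap.range (ε I (ModuleCat.of R M)).hom := ⟨x, rfl⟩
    rw [range_ε] at this
    exact this
  let N : Submodule R M := Submodule.span R {m}
  have hmN : m ∈ N := Submodule.mem_span_singleton_self m
  have hmt' : (⟨m, hmN⟩ : N) ∈ DRing.torsionSub I N := by
    obtain ⟨n, hn⟩ := hmt
    exact ⟨n, fun a ha => Subtype.ext (hn a ha)⟩
  have h2 : (⟨m, hmN⟩ : N) ∈ LinearMap.range (ε I (ModuleCat.of R N)).hom := by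
    rw [range_ε]; exact hmt'
  obtain ⟨y, hy⟩ := h2
  refine ⟨N, Submodule.fg_span_singleton m, y, ε_injective I _ ?_⟩
  rw [ε_naturality_apply, hy]
  rfl

variable [IsNoetherianRing R]

theorem exists_fg_rep_succ (i : ℕ)
    (ih : ∀ (M : Type u) [AddCommGroup M] [Module R M]
      (x : (localCohomology I i).obj (ModuleCat.of R M)),
      ∃ N : Submodule R M, N.FG ∧
        x ∈ Set.range ((localCohomology I i).map (ModuleCat.ofHom N.subtype)).hom)
    (M : Type u) [AddCommGroup M] [Module R M]
    (x : (localCohomology I (i + 1)).obj (ModuleCat.of R M)) :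
    ∃ N : Submodule R M, N.FG ∧
      x ∈ Set.range ((localCohomology I (i + 1)).map (ModuleCat.ofHom N.subtype)).hom := by
  let E : ModuleCat.{u} R := Injective.under (ModuleCat.of R M)
  let e : ModuleCat.of R M ⟶ E := Injective.ι (ModuleCat.of R M)
  have he : Function.Injective e.hom := (ModuleCat.mono_iff_injective e).mp inferInstance
  haveI hEo : Injective (ModuleCat.of R E) :=
    (inferInstanceAs (Injective (Injective.under (ModuleCat.of R M))))
  have hS := scInj_shortExact e.hom he
  have h1 : ((localCohomology I (i + 1)).map (scInj e.hom).f).hom x = 0 :=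
    (subsingleton_of_injective I i (ModuleCat.of R E)).elim _ _
  obtain ⟨y, rfl⟩ := (exact₁ I (scInj e.hom) hS i x).mp h1
  obtain ⟨Q', hQ', y', hy'⟩ := ih (E ⧸ LinearMap.range e.hom) y
  obtain ⟨N, hN, hNQ⟩ := exists_fg_map_eq (LinearMap.range e.hom).mkQ
    (LinearMap.range e.hom).mkQ_surjective Q' hQ'
  let M₀ : Submodule R M := N.comap e.hom
  let f₀ : M₀ →ₗ[R] N := e.hom.restrict (fun x hx => hx)
  have hf₀ : Function.Injective f₀ := fun a b hab => Subtype.ext (he (congrArg Subtype.val hab))
  have hM₀ : M₀.FG := by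
    haveI : IsNoetherian R N := isNoetherian_of_fg_of_noetherian N hN
    haveI : IsNoetherian R M₀ := isNoetherian_of_injective f₀ hf₀
    exact Module.Finite.iff_fg.mp inferInstance
  let g₀ : N →ₗ[R] Q' := (LinearMap.range e.hom).mkQ.restrict
    (fun x hx => hNQ ▸ Submodule.mem_map_of_mem hx)
  have hg₀ : Function.Surjective g₀ := by
    rintro ⟨q, hq⟩
    rw [← hNQ] at hq
    obtain ⟨n, hn, rfl⟩ := hq
    exact ⟨⟨n, hn⟩, rfl⟩
  have hex : Function.Exact f₀ g₀ := by
    intro n
    constructor
    · intro hn
      have h0 : (LinearMap.range e.hom).mkQ (n : E) = 0 := congrArg Subtype.val hn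
      rw [Submodule.mkQ_apply, Submodule.Quotient.mk_eq_zero] at h0
      obtain ⟨m, hm⟩ := h0
      exact ⟨⟨m, by change e.hom m ∈ N; rw [hm]; exact n.2⟩, Subtype.ext hm⟩
    · rintro ⟨m, rfl⟩
      apply Subtype.ext
      change (LinearMap.range e.hom).mkQ (e.hom m) = 0
      rw [Submodule.mkQ_apply, Submodule.Quotient.mk_eq_zero]
      exact ⟨m, rfl⟩
  let S₀ : ShortComplex (ModuleCat.{u} R) :=
    ShortComplex.mk (ModuleCat.ofHom f₀) (ModuleCat.ofHom g₀) (by
      ext m
      exact congrArg Subtype.val (hex.apply_apply_eq_zero m))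
  have hS₀ : S₀.ShortExact := by
    refine ShortComplex.ShortExact.mk' ?_ ?_ ?_
    · rw [ShortComplex.ShortExact.moduleCat_exact_iff_function_exact]
      exact hex
    · rw [ModuleCat.mono_iff_injective]
      exact hf₀
    · rw [ModuleCat.epi_iff_surjective]
      exact hg₀
  let φ : S₀ ⟶ scInj e.hom :=
    { τ₁ := ModuleCat.ofHom M₀.subtype
      τ₂ := ModuleCat.ofHom N.subtype
      τ₃ := ModuleCat.ofHom Q'.subtype
      comm₁₂ := rfl
      comm₂₃ := rfl }
  refine ⟨M₀, hM₀, (δ I S₀ hS₀ i).hom y', ?_⟩
  rw [← hy']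
  exact (δ_naturality_apply I hS₀ hS φ i y').symm

/-- Over a Noetherian ring every class in `H^i_I(M)` is the image of a class of a finitely
generated submodule of `M`. -/
theorem exists_fg_rep (i : ℕ) : ∀ (M : Type u) [AddCommGroup M] [Module R M]
    (x : (localCohomology I i).obj (ModuleCat.of R M)),
    ∃ N : Submodule R M, N.FG ∧
      x ∈ Set.range ((localCohomology I i).map (ModuleCat.ofHom N.subtype)).hom := by
  induction i with
  | zero => exact fun M _ _ x => exists_fg_rep_zero I M x
  | succ i ih => exact fun M _ _ x => exists_fg_rep_succ I i ih M x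

/-- Vanishing of `H^i_I` on all finitely generated modules implies vanishing on all modules. -/
theorem subsingleton_of_fg (i : ℕ)
    (h : ∀ (N : Type u) [AddCommGroup N] [Module R N], Module.Finite R N →
      Subsingleton ((localCohomology I i).obj (ModuleCat.of R N)))
    (M : Type u) [AddCommGroup M] [Module R M] :
    Subsingleton ((localCohomology I i).obj (ModuleCat.of R M)) := by
  have key : ∀ x : (localCohomology I i).obj (ModuleCat.of R M), x = 0 := by
    intro x
    obtain ⟨N, hN, y, rfl⟩ := exists_fg_rep I i M x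
    haveI := h N (Module.Finite.iff_fg.mpr hN)
    rw [Subsingleton.elim y 0]
    exact map_zero _
  exact ⟨fun x y => by rw [key x, key y]⟩

end Groth.Agent.H13.LC
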