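import Groth.Agent.H13.ExtBridge
import Groth.Agent.H29.ExtBaseChange

/-!
# Base change of an injective module along a flat map is `Γ`-acyclic
-/

set_option autoImplicit false
set_option linter.style.haveILetI false

open CategoryTheory Limits Opposite TensorProduct

namespace Groth.Agent.H13.LC

universe u

variable {R : Type u} [CommRing R] [IsNoetherianRing R] {R' : Type u} [CommRing R']
  [Algebra R R'] [Module.Flat R R'] (I : Ideal R)

/-- For `R → R'` flat with `R` Noetherian and `E` an injective `R`-module, `R' ⊗ E` is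
`Γ_{IR'}`-acyclic. -/
theorem subsingleton_tensor_injective (E₀ : Type u) [AddCommGroup E₀] [Module R E₀]
    [Module.Injective R E₀] (i : ℕ) :
    Subsingleton ((localCohomology (I.map (algebraMap R R')) (i + 1)).obj
      (ModuleCat.of R' (R' ⊗[R] E₀))) := by
  have hz : ∀ j : ℕᵒᵖᵒᵖ, IsZero ((E (I.map (algebraMap R R')) (i + 1)
      (ModuleCat.of R' (R' ⊗[R] E₀))).obj j) := by
    intro j
    apply ExtLES.isZero_ext_succ_of_subsingleton
    haveI hEinj : Injective (ModuleCat.of R E₀) :=
      Module.injective_object_of_injective_module R E₀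
    have h1 : Subsingleton (Abelian.Ext (ModuleCat.of R (R ⧸ I ^ (unop (unop j))))
        (ModuleCat.of R E₀) (i + 1)) := Abelian.Ext.subsingleton_of_injective _ _ _
    obtain ⟨e⟩ := Groth.Agent.H29.ext_baseChange R R' E₀ (R ⧸ I ^ (unop (unop j))) (i + 1)
    have h3 : Subsingleton (Abelian.Ext (ModuleCat.of R' (R' ⊗[R] (R ⧸ I ^ (unop (unop j)))))
        (ModuleCat.of R' (R' ⊗[R] E₀)) (i + 1)) := e.symm.injective.subsingleton
    let eq1 : (R' ⧸ (I ^ (unop (unop j))).map (algebraMap R R')) ≃ₗ[R']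
        R' ⊗[R] (R ⧸ I ^ (unop (unop j))) :=
      Algebra.TensorProduct.quotIdealMapEquivTensorQuotAux R' (I ^ (unop (unop j)))
    have hJn : (I ^ (unop (unop j))).map (algebraMap R R') =
        (I.map (algebraMap R R')) ^ (unop (unop j)) := Ideal.map_pow _ _ _
    let eq2 : (R' ⧸ (I.map (algebraMap R R')) ^ (unop (unop j))) ≃ₗ[R']
        R' ⊗[R] (R ⧸ I ^ (unop (unop j))) :=
      (Submodule.quotEquivOfEq _ _ hJn.symm).trans eq1
    exact ExtLES.subsingleton_ext_of_iso (eq2.symm.toModuleIso) _ _ h3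
  refine ⟨fun x y => ?_⟩
  obtain ⟨j, a, rfl⟩ := exists_rep (I.map (algebraMap R R')) (i + 1) _ x
  obtain ⟨j', b, rfl⟩ := exists_rep (I.map (algebraMap R R')) (i + 1) _ y
  have := ModuleCat.subsingleton_of_isZero (hz j)
  have := ModuleCat.subsingleton_of_isZero (hz j')
  rw [Subsingleton.elim a 0, Subsingleton.elim b 0, map_zero, map_zero]

end Groth.Agent.H13.LC
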