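import Groth.Agent.H13.LCFlatBC0
import Groth.Agent.H13.LCDExact

/-!
# Flat base change for local cohomology
-/

set_option autoImplicit false
set_option linter.style.haveILetI false

open CategoryTheory Limits Opposite TensorProduct

namespace Groth.Agent.H13.LC

universe u

/-- Two surjective linear maps with the same kernel have isomorphic targets. -/
theorem exists_linearEquiv_of_surjective {S : Type*} [CommRing S] {A B C : Type*}
    [AddCommGroup A] [Module S A] [AddCommGroup B] [Module S B] [AddCommGroup C] [Module S C]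
    (f : A →ₗ[S] B) (g : A →ₗ[S] C) (hf : Function.Surjective f) (hg : Function.Surjective g)
    (hker : ∀ z, f z = 0 ↔ g z = 0) : Nonempty (B ≃ₗ[S] C) := by
  have hK : LinearMap.ker f = LinearMap.ker g := by
    ext z
    exact hker z
  exact ⟨(f.quotKerEquivOfSurjective hf).symm ≪≫ₗ Submodule.quotEquivOfEq _ _ hK ≪≫ₗ
    g.quotKerEquivOfSurjective hg⟩

variable {R : Type u} [CommRing R] [IsNoetherianRing R] (R' : Type u) [CommRing R']
  [Algebra R R'] [Module.Flat R R'] (I : Ideal R)

omit [IsNoetherianRing R] in
lemma baseChange_injective {A B : Type u} [AddCommGroup A] [Module R A] [AddCommGroup B]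
    [Module R B] (f : A →ₗ[R] B) (hf : Function.Injective f) :
    Function.Injective (f.baseChange R') := by
  rw [LinearMap.baseChange_eq_ltensor]
  exact Module.Flat.lTensor_preserves_injective_linearMap f hf

omit [IsNoetherianRing R] [Module.Flat R R'] in
lemma baseChange_surjective {A B : Type u} [AddCommGroup A] [Module R A] [AddCommGroup B]
    [Module R B] (f : A →ₗ[R] B) (hf : Function.Surjective f) :
    Function.Surjective (f.baseChange R') := by
  rw [LinearMap.baseChange_eq_ltensor]
  exact LinearMap.lTensor_surjective R' hf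

omit [IsNoetherianRing R] in
lemma baseChange_exact {A B C : Type u} [AddCommGroup A] [Module R A] [AddCommGroup B]
    [Module R B] [AddCommGroup C] [Module R C] (f : A →ₗ[R] B) (g : B →ₗ[R] C)
    (h : Function.Exact f g) : Function.Exact (f.baseChange R') (g.baseChange R') := by
  rw [LinearMap.baseChange_eq_ltensor, LinearMap.baseChange_eq_ltensor]
  exact Module.Flat.lTensor_exact R' h

/-- Degree zero: `R' ⊗ Γ_I(M) ≅ Γ_{IR'}(R' ⊗ M)`, compatibly with the inclusions. -/
theorem exists_H0_baseChange (M : Type u) [AddCommGroup M] [Module R M] :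
    ∃ φ : (R' ⊗[R] ((localCohomology I 0).obj (ModuleCat.of R M))) ≃ₗ[R']
        ((localCohomology (I.map (algebraMap R R')) 0).obj (ModuleCat.of R' (R' ⊗[R] M))),
      ∀ x, (ε (I.map (algebraMap R R')) (ModuleCat.of R' (R' ⊗[R] M))).hom (φ x) =
        (ε I (ModuleCat.of R M)).hom.baseChange R' x := by
  have hinj : Function.Injective ((ε I (ModuleCat.of R M)).hom.baseChange R') :=
    baseChange_injective R' _ (ε_injective I _)
  let e₁ := LinearEquiv.ofInjective ((ε I (ModuleCat.of R M)).hom.baseChange R') hinj
  let e₂ := LinearEquiv.ofInjective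
    (ε (I.map (algebraMap R R')) (ModuleCat.of R' (R' ⊗[R] M))).hom (ε_injective _ _)
  have hrange : LinearMap.range ((ε I (ModuleCat.of R M)).hom.baseChange R') =
      LinearMap.range (ε (I.map (algebraMap R R')) (ModuleCat.of R' (R' ⊗[R] M))).hom := by
    rw [range_baseChange_ε, range_ε]
  refine ⟨e₁ ≪≫ₗ LinearEquiv.ofEq _ _ hrange ≪≫ₗ e₂.symm, fun x => ?_⟩
  have h2 : ∀ w, ((e₂ w : LinearMap.range
      (ε (I.map (algebraMap R R')) (ModuleCat.of R' (R' ⊗[R] M))).hom) : R' ⊗[R] M) =
      (ε (I.map (algebraMap R R')) (ModuleCat.of R' (R' ⊗[R] M))).hom w := fun w => rfl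
  change (ε (I.map (algebraMap R R')) (ModuleCat.of R' (R' ⊗[R] M))).hom
    (e₂.symm (LinearEquiv.ofEq _ _ hrange (e₁ x))) = _
  rw [← h2, LinearEquiv.apply_symm_apply]
  rfl

/-- Dimension shifting step for flat base change. -/
theorem baseChange_step (i : ℕ) {M E₀ Q : Type u} [AddCommGroup M] [Module R M]
    [AddCommGroup E₀] [Module R E₀] [AddCommGroup Q] [Module R Q] (f : M →ₗ[R] E₀)
    (g : E₀ →ₗ[R] Q) (hex : Function.Exact f g) (hf : Function.Injective f)
    (hg : Function.Surjective g) [Module.Injective R E₀]
    (φQ : (R' ⊗[R] ((localCohomology I i).obj (ModuleCat.of R Q))) ≃ₗ[R']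
        ((localCohomology (I.map (algebraMap R R')) i).obj (ModuleCat.of R' (R' ⊗[R] Q))))
    (hcompat : ∀ z, z ∈ Set.range (((localCohomology I i).map
        (ModuleCat.ofHom g)).hom.baseChange R') ↔
      φQ z ∈ Set.range ((localCohomology (I.map (algebraMap R R')) i).map
        (ModuleCat.ofHom (g.baseChange R'))).hom) :
    Nonempty ((R' ⊗[R] ((localCohomology I (i + 1)).obj (ModuleCat.of R M))) ≃ₗ[R']
      ((localCohomology (I.map (algebraMap R R')) (i + 1)).obj
        (ModuleCat.of R' (R' ⊗[R] M)))) := by
  have hS := scLin_shortExact f g hex hf hg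
  have hex' := baseChange_exact R' f g hex
  have hS' := scLin_shortExact (f.baseChange R') (g.baseChange R') hex'
    (baseChange_injective R' f hf) (baseChange_surjective R' g hg)
  haveI hEo : Injective (ModuleCat.of R E₀) := Module.injective_object_of_injective_module R _
  haveI h1 : Subsingleton ((localCohomology I (i + 1)).obj (ModuleCat.of R E₀)) :=
    subsingleton_of_injective _ i _
  haveI h1' : Subsingleton ((localCohomology (I.map (algebraMap R R')) (i + 1)).obj
      (ModuleCat.of R' (R' ⊗[R] E₀))) := subsingleton_tensor_injective I E₀ i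
  have hδsurj : Function.Surjective (δ I (scLin f g hex) hS i).hom := by
    intro y
    exact (exact₁ _ _ hS i y).mp (h1.elim _ _)
  have hδ'surj : Function.Surjective (δ (I.map (algebraMap R R'))
      (scLin (f.baseChange R') (g.baseChange R') hex') hS' i).hom := by
    intro y
    exact (exact₁ _ _ hS' i y).mp (h1'.elim _ _)
  let fa : (R' ⊗[R] ((localCohomology I i).obj (ModuleCat.of R Q))) →ₗ[R']
      (R' ⊗[R] ((localCohomology I (i + 1)).obj (ModuleCat.of R M))) :=
    (δ I (scLin f g hex) hS i).hom.baseChange R'
  let ga : (R' ⊗[R] ((localCohomology I i).obj (ModuleCat.of R Q))) →ₗ[R']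
      ((localCohomology (I.map (algebraMap R R')) (i + 1)).obj
        (ModuleCat.of R' (R' ⊗[R] M))) :=
    (δ (I.map (algebraMap R R')) (scLin (f.baseChange R') (g.baseChange R') hex') hS'
      i).hom ∘ₗ φQ.toLinearMap
  have hfa : Function.Surjective fa := baseChange_surjective R' _ hδsurj
  have hga : Function.Surjective ga := hδ'surj.comp φQ.surjective
  have hexT : Function.Exact (((localCohomology I i).map (scLin f g hex).g).hom.baseChange R')
      ((δ I (scLin f g hex) hS i).hom.baseChange R') :=
    baseChange_exact R' _ _ (exact₃ I _ hS i)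
  refine exists_linearEquiv_of_surjective fa ga hfa hga (fun z => ?_)
  change (δ I (scLin f g hex) hS i).hom.baseChange R' z = 0 ↔
    (δ (I.map (algebraMap R R')) (scLin (f.baseChange R') (g.baseChange R') hex') hS'
      i).hom (φQ z) = 0
  rw [hexT z, exact₃ _ _ hS' i (φQ z)]
  exact hcompat z

/-- Flat base change for local cohomology: `R' ⊗ H^i_I(M) ≅ H^i_{IR'}(R' ⊗ M)`. -/
theorem exists_baseChange_equiv (i : ℕ) : ∀ (M : Type u) [AddCommGroup M] [Module R M],
    Nonempty ((R' ⊗[R] ((localCohomology I i).obj (ModuleCat.of R M))) ≃ₗ[R']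
      ((localCohomology (I.map (algebraMap R R')) i).obj
        (ModuleCat.of R' (R' ⊗[R] M)))) := by
  induction i with
  | zero =>
    intro M _ _
    obtain ⟨φ, -⟩ := exists_H0_baseChange R' I M
    exact ⟨φ⟩
  | succ j ih =>
    intro M _ _
    obtain ⟨E₀, _, _, f, hf, hE⟩ := exists_injective_embedding (R := R) M
    haveI := hE
    have hex := LinearMap.exact_map_mkQ_range f
    have hg := Submodule.mkQ_surjective (LinearMap.range f)
    rcases j with _ | k
    · obtain ⟨φQ, hεQ⟩ := exists_H0_baseChange R' I (E₀ ⧸ LinearMap.range f)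
      obtain ⟨φE, hεE⟩ := exists_H0_baseChange R' I E₀
      refine baseChange_step R' I 0 f (LinearMap.range f).mkQ hex hf hg φQ ?_
      have hnat : ∀ w, φQ ((((localCohomology I 0).map
          (ModuleCat.ofHom (LinearMap.range f).mkQ)).hom.baseChange R') w) =
          ((localCohomology (I.map (algebraMap R R')) 0).map
            (ModuleCat.ofHom ((LinearMap.range f).mkQ.baseChange R'))).hom (φE w) := by
        intro w
        apply ε_injective (I.map (algebraMap R R'))
        rw [hεQ, ε_naturality_apply, hεE]
        have h1 : (ε I (ModuleCat.of R (E₀ ⧸ LinearMap.range f))).hom ∘ₗ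
            ((localCohomology I 0).map (ModuleCat.ofHom (LinearMap.range f).mkQ)).hom =
            (LinearMap.range f).mkQ ∘ₗ (ε I (ModuleCat.of R E₀)).hom :=
          LinearMap.ext (fun x => ε_naturality_apply I (ModuleCat.ofHom (LinearMap.range f).mkQ) x)
        have h2 := congrArg (fun t => (t.baseChange R') w) h1
        simp only [LinearMap.baseChange_comp] at h2
        exact h2
      intro z
      constructor
      · rintro ⟨w, rfl⟩
        exact ⟨φE w, (hnat w).symm⟩
      · rintro ⟨u, hu⟩
        obtain ⟨w, rfl⟩ := φE.surjective u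
        refine ⟨w, φQ.injective ?_⟩
        rw [hnat, hu]
    · obtain ⟨φQ⟩ := ih (E₀ ⧸ LinearMap.range f)
      refine baseChange_step R' I (k + 1) f (LinearMap.range f).mkQ hex hf hg φQ ?_
      haveI hEo : Injective (ModuleCat.of R E₀) := Module.injective_object_of_injective_module R _
      haveI h1 : Subsingleton ((localCohomology I (k + 1)).obj (ModuleCat.of R E₀)) :=
        subsingleton_of_injective _ k _
      haveI h1' : Subsingleton ((localCohomology (I.map (algebraMap R R')) (k + 1)).obj
          (ModuleCat.of R' (R' ⊗[R] E₀))) := subsingleton_tensor_injective I E₀ k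
      haveI h1T : Subsingleton (R' ⊗[R] ((localCohomology I (k + 1)).obj (ModuleCat.of R E₀))) :=
        inferInstance
      intro z
      constructor
      · rintro ⟨w, rfl⟩
        rw [Subsingleton.elim w 0, map_zero, map_zero]
        exact ⟨0, map_zero _⟩
      · rintro ⟨u, hu⟩
        rw [Subsingleton.elim u 0, map_zero] at hu
        have hz : z = 0 := φQ.injective (by rw [← hu, map_zero])
        exact ⟨0, by rw [hz, map_zero]⟩

end Groth.Agent.H13.LC
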