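import Groth.Agent.H13.LCFlatAcyc
import Groth.Agent.H13.LCSum
import Groth.Agent.H13.LCDT5

/-!
# Flat base change for local cohomology: degree zero
-/

set_option autoImplicit false
set_option linter.style.haveILetI false

open CategoryTheory Limits Opposite TensorProduct

namespace Groth.Agent.H13.LC

universe u

variable {R : Type u} [CommRing R] [IsNoetherianRing R] (R' : Type u) [CommRing R']
  [Algebra R R'] [Module.Flat R R'] (I : Ideal R)

/-- Flat base change preserves the absence of `I`-torsion. -/
theorem torsionSub_tensor_eq_bot (N : Type u) [AddCommGroup N] [Module R N]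
    (h : DRing.torsionSub I N = ⊥) :
    DRing.torsionSub (I.map (algebraMap R R')) (R' ⊗[R] N) = ⊥ := by
  classical
  obtain ⟨s, hs⟩ : I.FG := IsNoetherian.noetherian _
  let α : N →ₗ[R] (s → N) := LinearMap.pi (fun a => (a : R) • LinearMap.id)
  have hα : Function.Injective α := by
    rw [← LinearMap.ker_eq_bot, eq_bot_iff]
    intro x hx
    rw [LinearMap.mem_ker] at hx
    have hx' : ∀ a : s, (a : R) • x = 0 := fun a => congrFun hx a
    have : x ∈ DRing.torsionSub I N := by
      refine ⟨1, fun b hb => ?_⟩
      rw [pow_one, ← hs] at hb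
      induction hb using Submodule.span_induction with
      | mem r hr => exact hx' ⟨r, hr⟩
      | zero => exact zero_smul _ _
      | add y z _ _ hy hz => rw [add_smul, hy, hz, add_zero]
      | smul t y _ hy => rw [smul_eq_mul, mul_smul, hy, smul_zero]
    rw [h] at this
    exact this
  have hTα : Function.Injective (α.lTensor R') :=
    Module.Flat.lTensor_preserves_injective_linearMap α hα
  have hcomp : ∀ (y : R' ⊗[R] N) (a : s),
      (TensorProduct.piRight R R' R' (fun _ : s => N)) (α.lTensor R' y) a =
        algebraMap R R' (a : R) • y := by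
    intro y a
    induction y using TensorProduct.induction_on with
    | zero => simp
    | tmul r' x =>
      rw [LinearMap.lTensor_tmul, TensorProduct.piRight_apply, TensorProduct.piRightHom_tmul]
      change r' ⊗ₜ[R] ((a : R) • x) = _
      rw [TensorProduct.tmul_smul, algebraMap_smul]
    | add y z hy hz =>
      rw [map_add, map_add, Pi.add_apply, hy, hz, smul_add]
  -- elements killed by `J` vanish
  have hJ : ∀ y : R' ⊗[R] N, (∀ b ∈ I.map (algebraMap R R'), b • y = 0) → y = 0 := by
    intro y hy
    apply hTα
    rw [map_zero]
    apply (TensorProduct.piRight R R' R' (fun _ : s => N)).injective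
    rw [map_zero]
    funext a
    rw [hcomp]
    exact hy _ (Ideal.mem_map_of_mem _ (hs ▸ Submodule.subset_span a.2))
  have hJn : ∀ (n : ℕ) (y : R' ⊗[R] N),
      (∀ b ∈ (I.map (algebraMap R R')) ^ n, b • y = 0) → y = 0 := by
    intro n
    induction n with
    | zero =>
      intro y hy
      have := hy 1 (by rw [pow_zero, Ideal.one_eq_top]; trivial)
      rwa [one_smul] at this
    | succ n ih =>
      intro y hy
      apply ih
      intro b hb
      apply hJ
      intro c hc
      rw [smul_smul]
      exact hy _ (by rw [pow_succ']; exact Ideal.mul_mem_mul hc hb)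
  rw [eq_bot_iff]
  rintro y ⟨n, hn⟩
  exact hJn n y hn

/-- The image of `R' ⊗ Γ_I(M)` in `R' ⊗ M` is `Γ_{IR'}(R' ⊗ M)`. -/
theorem range_baseChange_ε (M : Type u) [AddCommGroup M] [Module R M] :
    LinearMap.range ((ε I (ModuleCat.of R M)).hom.baseChange R') =
      DRing.torsionSub (I.map (algebraMap R R')) (R' ⊗[R] M) := by
  apply le_antisymm
  · rintro _ ⟨w, rfl⟩
    induction w using TensorProduct.induction_on with
    | zero => rw [map_zero]; exact Submodule.zero_mem _
    | tmul r' x =>
      rw [LinearMap.baseChange_tmul]
      have hx : (ε I (ModuleCat.of R M)).hom x ∈ DRing.torsionSub I M := by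
        have : (ε I (ModuleCat.of R M)).hom x ∈ LinearMap.range (ε I (ModuleCat.of R M)).hom :=
          ⟨x, rfl⟩
        rw [range_ε] at this
        exact this
      obtain ⟨n, hn⟩ := hx
      refine ⟨n, smul_eq_zero_of_map_pow (R' := R') I n _ (fun a ha => ?_)⟩
      rw [TensorProduct.smul_tmul', TensorProduct.smul_tmul, hn a ha, TensorProduct.tmul_zero]
    | add y z hy hz =>
      rw [map_add]
      exact Submodule.add_mem _ hy hz
  · intro y hy
    have hN := torsionSub_tensor_eq_bot R' I (M ⧸ DRing.torsionSub I M)
      (torsionSub_quotient_eq_bot' I M)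
    have hy' : ((DRing.torsionSub I M).mkQ.baseChange R') y ∈
        DRing.torsionSub (I.map (algebraMap R R')) (R' ⊗[R] (M ⧸ DRing.torsionSub I M)) :=
      DRing.map_mem_torsionSub _ _ hy
    rw [hN, Submodule.mem_bot] at hy'
    have hex : Function.Exact ((DRing.torsionSub I M).subtype.lTensor R')
        ((DRing.torsionSub I M).mkQ.lTensor R') :=
      lTensor_exact R' (LinearMap.exact_subtype_mkQ _) (Submodule.mkQ_surjective _)
    have hy'' : (DRing.torsionSub I M).mkQ.lTensor R' y = 0 := hy'
    have hw : ∀ w : R' ⊗[R] ↥(DRing.torsionSub I M),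
        (DRing.torsionSub I M).subtype.lTensor R' w ∈
          LinearMap.range ((ε I (ModuleCat.of R M)).hom.baseChange R') := by
      intro w
      induction w using TensorProduct.induction_on with
      | zero => rw [map_zero]; exact Submodule.zero_mem _
      | tmul r' γ =>
        have hγ : (γ : M) ∈ LinearMap.range (ε I (ModuleCat.of R M)).hom := by
          rw [range_ε]
          exact γ.2
        obtain ⟨x, hx⟩ := hγ
        refine ⟨r' ⊗ₜ x, ?_⟩
        rw [LinearMap.baseChange_tmul, LinearMap.lTensor_tmul, hx]
        rfl
      | add y z hy hz =>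
        rw [map_add]
        exact Submodule.add_mem _ hy hz
    obtain ⟨w, rfl⟩ := (hex y).mp hy''
    exact hw w

end Groth.Agent.H13.LC
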