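import Groth.Agent.H13.LCPsiB
import Groth.Agent.H13.LCDepth
import Groth.Agent.H13.LCBaseIndep
import Groth.Agent.H29.Gorenstein

/-!
# Top local cohomology of a Gorenstein local ring is the injective hull of the residue field
-/

set_option autoImplicit false
set_option linter.style.haveILetI false
set_option linter.unusedSectionVars false

open CategoryTheory Limits Opposite

namespace Groth.Agent.H13.LC

universe u

section TopInj

variable {R : Type u} [CommRing R] [IsNoetherianRing R] (I : Ideal R)

lemma injective_X₃ (S : ShortComplex (ModuleCat.{u} R)) (hS : S.ShortExact)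
    (h₁ : Injective S.X₁) (h₂ : Injective S.X₂) : Injective S.X₃ := by
  haveI : HasInjectiveDimensionLT S.X₁ 2 := hasInjectiveDimensionLT_of_ge S.X₁ 1 2 (by omega)
  haveI : HasInjectiveDimensionLT S.X₃ 1 :=
    hS.hasInjectiveDimensionLT_X₃ 1 inferInstance inferInstance
  infer_instance

lemma injective_X₂ (S : ShortComplex (ModuleCat.{u} R)) (hS : S.ShortExact)
    (h₁ : Injective S.X₁) (h₃ : Injective S.X₃) : Injective S.X₂ := by
  haveI : HasInjectiveDimensionLT S.X₂ 1 :=
    hS.hasInjectiveDimensionLT_X₂ 1 inferInstance inferInstance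
  infer_instance

lemma injective_of_linearEquiv {A B : Type u} [AddCommGroup A] [Module R A] [AddCommGroup B]
    [Module R B] (e : A ≃ₗ[R] B) (h : Injective (ModuleCat.of R A)) :
    Injective (ModuleCat.of R B) :=
  Injective.of_iso e.toModuleIso h

/-- `H^0_I(E)` is injective when `E` is. -/
lemma injective_H0 (E : Type u) [AddCommGroup E] [Module R E]
    (hE : Injective (ModuleCat.of R E)) :
    Injective ((localCohomology I 0).obj (ModuleCat.of R E)) := by
  haveI : Module.Injective R E := Module.injective_module_of_injective_object R E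
  haveI := torsionSub_injective I E
  have h1 : Injective (ModuleCat.of R (DRing.torsionSub I E)) :=
    Module.injective_object_of_injective_module R _
  exact injective_of_linearEquiv (H0equivTorsionSub I E).symm h1

/-- If `M` has injective dimension `≤ n` and `H^i_I(M)` is injective for `i < n`, then `H^n_I(M)`
is injective. -/
theorem injective_H_top (n : ℕ) : ∀ (M : Type u) [AddCommGroup M] [Module R M],
    HasInjectiveDimensionLT (ModuleCat.of R M) (n + 1) →
    (∀ i < n, Injective ((localCohomology I i).obj (ModuleCat.of R M))) →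
    Injective ((localCohomology I n).obj (ModuleCat.of R M)) := by
  induction n with
  | zero =>
    intro M _ _ hM _
    haveI := hM
    exact injective_H0 I M inferInstance
  | succ n ih =>
    intro M _ _ hM hlow
    obtain ⟨E₀, _, _, f, hf, hE⟩ := exists_injective_embedding (R := R) M
    have hS := scInj_shortExact f hf
    haveI hinj : Injective (scInj f).X₂ := Module.injective_object_of_injective_module R E₀
    have hQ : HasInjectiveDimensionLT (ModuleCat.of R (E₀ ⧸ LinearMap.range f)) (n + 1) := by
      haveI : HasInjectiveDimensionLT (scInj f).X₂ (n + 1) :=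
        hasInjectiveDimensionLT_of_ge (scInj f).X₂ 1 (n + 1) (by omega)
      exact hS.hasInjectiveDimensionLT_X₃ (n + 1) inferInstance hM
    -- the degree-zero pieces
    let a0 := ((localCohomology I 0).map (scInj f).f).hom
    let g0 := ((localCohomology I 0).map (scInj f).g).hom
    let d0 := (δ I (scInj f) hS 0).hom
    have ha0 : Function.Injective a0 := H0_map_injective I (scInj f).f hf
    let K : Submodule R ((localCohomology I 0).obj (scInj f).X₃) := LinearMap.ker d0
    let g0' : (localCohomology I 0).obj (scInj f).X₂ →ₗ[R] K :=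
      LinearMap.codRestrict K g0 (fun e => by
        rw [LinearMap.mem_ker]
        exact δ_map_g I (scInj f) hS 0 e)
    have hg0' : Function.Surjective g0' := by
      intro q
      obtain ⟨e, he⟩ := (exact₃ I (scInj f) hS 0 q.1).mp (LinearMap.mem_ker.mp q.2)
      exact ⟨e, Subtype.ext he⟩
    have hex1 : Function.Exact a0 g0' := by
      intro e
      constructor
      · intro he
        have h1 : g0 e = 0 := congrArg Subtype.val he
        exact (exact₂ I (scInj f) hS 0 e).mp h1
      · rintro ⟨z, rfl⟩
        apply Subtype.ext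
        exact (exact₂ I (scInj f) hS 0 _).mpr ⟨z, rfl⟩
    have hS1 := scLin_shortExact a0 g0' hex1 ha0 hg0'
    have hKinj : Injective (ModuleCat.of R K) :=
      injective_X₃ _ hS1 (hlow 0 (Nat.succ_pos n)) (injective_H0 I E₀ hinj)
    have hd0 : Function.Surjective d0 := δ_surjective_of_injective I (scInj f) hS 0
    have hS2 := scLin_shortExact K.subtype d0 (LinearMap.exact_subtype_ker_map d0)
      K.injective_subtype hd0
    rcases n with _ | n'
    · -- `Q` is injective
      haveI := hQ
      have hQ0 : Injective ((localCohomology I 0).obj (ModuleCat.of R (E₀ ⧸ LinearMap.range f))) :=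
        injective_H0 I _ inferInstance
      exact injective_X₃ _ hS2 hKinj hQ0
    · have hlowQ : ∀ i < n' + 1, Injective ((localCohomology I i).obj
          (ModuleCat.of R (E₀ ⧸ LinearMap.range f))) := by
        intro i hi
        rcases i with _ | i'
        · exact injective_X₂ _ hS2 hKinj (hlow 1 (by omega))
        · have hbij : Function.Bijective (δ I (scInj f) hS (i' + 1)).hom :=
            ⟨δ_injective_of_injective I _ hS i', δ_surjective_of_injective I _ hS (i' + 1)⟩
          exact injective_of_linearEquiv (LinearEquiv.ofBijective _ hbij).symm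
            (hlow (i' + 1 + 1) (by omega))
      have h1 := ih (E₀ ⧸ LinearMap.range f) hQ hlowQ
      have hbij : Function.Bijective (δ I (scInj f) hS (n' + 1)).hom :=
        ⟨δ_injective_of_injective I _ hS n', δ_surjective_of_injective I _ hS (n' + 1)⟩
      exact injective_of_linearEquiv (LinearEquiv.ofBijective _ hbij) h1

end TopInj

section Socle

open IsLocalRing Groth.Agent.H29

/-- The socle of `H^t_m(A)` is generated by one nonzero element. -/
def SocleGen (A : Type u) [CommRing A] [IsLocalRing A] (t : ℕ) : Prop :=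
  ∃ h0 : (localCohomology (maximalIdeal A) t).obj (ModuleCat.of A A), h0 ≠ 0 ∧
    (∀ r ∈ maximalIdeal A, r • h0 = 0) ∧
    ∀ h : (localCohomology (maximalIdeal A) t).obj (ModuleCat.of A A),
      (∀ r ∈ maximalIdeal A, r • h = 0) → ∃ c : A, h = c • h0

/-- In a self-injective local ring, the socle is cyclic. -/
lemma exists_smul_eq_of_injective_self (A : Type u) [CommRing A] [IsLocalRing A]
    (hA : Module.Injective A A) (a b : A) (ha : a ≠ 0) (hma : ∀ r ∈ maximalIdeal A, r * a = 0)
    (hmb : ∀ r ∈ maximalIdeal A, r * b = 0) : ∃ c : A, b = c * a := by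
  let m : Submodule A A := maximalIdeal A
  have hka : m ≤ LinearMap.ker (LinearMap.toSpanSingleton A A a) := by
    intro r hr
    rw [LinearMap.mem_ker, LinearMap.toSpanSingleton_apply, smul_eq_mul]
    exact hma r hr
  have hkb : m ≤ LinearMap.ker (LinearMap.toSpanSingleton A A b) := by
    intro r hr
    rw [LinearMap.mem_ker, LinearMap.toSpanSingleton_apply, smul_eq_mul]
    exact hmb r hr
  let fX : (A ⧸ m) →ₗ[A] A := m.liftQ (LinearMap.toSpanSingleton A A a) hka
  let gX : (A ⧸ m) →ₗ[A] A := m.liftQ (LinearMap.toSpanSingleton A A b) hkb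
  have hfX : Function.Injective fX := by
    rw [← LinearMap.ker_eq_bot]
    apply Submodule.ker_liftQ_eq_bot' m _
    apply le_antisymm hka
    intro r hr
    rw [LinearMap.mem_ker, LinearMap.toSpanSingleton_apply, smul_eq_mul] at hr
    by_contra hrm
    have hu : IsUnit r := by
      by_contra hnu
      exact hrm ((mem_maximalIdeal r).mpr hnu)
    obtain ⟨u, rfl⟩ := hu
    apply ha
    have h1 : (↑u⁻¹ : A) * ((u : A) * a) = a := by rw [← mul_assoc, Units.inv_mul, one_mul]
    rw [← h1, hr, mul_zero]
  obtain ⟨φ, hφ⟩ := hA.out fX hfX gX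
  refine ⟨φ 1, ?_⟩
  have h1 := hφ (Submodule.Quotient.mk 1)
  have h2 : fX (Submodule.Quotient.mk 1) = a := by
    change (LinearMap.toSpanSingleton A A a) 1 = a
    rw [LinearMap.toSpanSingleton_apply, one_smul]
  have h3 : gX (Submodule.Quotient.mk 1) = b := by
    change (LinearMap.toSpanSingleton A A b) 1 = b
    rw [LinearMap.toSpanSingleton_apply, one_smul]
  rw [h2, h3] at h1
  rw [← h1]
  have h4 : φ a = φ (a • (1 : A)) := by rw [smul_eq_mul, mul_one]
  rw [h4, _root_.map_smul, smul_eq_mul, mul_comm]

theorem socleGen_zero (A : Type u) [CommRing A] [IsLocalRing A] [IsNoetherianRing A]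
    (hG : LocCoh.IsGorensteinLocalRing A) (ht : LocCoh.depth A A = (0 : ℕ)) : SocleGen A 0 := by
  have hinjd := hasInjectiveDimensionLT_of_gorenstein A hG 0 ht
  haveI := hinjd
  have hA : Module.Injective A A := Module.injective_module_of_injective_object A A
  have hdim : ringKrullDim A = 0 := ringKrullDim_eq_zero_of_injective_self A hinjd
  haveI : Ring.KrullDimLE 0 A := Ring.krullDimLE_iff.mpr (le_of_eq hdim)
  haveI : IsArtinianRing A := isArtinianRing_iff_isNoetherianRing_krullDimLE_zero.mpr
    ⟨inferInstance, inferInstance⟩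
  have hnil : ∃ k : ℕ, maximalIdeal A ^ k = ⊥ := by
    have h1 := IsArtinianRing.isNilpotent_jacobson_bot (R := A)
    rw [IsLocalRing.jacobson_eq_maximalIdeal ⊥ bot_ne_top] at h1
    obtain ⟨k, hk⟩ := h1
    exact ⟨k, hk⟩
  classical
  let k := Nat.find hnil
  have hk : maximalIdeal A ^ k = ⊥ := Nat.find_spec hnil
  have hk0 : k ≠ 0 := by
    intro h0
    rw [h0, pow_zero, Ideal.one_eq_top] at hk
    exact top_ne_bot hk
  obtain ⟨k', hk'⟩ : ∃ k', k = k' + 1 := ⟨k - 1, by omega⟩
  have hmin : maximalIdeal A ^ k' ≠ ⊥ := Nat.find_min hnil (by omega : k' < k)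
  obtain ⟨a, hak, ha⟩ := Submodule.exists_mem_ne_zero_of_ne_bot hmin
  have hma : ∀ r ∈ maximalIdeal A, r * a = 0 := by
    intro r hr
    have h1 : r * a ∈ maximalIdeal A ^ k := by
      rw [hk', pow_succ']
      exact Ideal.mul_mem_mul hr hak
    rw [hk] at h1
    exact h1
  have htors : ∀ y : A, y ∈ DRing.torsionSub (maximalIdeal A) A := by
    intro y
    refine ⟨k, fun c hc => ?_⟩
    rw [hk] at hc
    rw [(Submodule.mem_bot A).mp hc, zero_smul]
  have hrange := range_ε (maximalIdeal A) (ModuleCat.of A A)
  have hsurj : ∀ y : A, ∃ h, (ε (maximalIdeal A) (ModuleCat.of A A)).hom h = y := by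
    intro y
    have h1 : y ∈ LinearMap.range (ε (maximalIdeal A) (ModuleCat.of A A)).hom :=
      hrange ▸ htors y
    exact h1
  have hεinj := ε_injective (maximalIdeal A) (ModuleCat.of A A)
  obtain ⟨h0, hh0⟩ := hsurj a
  refine ⟨h0, ?_, ?_, ?_⟩
  · intro h
    apply ha
    rw [← hh0, h, map_zero]
  · intro r hr
    apply hεinj
    rw [_root_.map_smul, map_zero, hh0]
    exact hma r hr
  · intro h hh
    have hmb : ∀ r ∈ maximalIdeal A,
        r * (ε (maximalIdeal A) (ModuleCat.of A A)).hom h = 0 := by
      intro r hr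
      have h1 := congrArg (ε (maximalIdeal A) (ModuleCat.of A A)).hom (hh r hr)
      rw [_root_.map_smul, map_zero] at h1
      exact h1
    obtain ⟨c, hc⟩ := exists_smul_eq_of_injective_self A hA a _ ha hma hmb
    refine ⟨c, hεinj ?_⟩
    rw [_root_.map_smul, hh0]
    exact hc

lemma exact_smul_mkQ_span (A : Type u) [CommRing A] (x : A) :
    Function.Exact (x • (LinearMap.id : A →ₗ[A] A)) (Submodule.mkQ (Ideal.span {x})) := by
  intro y
  rw [Submodule.mkQ_apply, Submodule.Quotient.mk_eq_zero]
  constructor
  · intro hy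
    obtain ⟨c, rfl⟩ := Ideal.mem_span_singleton'.mp hy
    exact ⟨c, by simp [mul_comm]⟩
  · rintro ⟨c, rfl⟩
    exact Ideal.mem_span_singleton'.mpr ⟨c, by simp [mul_comm]⟩

theorem socleGen_of_gorenstein (t : ℕ) :
    ∀ (A : Type u) [CommRing A] [IsLocalRing A] [IsNoetherianRing A],
      LocCoh.IsGorensteinLocalRing A → LocCoh.depth A A = t → SocleGen A t := by
  induction t with
  | zero => exact fun A _ _ _ hG ht => socleGen_zero A hG ht
  | succ t ih =>
    intro A _ _ _ hG ht
    have hIM : maximalIdeal A • (⊤ : Submodule A A) ≠ ⊤ := maximalIdeal_smul_top_ne_top A A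
    obtain ⟨x, hx, hreg⟩ := exists_isSMulRegular_mem_of_one_le_idealDepth A (maximalIdeal A) hIM
      (by
        show (1 : ℕ∞) ≤ LocCoh.depth A A
        rw [ht]
        exact_mod_cast Nat.succ_le_succ (Nat.zero_le t))
    have hne : Ideal.span {x} ≠ ⊤ := fun h =>
      (maximalIdeal.isMaximal A).ne_top (top_le_iff.mp (h.ge.trans
        ((Ideal.span_singleton_le_iff_mem _).mpr hx)))
    haveI : Nontrivial (A ⧸ Ideal.span {x}) := Ideal.Quotient.nontrivial_iff.mpr hne
    haveI : IsLocalRing (A ⧸ Ideal.span {x}) :=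
      IsLocalRing.of_surjective' (Ideal.Quotient.mk _) Ideal.Quotient.mk_surjective
    have hGB : LocCoh.IsGorensteinLocalRing (A ⧸ Ideal.span {x}) :=
      (isGorensteinLocalRing_quotient_iff A x hx hreg).mp hG
    haveI : IsLocalHom (algebraMap A (A ⧸ Ideal.span {x})) :=
      IsLocalHom.of_surjective _ Ideal.Quotient.mk_surjective
    have h2 := depth_eq_depth_of_isLocalHom A (A ⧸ Ideal.span {x}) (A ⧸ Ideal.span {x})
    have h3 := depth_quotSMulTop_add_one A A x hx hreg
    have h4 : LocCoh.depth A (QuotSMulTop x A) = LocCoh.depth A (A ⧸ Ideal.span {x}) :=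
      idealDepth_congr _ (quotSMulTopEquivQuotientSpan A x)
    have hdB : LocCoh.depth (A ⧸ Ideal.span {x}) (A ⧸ Ideal.span {x}) = t := by
      apply enat_add_natCast_cancel 1
      rw [← h2, ← h4, Nat.cast_one, h3, ht]
      push_cast
      rfl
    -- the maximal ideal of the quotient
    have hmap : (maximalIdeal A).map (algebraMap A (A ⧸ Ideal.span {x})) =
        maximalIdeal (A ⧸ Ideal.span {x}) := by
      have hsurj : Function.Surjective (algebraMap A (A ⧸ Ideal.span {x})) :=
        Ideal.Quotient.mk_surjective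
      rcases Ideal.map_eq_top_or_isMaximal_of_surjective _ hsurj (maximalIdeal.isMaximal A)
        with h | h
      · exfalso
        have h5 : (maximalIdeal A).map (algebraMap A (A ⧸ Ideal.span {x})) ≤
            maximalIdeal (A ⧸ Ideal.span {x}) := by
          rw [Ideal.map_le_iff_le_comap]
          intro r hr
          rw [Ideal.mem_comap, mem_maximalIdeal, mem_nonunits_iff]
          intro hu
          exact (mem_maximalIdeal r).mp hr
            ((isUnit_map_iff (algebraMap A (A ⧸ Ideal.span {x})) r).mp hu)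
        rw [h] at h5
        exact (maximalIdeal.isMaximal (A ⧸ Ideal.span {x})).ne_top (top_le_iff.mp h5)
      · exact IsLocalRing.eq_maximalIdeal h
    obtain ⟨hb0, hbne, hbkill, hbgen⟩ := ih (A ⧸ Ideal.span {x}) hGB hdB
    have hφ' : ∃ φ : ((localCohomology (maximalIdeal (A ⧸ Ideal.span {x})) t).obj
          (ModuleCat.of (A ⧸ Ideal.span {x}) (A ⧸ Ideal.span {x}))) ≃+
        ((localCohomology (maximalIdeal A) t).obj (ModuleCat.of A (A ⧸ Ideal.span {x}))),
        ∀ (r : A) (y : (localCohomology (maximalIdeal (A ⧸ Ideal.span {x})) t).obj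
          (ModuleCat.of (A ⧸ Ideal.span {x}) (A ⧸ Ideal.span {x}))),
          φ (algebraMap A (A ⧸ Ideal.span {x}) r • y) = r • φ y := by
      rw [← hmap]
      exact exists_equiv (R := A) (R' := A ⧸ Ideal.span {x}) (maximalIdeal A) t
        (A ⧸ Ideal.span {x})
    obtain ⟨φ, hφ⟩ := hφ'
    -- the long exact sequence of `0 → A → A → A/x → 0`
    have hinjx : Function.Injective (x • (LinearMap.id : A →ₗ[A] A)) := fun a b hab => hreg hab
    have hS := scLin_shortExact _ _ (exact_smul_mkQ_span A x) hinjx (Submodule.mkQ_surjective _)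
    let dl := (δ (maximalIdeal A) _ hS t).hom
    have hvan : Subsingleton ((localCohomology (maximalIdeal A) t).obj (ModuleCat.of A A)) := by
      have h5 : ((t + 1 : ℕ) : ℕ∞) ≤ LocCoh.idealDepth (maximalIdeal A) A := le_of_eq ht.symm
      exact (le_idealDepth_iff_subsingleton (maximalIdeal A) A hIM (t + 1)).mp h5 t
        (Nat.lt_succ_self t)
    have hdlinj : Function.Injective dl := by
      rw [injective_iff_map_eq_zero]
      intro y hy
      obtain ⟨z, rfl⟩ := (exact₃ (maximalIdeal A) _ hS t y).mp hy
      have hz : z = 0 := hvan.elim z 0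
      rw [hz, map_zero]
    have hmem : ∀ rb ∈ maximalIdeal (A ⧸ Ideal.span {x}), ∃ r ∈ maximalIdeal A,
        algebraMap A (A ⧸ Ideal.span {x}) r = rb := by
      intro rb hrb
      obtain ⟨r, rfl⟩ := Ideal.Quotient.mk_surjective rb
      refine ⟨r, ?_, rfl⟩
      rw [mem_maximalIdeal, mem_nonunits_iff] at hrb ⊢
      intro hu
      exact hrb (hu.map _)
    refine ⟨dl (φ hb0), ?_, ?_, ?_⟩
    · intro h
      have h5 : φ hb0 = 0 := hdlinj (h.trans (map_zero dl).symm)
      exact hbne (φ.injective (h5.trans (map_zero φ).symm))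
    · intro r hr
      have h5 : r • φ hb0 = 0 := by
        rw [← hφ, hbkill _ (by rw [← hmap]; exact Ideal.mem_map_of_mem _ hr), map_zero]
      exact (dl.map_smul r _).symm.trans ((congrArg dl h5).trans (map_zero dl))
    · intro h hh
      have h5 : ((localCohomology (maximalIdeal A) (t + 1)).map (scLin _ _
          (exact_smul_mkQ_span A x)).f).hom h = 0 :=
        (map_smul_id_apply (maximalIdeal A) (t + 1) _ x h).trans (hh x hx)
      obtain ⟨y, hy⟩ := (exact₁ (maximalIdeal A) _ hS t h).mp h5
      obtain ⟨yb, rfl⟩ := φ.surjective y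
      have hyb : ∀ rb ∈ maximalIdeal (A ⧸ Ideal.span {x}), rb • yb = 0 := by
        intro rb hrb
        obtain ⟨r, hr, rfl⟩ := hmem rb hrb
        apply φ.injective
        rw [hφ, map_zero]
        apply hdlinj
        refine (dl.map_smul r _).trans ?_
        exact ((congrArg (r • ·) hy).trans (hh r hr)).trans (map_zero dl).symm
      obtain ⟨cb, hcb⟩ := hbgen yb hyb
      obtain ⟨c, rfl⟩ := Ideal.Quotient.mk_surjective cb
      refine ⟨c, ?_⟩
      refine hy.symm.trans ?_
      have h6 : φ yb = c • φ hb0 := by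
        rw [hcb]
        exact hφ c hb0
      exact (congrArg dl h6).trans (dl.map_smul c _)

/-- The top local cohomology of a Gorenstein local ring is an injective hull of the residue
field. -/
theorem exists_isInjectiveHull_H_top (R : Type u) [CommRing R]
    [hG : LocCoh.IsGorensteinLocalRing R] (n : ℕ) (hn : ringKrullDim R = n) :
    ∃ g : IsLocalRing.ResidueField R →ₗ[R]
        (localCohomology (maximalIdeal R) n).obj (ModuleCat.of R R),
      InjHull.IsInjectiveHull g := by
  have hdepth : LocCoh.depth R R = n := by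
    have h1 := ringKrullDim_eq_depth_of_gorenstein R hG
    have h2 : ((n : ℕ∞) : WithBot ℕ∞) = ((LocCoh.depth R R : ℕ∞) : WithBot ℕ∞) :=
      hn.symm.trans h1
    exact (WithBot.coe_injective h2).symm
  have hIM : maximalIdeal R • (⊤ : Submodule R R) ≠ ⊤ := maximalIdeal_smul_top_ne_top R R
  have hlow : ∀ i < n, Injective ((localCohomology (maximalIdeal R) i).obj
      (ModuleCat.of R R)) := by
    intro i hi
    have h5 : ((n : ℕ) : ℕ∞) ≤ LocCoh.idealDepth (maximalIdeal R) R := le_of_eq hdepth.symm
    haveI := (le_idealDepth_iff_subsingleton (maximalIdeal R) R hIM n).mp h5 i hi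
    exact (ModuleCat.isZero_of_subsingleton _).injective
  have hinjObj := injective_H_top (maximalIdeal R) n R
    (hasInjectiveDimensionLT_of_gorenstein R hG n hdepth) hlow
  have hinj : Module.Injective R ((localCohomology (maximalIdeal R) n).obj (ModuleCat.of R R)) :=
    Module.injective_module_of_injective_object R _
  obtain ⟨h0, hne, hkill, hgen⟩ := socleGen_of_gorenstein n R hG hdepth
  let m : Submodule R R := maximalIdeal R
  have hker : m ≤ LinearMap.ker (LinearMap.toSpanSingleton R
      ((localCohomology (maximalIdeal R) n).obj (ModuleCat.of R R)) h0) := by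
    intro r hr
    rw [LinearMap.mem_ker, LinearMap.toSpanSingleton_apply]
    exact hkill r hr
  let g : (R ⧸ m) →ₗ[R] (localCohomology (maximalIdeal R) n).obj (ModuleCat.of R R) :=
    m.liftQ _ hker
  have hg1 : ∀ c : R, g (Submodule.Quotient.mk c) = c • h0 := fun c => rfl
  have hginj : Function.Injective g := by
    rw [← LinearMap.ker_eq_bot]
    apply Submodule.ker_liftQ_eq_bot' m _
    apply le_antisymm hker
    intro r hr
    rw [LinearMap.mem_ker, LinearMap.toSpanSingleton_apply] at hr
    by_contra hrm
    have hu : IsUnit r := by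
      by_contra hnu
      exact hrm ((mem_maximalIdeal r).mpr hnu)
    obtain ⟨u, rfl⟩ := hu
    apply hne
    have h1 : (↑u⁻¹ : R) • ((u : R) • h0) = h0 := by rw [smul_smul, Units.inv_mul, one_smul]
    rw [← h1, hr, smul_zero]
  refine ⟨g, ⟨⟨hginj, ?_⟩, hinj⟩⟩
  intro N hN
  classical
  obtain ⟨y, hyN, hy0⟩ := Submodule.exists_mem_ne_zero_of_ne_bot hN
  have htors := isPowerTorsion (maximalIdeal R) n (ModuleCat.of R R) y
  let k := Nat.find htors
  have hk : ∀ a ∈ maximalIdeal R ^ k, a • y = 0 := Nat.find_spec htors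
  have hk0 : k ≠ 0 := by
    intro h0'
    apply hy0
    have h1 := hk 1 (by rw [h0', pow_zero, Ideal.one_eq_top]; exact Submodule.mem_top)
    rwa [one_smul] at h1
  obtain ⟨k', hk'⟩ : ∃ k', k = k' + 1 := ⟨k - 1, by omega⟩
  have hmin : ¬ ∀ a ∈ maximalIdeal R ^ k', a • y = 0 := Nat.find_min htors (by omega : k' < k)
  push Not at hmin
  obtain ⟨a, hak, hay⟩ := hmin
  have hz : ∀ r ∈ maximalIdeal R, r • (a • y) = 0 := by
    intro r hr
    rw [smul_smul]
    exact hk _ (by rw [hk', pow_succ']; exact Ideal.mul_mem_mul hr hak)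
  obtain ⟨c, hc⟩ := hgen (a • y) hz
  intro hbot
  apply hay
  have h1 : a • y ∈ N ⊓ LinearMap.range g :=
    ⟨N.smul_mem a hyN, ⟨Submodule.Quotient.mk c, (hg1 c).trans hc.symm⟩⟩
  have h2 : a • y ∈ (⊥ : Submodule R
      ((localCohomology (maximalIdeal R) n).obj (ModuleCat.of R R))) := hbot.le h1
  exact (Submodule.mem_bot R).mp h2

end Socle

end Groth.Agent.H13.LC
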