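import Groth.Agent.H13.LCArt
import Groth.Agent.H13.LCSum
import Groth.Agent.H13.LCDepth

/-!
# Cohomological dimension and elements of the Jacobson radical
-/

set_option autoImplicit false
set_option linter.style.haveILetI false
set_option linter.unusedSectionVars false

open CategoryTheory Limits Opposite Pointwise

namespace Groth.Agent.H13.LC

universe u

variable {R : Type u} [CommRing R] [IsNoetherianRing R]

/-- Converse of Fact A: on `K`-power-torsion modules, vanishing of `H^i_{I ⊔ K}` implies vanishing
of `H^i_I`. -/
theorem subsingleton_of_sup_of_isPowerTorsion (I K : Ideal R) (i : ℕ) :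
    ∀ (N : Type u) [AddCommGroup N] [Module R N], LocCoh.IsPowerTorsion K N →
      Subsingleton ((localCohomology (I ⊔ K) i).obj (ModuleCat.of R N)) →
      Subsingleton ((localCohomology I i).obj (ModuleCat.of R N)) := by
  rcases i with _ | i
  · intro N _ _ hN h
    apply subsingleton_H0
    have h0 := torsionSub_eq_bot_of_subsingleton_H0 (I ⊔ K) N h
    rw [eq_bot_iff]
    intro m hm
    have : m ∈ DRing.torsionSub (I ⊔ K) N := mem_torsionSub_sup hm (hN m)
    rwa [h0] at this
  induction i with
  | zero =>
    intro N _ _ hN h
    obtain ⟨A, _, _, f, hf, hA, hAt⟩ := exists_embedding K N hN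
    have hS := scInj_shortExact f hf
    have hinj : Injective (ModuleCat.of R A) := Module.injective_object_of_injective_module R A
    have hC : LocCoh.IsPowerTorsion K (A ⧸ LinearMap.range f) := isPowerTorsion_quotient K hAt _
    have hJsurj : Function.Surjective ((localCohomology (I ⊔ K) 0).map (scInj f).g).hom := by
      intro y
      have : (δ (I ⊔ K) (scInj f) hS 0).hom y = 0 :=
        @Subsingleton.elim _ h _ _
      exact (exact₃ (I ⊔ K) (scInj f) hS 0 y).mp this
    have hIsurj : Function.Surjective ((localCohomology I 0).map (scInj f).g).hom := by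
      apply H0_map_surjective
      intro q hq
      have hq' : q ∈ DRing.torsionSub (I ⊔ K) (scInj f).X₃ := mem_torsionSub_sup hq (hC q)
      rw [← range_ε] at hq'
      obtain ⟨y', rfl⟩ := hq'
      obtain ⟨z', rfl⟩ := hJsurj y'
      refine ⟨(ε (I ⊔ K) (scInj f).X₂).hom z', ?_,
        (ε_naturality_apply (I ⊔ K) (scInj f).g z').symm⟩
      apply torsionSub_anti (le_sup_left : I ≤ I ⊔ K)
      rw [← range_ε]; exact ⟨z', rfl⟩
    have key : ∀ x : (localCohomology I 1).obj (ModuleCat.of R N), x = 0 := by
      intro x
      have h1 : ((localCohomology I 1).map (scInj f).f).hom x = 0 :=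
        (subsingleton_of_injective I 0 (ModuleCat.of R A)).elim _ _
      obtain ⟨y, rfl⟩ := (exact₁ I (scInj f) hS 0 x).mp h1
      obtain ⟨z, rfl⟩ := hIsurj y
      exact (exact₃ I (scInj f) hS 0).apply_apply_eq_zero z
    exact ⟨fun x y => by rw [key x, key y]⟩
  | succ p ih =>
    intro N _ _ hN h
    obtain ⟨A, _, _, f, hf, hA, hAt⟩ := exists_embedding K N hN
    have hS := scInj_shortExact f hf
    have hinj : Injective (ModuleCat.of R A) := Module.injective_object_of_injective_module R A
    have hC : LocCoh.IsPowerTorsion K (A ⧸ LinearMap.range f) := isPowerTorsion_quotient K hAt _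
    have hδinj : Function.Injective (δ (I ⊔ K) (scInj f) hS (p + 1)).hom := by
      rw [injective_iff_map_eq_zero]
      intro y hy
      obtain ⟨z, rfl⟩ := (exact₃ (I ⊔ K) (scInj f) hS (p + 1) y).mp hy
      have : Subsingleton ((localCohomology (I ⊔ K) (p + 1)).obj (scInj f).X₂) :=
        subsingleton_of_injective (I ⊔ K) p (ModuleCat.of R A)
      rw [Subsingleton.elim z 0]
      exact map_zero _
    have hQJ : Subsingleton ((localCohomology (I ⊔ K) (p + 1)).obj
        (ModuleCat.of R (A ⧸ LinearMap.range f))) :=
      ⟨fun x y => hδinj (@Subsingleton.elim _ h _ _)⟩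
    have hQI : Subsingleton ((localCohomology I (p + 1)).obj (scInj f).X₃) :=
      ih _ hC hQJ
    have key : ∀ x : (localCohomology I (p + 1 + 1)).obj (ModuleCat.of R N), x = 0 := by
      intro x
      have h1 : ((localCohomology I (p + 1 + 1)).map (scInj f).f).hom x = 0 :=
        (subsingleton_of_injective I (p + 1) (ModuleCat.of R A)).elim _ _
      obtain ⟨y, rfl⟩ := (exact₁ I (scInj f) hS (p + 1) x).mp h1
      rw [Subsingleton.elim y 0]
      exact map_zero _
    exact ⟨fun x y => by rw [key x, key y]⟩

/-- A finite module of dimension `≤ 0` over a Noetherian ring is Artinian. -/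
theorem isArtinian_of_supportDim_le_zero' (M : Type u) [AddCommGroup M] [Module R M]
    [Module.Finite R M] (h : Module.supportDim R M ≤ 0) : IsArtinian R M := by
  letI : Module (R ⧸ Module.annihilator R M) M := Module.quotientAnnihilator
  haveI : IsScalarTower R (R ⧸ Module.annihilator R M) M :=
    (Module.isTorsionBySet_annihilator R M).isScalarTower
  haveI : Module.Finite (R ⧸ Module.annihilator R M) M := Module.Finite.of_restrictScalars_finite R _ _
  have hdim : ringKrullDim (R ⧸ Module.annihilator R M) ≤ 0 := by
    rw [← Module.supportDim_eq_ringKrullDim_quotient_annihilator]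
    exact h
  haveI : Ring.KrullDimLE 0 (R ⧸ Module.annihilator R M) := Ring.krullDimLE_iff.mpr hdim
  haveI : IsArtinianRing (R ⧸ Module.annihilator R M) := isArtinianRing_iff_krullDimLE_zero.mpr
    inferInstance
  haveI : IsArtinian (R ⧸ Module.annihilator R M) M := isArtinian_of_fg_of_artinian'
  exact isArtinian_of_surjective_algebraMap (S := R) (R := R ⧸ Module.annihilator R M)
    Ideal.Quotient.mk_surjective

/-- `H^n_a(M)` is Artinian for finite `M` of dimension at most `n` (no local hypothesis). -/
theorem isArtinian_top' (a : Ideal R) (n : ℕ) : ∀ (M : Type u) [AddCommGroup M] [Module R M],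
    Module.Finite R M → Module.supportDim R M ≤ n →
    IsArtinian R ((localCohomology a n).obj (ModuleCat.of R M)) := by
  induction n with
  | zero =>
    intro M _ _ hfin hdim
    haveI := isArtinian_of_supportDim_le_zero' M (by exact_mod_cast hdim)
    exact isArtinian_of_injective (ε a (ModuleCat.of R M)).hom (ε_injective a _)
  | succ n ih =>
    intro M _ _ hfin hdim
    have htors' := torsionSub_quotient_eq_bot a M
    have hbij := map_mkQ_bijective a M (n + 1) (Nat.succ_pos n)
    obtain ⟨x, hxI, hreg⟩ := exists_isSMulRegular_of_torsionSub_eq_bot a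
      (M ⧸ DRing.torsionSub a M) htors'
    have hdim' : Module.supportDim R (M ⧸ DRing.torsionSub a M) ≤ ((n + 1 : ℕ) : WithBot ℕ∞) :=
      (Module.supportDim_le_of_surjective _ (Submodule.mkQ_surjective _)).trans hdim
    have h1 : Module.supportDim R (QuotSMulTop x (M ⧸ DRing.torsionSub a M)) + 1 ≤
        Module.supportDim R (M ⧸ DRing.torsionSub a M) :=
      Module.supportDim_quotSMulTop_succ_le_of_notMem_minimalPrimes
        (fun q hq => hreg.notMem_of_mem_minimalPrimes hq)
    have hA : IsArtinian R ((localCohomology a n).obj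
        (ModuleCat.of R (QuotSMulTop x (M ⧸ DRing.torsionSub a M)))) := by
      rcases wb_aux _ (n + 1) (h1.trans hdim') with h2 | ⟨-, h3⟩
      · haveI := (Module.supportDim_eq_bot_iff_subsingleton R _).mp h2
        haveI := subsingleton_of_subsingleton a n
          (ModuleCat.of R (QuotSMulTop x (M ⧸ DRing.torsionSub a M)))
        exact isArtinian_of_finite
      · exact ih _ inferInstance h3
    haveI := isArtinian_succ_of_regular a n x hxI hreg hA
    exact isArtinian_of_linearEquiv (LinearEquiv.ofBijective _ hbij).symm

omit [IsNoetherianRing R] in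
/-- In an Artinian module every element is killed by a power of any element of the Jacobson
radical. -/
theorem exists_pow_smul_eq_zero_of_isArtinian {H : Type*} [AddCommGroup H] [Module R H]
    [IsArtinian R H] (a : R) (ha : a ∈ (⊥ : Ideal R).jacobson) (x : H) :
    ∃ k : ℕ, a ^ k • x = 0 := by
  let f : ℕ →o (Submodule R H)ᵒᵈ :=
    { toFun := fun k => OrderDual.toDual (Submodule.span R {a ^ k • x})
      monotone' := by
        apply monotone_nat_of_le_succ
        intro k
        change Submodule.span R {a ^ (k + 1) • x} ≤ Submodule.span R {a ^ k • x}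
        rw [Submodule.span_le, Set.singleton_subset_iff, pow_succ', mul_smul]
        exact Submodule.smul_mem _ _ (Submodule.mem_span_singleton_self _) }
  obtain ⟨n, hn⟩ := IsArtinian.monotone_stabilizes f
  have h1 : Submodule.span R {a ^ n • x} = Submodule.span R {a ^ (n + 1) • x} :=
    congrArg OrderDual.ofDual (hn (n + 1) (Nat.le_succ n))
  have h2 : Submodule.span R {a ^ n • x} ≤
      (Ideal.span {a}) • Submodule.span R {a ^ n • x} := by
    conv_lhs => rw [h1]
    rw [Submodule.span_le, Set.singleton_subset_iff, pow_succ', mul_smul]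
    exact Submodule.smul_mem_smul (Ideal.mem_span_singleton_self a)
      (Submodule.mem_span_singleton_self _)
  have h3 := Submodule.eq_bot_of_le_smul_of_le_jacobson_bot (Ideal.span {a})
    (Submodule.span R {a ^ n • x}) (Submodule.fg_span_singleton _) h2
    ((Ideal.span_singleton_le_iff_mem _).mpr ha)
  refine ⟨n, ?_⟩
  have : a ^ n • x ∈ Submodule.span R {a ^ n • x} := Submodule.mem_span_singleton_self _
  rwa [h3, Submodule.mem_bot] at this

omit [IsNoetherianRing R] in
/-- If `a` acts bijectively on `L`, it acts injectively on `H^i_I(L)`. -/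
theorem smul_injective_of_bijective (I : Ideal R) (a : R) (L : Type u) [AddCommGroup L]
    [Module R L] (hL : Function.Bijective (fun m : L => a • m)) (i : ℕ)
    (x : (localCohomology I i).obj (ModuleCat.of R L)) (hx : a • x = 0) : x = 0 := by
  let e : L ≃ₗ[R] L := LinearEquiv.ofBijective (LinearMap.lsmul R L a) hL
  let g : ModuleCat.of R L ⟶ ModuleCat.of R L := a • 𝟙 _
  let h : ModuleCat.of R L ⟶ ModuleCat.of R L := ModuleCat.ofHom e.symm.toLinearMap
  have hgh : g ≫ h = 𝟙 _ := by
    ext m
    change e.symm (a • m) = m
    exact e.symm_apply_apply m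
  have hHg : (localCohomology I i).map g = a • 𝟙 _ := by
    rw [map_smul, (localCohomology I i).map_id]
  have h1 : ((localCohomology I i).map (g ≫ h)).hom x = x := by
    rw [hgh, (localCohomology I i).map_id]; rfl
  rw [(localCohomology I i).map_comp, hHg] at h1
  have h2 : ((a • 𝟙 ((localCohomology I i).obj (ModuleCat.of R L))) ≫
      (localCohomology I i).map h).hom x =
      ((localCohomology I i).map h).hom (a • x) := rfl
  rw [h2, hx, map_zero] at h1
  exact h1.symm

/-- Top local cohomology vanishes on modules on which an element of the Jacobson radical acts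
bijectively. -/
theorem subsingleton_top_of_smul_bijective (I : Ideal R) (d : ℕ) (hd : ringKrullDim R = d)
    (a : R) (ha : a ∈ (⊥ : Ideal R).jacobson) (L : Type u) [AddCommGroup L] [Module R L]
    (hL : Function.Bijective (fun m : L => a • m)) :
    Subsingleton ((localCohomology I d).obj (ModuleCat.of R L)) := by
  have hinj := smul_injective_of_bijective I a L hL d
  have key : ∀ z : (localCohomology I d).obj (ModuleCat.of R L), z = 0 := by
    intro z
    obtain ⟨N, hN, x, rfl⟩ := exists_fg_rep I d L z
    haveI : Module.Finite R N := Module.Finite.iff_fg.mpr hN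
    haveI : IsArtinian R ((localCohomology I d).obj (ModuleCat.of R N)) :=
      isArtinian_top' I d N inferInstance ((Module.supportDim_le_ringKrullDim R N).trans hd.le)
    obtain ⟨k, hk⟩ := exists_pow_smul_eq_zero_of_isArtinian a ha x
    have h1 : a ^ k • ((localCohomology I d).map (ModuleCat.ofHom N.subtype)).hom x = 0 := by
      rw [← _root_.map_smul, hk, map_zero]
    clear hk
    induction k with
    | zero => simpa using h1
    | succ k ih =>
      apply ih
      apply hinj
      rw [smul_smul, ← pow_succ']
      exact h1
  exact ⟨fun x y => by rw [key x, key y]⟩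

/-- Degree zero: vanishing of `Γ_{I + (a)}` on all modules implies vanishing of `Γ_I`, for `a` in
the Jacobson radical. -/
theorem subsingleton_H0_of_sup_span_singleton (I : Ideal R) (a : R)
    (ha : a ∈ (⊥ : Ideal R).jacobson)
    (h : ∀ (M : Type u) [AddCommGroup M] [Module R M],
      Subsingleton ((localCohomology (I ⊔ Ideal.span {a}) 0).obj (ModuleCat.of R M)))
    (M : Type u) [AddCommGroup M] [Module R M] :
    Subsingleton ((localCohomology I 0).obj (ModuleCat.of R M)) := by
  apply subsingleton_H0
  rw [eq_bot_iff]
  rintro m ⟨n, hn⟩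
  rw [Submodule.mem_bot]
  let N : Submodule R M := Submodule.span R {m}
  have hNI : ∀ x ∈ N, ∀ b ∈ I ^ n, b • x = 0 := by
    intro x hx b hb
    obtain ⟨c, rfl⟩ := Submodule.mem_span_singleton.mp hx
    rw [smul_comm, hn b hb, smul_zero]
  let P : Submodule R N := (Ideal.span {a}) • ⊤
  have hQ := torsionSub_eq_bot_of_subsingleton_H0 (I ⊔ Ideal.span {a}) (↥N ⧸ P) (h _)
  have hP : P = ⊤ := by
    rw [eq_top_iff]
    intro x _
    have hx : P.mkQ x ∈ DRing.torsionSub (I ⊔ Ideal.span {a}) (↥N ⧸ P) := by
      apply mem_torsionSub_sup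
      · refine ⟨n, fun b hb => ?_⟩
        rw [← _root_.map_smul]
        have : b • x = 0 := Subtype.ext (hNI x.1 x.2 b hb)
        rw [this, map_zero]
      · refine ⟨1, fun b hb => ?_⟩
        rw [pow_one] at hb
        rw [← _root_.map_smul, Submodule.mkQ_apply, Submodule.Quotient.mk_eq_zero]
        exact Submodule.smul_mem_smul hb trivial
    rw [hQ, Submodule.mem_bot, Submodule.mkQ_apply, Submodule.Quotient.mk_eq_zero] at hx
    exact hx
  have hNfg : (⊤ : Submodule R N).FG := by
    haveI : Module.Finite R N := Module.Finite.iff_fg.mpr (Submodule.fg_span_singleton m)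
    exact Module.Finite.fg_top
  have h3 := Submodule.eq_bot_of_le_smul_of_le_jacobson_bot (Ideal.span {a})
    (⊤ : Submodule R N) hNfg (le_of_eq hP.symm) ((Ideal.span_singleton_le_iff_mem _).mpr ha)
  have hm : (⟨m, Submodule.mem_span_singleton_self m⟩ : N) ∈ (⊤ : Submodule R N) := trivial
  rw [h3, Submodule.mem_bot] at hm
  exact congrArg Subtype.val hm

/-- The key step: `cd(I + (a)) < d` implies `cd(I) < d` in degree `d = dim R`, for `a` in the
Jacobson radical. -/
theorem subsingleton_top_of_sup_span_singleton (I : Ideal R) (d : ℕ) (hd : ringKrullDim R = d)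
    (a : R) (ha : a ∈ (⊥ : Ideal R).jacobson)
    (h : ∀ (M : Type u) [AddCommGroup M] [Module R M],
      Subsingleton ((localCohomology (I ⊔ Ideal.span {a}) d).obj (ModuleCat.of R M)))
    (M : Type u) [AddCommGroup M] [Module R M] :
    Subsingleton ((localCohomology I d).obj (ModuleCat.of R M)) := by
  rcases d with _ | e
  · exact subsingleton_H0_of_sup_span_singleton I a ha h M
  let K : Ideal R := Ideal.span {a}
  let J : Ideal R := I ⊔ K
  let L := LocalizedModule (Submonoid.powers a) M
  let η : M →ₗ[R] L := LocalizedModule.mkLinearMap (Submonoid.powers a) M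
  let T := DRing.torsionSub K M
  have hker : LinearMap.ker η = T := ker_mkLinearMap_powers a M
  let η' : (M ⧸ T) →ₗ[R] L := T.liftQ η (le_of_eq hker.symm)
  have hη' : Function.Injective η' := by
    rw [← LinearMap.ker_eq_bot]
    exact Submodule.ker_liftQ_eq_bot' T η hker.symm
  have hrange : LinearMap.range η' = LinearMap.range η := Submodule.range_liftQ T η _
  have hQ : LocCoh.IsPowerTorsion K (L ⧸ LinearMap.range η') :=
    isPowerTorsion_coker_localization a M _ (le_of_eq hrange.symm)
  have hLbij := smul_bijective_localizedModule a M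
  -- (i)
  have hT : Subsingleton ((localCohomology I (e + 1)).obj (ModuleCat.of R T)) :=
    subsingleton_of_sup_of_isPowerTorsion I K (e + 1) T (isPowerTorsion_torsionSub K M) (h T)
  -- (ii)
  have hL : Subsingleton ((localCohomology I (e + 1)).obj (ModuleCat.of R L)) :=
    subsingleton_top_of_smul_bijective I (e + 1) hd a ha L hLbij
  -- (iii)
  have hCJ : Subsingleton ((localCohomology J e).obj
      (ModuleCat.of R (L ⧸ LinearMap.range η'))) :=
    subsingleton_right J e η' _ (LinearMap.exact_map_mkQ_range η') hη'
      (Submodule.mkQ_surjective _)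
      (subsingleton_of_smul_bijective J a
        (Ideal.mem_sup_right (Ideal.mem_span_singleton_self a)) L hLbij e)
      (h (M ⧸ T))
  -- (iv)
  have hCI : Subsingleton ((localCohomology I e).obj
      (ModuleCat.of R (L ⧸ LinearMap.range η'))) :=
    subsingleton_of_sup_of_isPowerTorsion I K e _ hQ hCJ
  -- (v)
  have hMbar : Subsingleton ((localCohomology I (e + 1)).obj (ModuleCat.of R (M ⧸ T))) :=
    subsingleton_of_injective' I e η' _ (LinearMap.exact_map_mkQ_range η') hη'
      (Submodule.mkQ_surjective _) hL hCI
  -- (vi)
  exact subsingleton_mid I (e + 1) T.subtype T.mkQ (LinearMap.exact_subtype_mkQ T)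
    T.injective_subtype (Submodule.mkQ_surjective _) hT hMbar

/-- If `I ≤ I'` are contained in the Jacobson radical of a Noetherian ring of dimension `d` and
`cd(I') < d` then `cd(I) < d`. -/
theorem cd_lt_of_le_jacobson (d : ℕ) (hd : ringKrullDim R = d) (I I' : Ideal R) (hII' : I ≤ I')
    (hJ : I' ≤ (⊥ : Ideal R).jacobson)
    (h : ∀ (M : Type u) [AddCommGroup M] [Module R M] (i : ℕ), d ≤ i →
      Subsingleton ((localCohomology I' i).obj (ModuleCat.of R M)))
    (M : Type u) [AddCommGroup M] [Module R M] (i : ℕ) (hi : d ≤ i) :
    Subsingleton ((localCohomology I i).obj (ModuleCat.of R M)) := by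
  classical
  rcases hi.lt_or_eq with hlt | rfl
  · exact subsingleton_of_supportDim_lt I M i
      (lt_of_le_of_lt ((Module.supportDim_le_ringKrullDim R M).trans hd.le)
        (by exact_mod_cast hlt))
  obtain ⟨s, hs⟩ : ∃ s : Finset R, Ideal.span (s : Set R) = I' := IsNoetherian.noetherian I'
  have key : ∀ (s : Finset R), (∀ x ∈ s, x ∈ (⊥ : Ideal R).jacobson) →
      (∀ (M : Type u) [AddCommGroup M] [Module R M],
        Subsingleton ((localCohomology (I ⊔ Ideal.span (s : Set R)) d).obj (ModuleCat.of R M))) →
      ∀ (M : Type u) [AddCommGroup M] [Module R M],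
        Subsingleton ((localCohomology I d).obj (ModuleCat.of R M)) := by
    intro s
    induction s using Finset.induction_on with
    | empty =>
      intro _ h0 M _ _
      have := h0 M
      rwa [Finset.coe_empty, Ideal.span_empty, sup_bot_eq] at this
    | insert a s has ih =>
      intro hmem h0
      apply ih (fun x hx => hmem x (Finset.mem_insert_of_mem hx))
      apply subsingleton_top_of_sup_span_singleton (I ⊔ Ideal.span (s : Set R)) d hd a
        (hmem a (Finset.mem_insert_self a s))
      intro M _ _
      have h1 := h0 M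
      have hEq : I ⊔ Ideal.span ((insert a s : Finset R) : Set R) =
          (I ⊔ Ideal.span (s : Set R)) ⊔ Ideal.span {a} := by
        rw [Finset.coe_insert, Ideal.span_insert, sup_assoc, sup_comm (Ideal.span {a})]
      rwa [hEq] at h1
  apply key s (fun x hx => hJ (hs ▸ Ideal.subset_span hx)) _ M
  intro M' _ _
  have h2 : I ⊔ Ideal.span (s : Set R) = I' := by
    rw [hs]
    exact sup_eq_right.mpr hII'
  rw [h2]
  exact h M' d le_rfl

end Groth.Agent.H13.LC
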