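import Groth.Agent.H13.LCFlatBC
import Groth.Agent.H13.LCRad

/-!
# Local cohomology depends only on the radical of the ideal (isomorphism form)
-/

set_option autoImplicit false
set_option linter.style.haveILetI false

open CategoryTheory Limits Opposite

namespace Groth.Agent.H13.LC

universe u

variable {R : Type u} [CommRing R] (J J' : Ideal R)

/-- Degree zero. -/
theorem exists_H0_equiv_of_torsionSub_eq (M : Type u) [AddCommGroup M] [Module R M]
    (hT : DRing.torsionSub J M = DRing.torsionSub J' M) :
    ∃ φ : ((localCohomology J 0).obj (ModuleCat.of R M)) ≃ₗ[R]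
        ((localCohomology J' 0).obj (ModuleCat.of R M)),
      ∀ x, (ε J' (ModuleCat.of R M)).hom (φ x) = (ε J (ModuleCat.of R M)).hom x := by
  let e₁ := LinearEquiv.ofInjective (ε J (ModuleCat.of R M)).hom (ε_injective _ _)
  let e₂ := LinearEquiv.ofInjective (ε J' (ModuleCat.of R M)).hom (ε_injective _ _)
  have hrange : LinearMap.range (ε J (ModuleCat.of R M)).hom =
      LinearMap.range (ε J' (ModuleCat.of R M)).hom := by
    rw [range_ε, range_ε]
    exact hT
  refine ⟨e₁ ≪≫ₗ LinearEquiv.ofEq _ _ hrange ≪≫ₗ e₂.symm, fun x => ?_⟩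
  have h2 : ∀ w, ((e₂ w : LinearMap.range (ε J' (ModuleCat.of R M)).hom) : M) =
      (ε J' (ModuleCat.of R M)).hom w := fun w => rfl
  change (ε J' (ModuleCat.of R M)).hom (e₂.symm (LinearEquiv.ofEq _ _ hrange (e₁ x))) = _
  rw [← h2, LinearEquiv.apply_symm_apply]
  rfl

/-- Dimension shifting step. -/
theorem radical_step (i : ℕ) {M E₀ Q : Type u} [AddCommGroup M] [Module R M]
    [AddCommGroup E₀] [Module R E₀] [AddCommGroup Q] [Module R Q] (f : M →ₗ[R] E₀)
    (g : E₀ →ₗ[R] Q) (hex : Function.Exact f g) (hf : Function.Injective f)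
    (hg : Function.Surjective g) [Module.Injective R E₀]
    (φQ : ((localCohomology J i).obj (ModuleCat.of R Q)) ≃ₗ[R]
        ((localCohomology J' i).obj (ModuleCat.of R Q)))
    (hcompat : ∀ z, z ∈ Set.range ((localCohomology J i).map (ModuleCat.ofHom g)).hom ↔
      φQ z ∈ Set.range ((localCohomology J' i).map (ModuleCat.ofHom g)).hom) :
    Nonempty (((localCohomology J (i + 1)).obj (ModuleCat.of R M)) ≃ₗ[R]
      ((localCohomology J' (i + 1)).obj (ModuleCat.of R M))) := by
  have hS := scLin_shortExact f g hex hf hg
  haveI hEo : Injective (ModuleCat.of R E₀) := Module.injective_object_of_injective_module R _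
  haveI h1 : Subsingleton ((localCohomology J (i + 1)).obj (ModuleCat.of R E₀)) :=
    subsingleton_of_injective _ i _
  haveI h1' : Subsingleton ((localCohomology J' (i + 1)).obj (ModuleCat.of R E₀)) :=
    subsingleton_of_injective _ i _
  have hδsurj : Function.Surjective (δ J (scLin f g hex) hS i).hom := by
    intro y
    exact (exact₁ _ _ hS i y).mp (h1.elim _ _)
  have hδ'surj : Function.Surjective (δ J' (scLin f g hex) hS i).hom := by
    intro y
    exact (exact₁ _ _ hS i y).mp (h1'.elim _ _)
  let fa : ((localCohomology J i).obj (ModuleCat.of R Q)) →ₗ[R]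
      ((localCohomology J (i + 1)).obj (ModuleCat.of R M)) := (δ J (scLin f g hex) hS i).hom
  let ga : ((localCohomology J i).obj (ModuleCat.of R Q)) →ₗ[R]
      ((localCohomology J' (i + 1)).obj (ModuleCat.of R M)) :=
    (δ J' (scLin f g hex) hS i).hom ∘ₗ φQ.toLinearMap
  refine exists_linearEquiv_of_surjective fa ga hδsurj (hδ'surj.comp φQ.surjective)
    (fun z => ?_)
  change (δ J (scLin f g hex) hS i).hom z = 0 ↔ (δ J' (scLin f g hex) hS i).hom (φQ z) = 0
  rw [exact₃ _ _ hS i z, exact₃ _ _ hS i (φQ z)]
  exact hcompat z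

/-- If two ideals have the same torsion functor, their local cohomology modules are isomorphic. -/
theorem exists_linearEquiv_of_torsionSub_eq
    (hT : ∀ (N : Type u) [AddCommGroup N] [Module R N],
      DRing.torsionSub J N = DRing.torsionSub J' N) (i : ℕ) :
    ∀ (M : Type u) [AddCommGroup M] [Module R M],
      Nonempty (((localCohomology J i).obj (ModuleCat.of R M)) ≃ₗ[R]
        ((localCohomology J' i).obj (ModuleCat.of R M))) := by
  induction i with
  | zero =>
    intro M _ _
    obtain ⟨φ, -⟩ := exists_H0_equiv_of_torsionSub_eq J J' M (hT M)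
    exact ⟨φ⟩
  | succ j ih =>
    intro M _ _
    obtain ⟨E₀, _, _, f, hf, hE⟩ := exists_injective_embedding (R := R) M
    haveI := hE
    have hex := LinearMap.exact_map_mkQ_range f
    have hg := Submodule.mkQ_surjective (LinearMap.range f)
    rcases j with _ | k
    · obtain ⟨φQ, hεQ⟩ := exists_H0_equiv_of_torsionSub_eq J J' (E₀ ⧸ LinearMap.range f) (hT _)
      obtain ⟨φE, hεE⟩ := exists_H0_equiv_of_torsionSub_eq J J' E₀ (hT _)
      refine radical_step J J' 0 f (LinearMap.range f).mkQ hex hf hg φQ ?_
      have hnat : ∀ w, φQ (((localCohomology J 0).map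
          (ModuleCat.ofHom (LinearMap.range f).mkQ)).hom w) =
          ((localCohomology J' 0).map (ModuleCat.ofHom (LinearMap.range f).mkQ)).hom (φE w) := by
        intro w
        apply ε_injective J'
        rw [hεQ, ε_naturality_apply, ε_naturality_apply, hεE]
      intro z
      constructor
      · rintro ⟨w, rfl⟩
        exact ⟨φE w, (hnat w).symm⟩
      · rintro ⟨u, hu⟩
        obtain ⟨w, rfl⟩ := φE.surjective u
        refine ⟨w, φQ.injective ?_⟩
        rw [hnat, hu]
    · obtain ⟨φQ⟩ := ih (E₀ ⧸ LinearMap.range f)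
      refine radical_step J J' (k + 1) f (LinearMap.range f).mkQ hex hf hg φQ ?_
      haveI hEo : Injective (ModuleCat.of R E₀) := Module.injective_object_of_injective_module R _
      haveI h1 : Subsingleton ((localCohomology J (k + 1)).obj (ModuleCat.of R E₀)) :=
        subsingleton_of_injective _ k _
      haveI h1' : Subsingleton ((localCohomology J' (k + 1)).obj (ModuleCat.of R E₀)) :=
        subsingleton_of_injective _ k _
      intro z
      constructor
      · rintro ⟨w, rfl⟩
        rw [Subsingleton.elim w 0, map_zero, map_zero]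
        exact ⟨0, map_zero _⟩
      · rintro ⟨u, hu⟩
        rw [Subsingleton.elim u 0, map_zero] at hu
        have hz : z = 0 := φQ.injective (by rw [← hu, map_zero])
        exact ⟨0, by rw [hz, map_zero]⟩

/-- Over a Noetherian ring, local cohomology depends only on the radical of the ideal. -/
theorem exists_linearEquiv_of_radical_eq [IsNoetherianRing R] (h : J.radical = J'.radical)
    (i : ℕ) (M : Type u) [AddCommGroup M] [Module R M] :
    Nonempty (((localCohomology J i).obj (ModuleCat.of R M)) ≃ₗ[R]
      ((localCohomology J' i).obj (ModuleCat.of R M))) :=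
  exists_linearEquiv_of_torsionSub_eq J J'
    (fun N _ _ => torsionSub_eq_of_radical_eq J J' h N) i M

end Groth.Agent.H13.LC
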