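import Groth.Agent.H13.LCLES

/-!
# Naturality of the connecting homomorphisms in the short exact sequence
-/

set_option autoImplicit false

open CategoryTheory Limits Opposite

namespace Groth.Agent.H13.DerivedLES

universe v v' u u'

variable {C : Type u} [Category.{v} C] [Abelian C] [HasProjectiveResolutions C]
  {D : Type u'} [Category.{v'} D] [Abelian D]
  {F₁ F₂ F₃ G₁ G₂ G₃ : C ⥤ D} [F₁.Additive] [F₂.Additive] [F₃.Additive]
  [G₁.Additive] [G₂.Additive] [G₃.Additive]
  (a : F₁ ⟶ F₂) (b : F₂ ⟶ F₃) (w : a ≫ b = 0)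
  (hex : ∀ (X : C), Projective X →
    (ShortComplex.mk (a.app X) (b.app X) (app_zero a b w X)).ShortExact)
  (a' : G₁ ⟶ G₂) (b' : G₂ ⟶ G₃) (w' : a' ≫ b' = 0)
  (hex' : ∀ (X : C), Projective X →
    (ShortComplex.mk (a'.app X) (b'.app X) (app_zero a' b' w' X)).ShortExact)
  (t₁ : F₁ ⟶ G₁) (t₂ : F₂ ⟶ G₂) (t₃ : F₃ ⟶ G₃)
  (c₁ : t₁ ≫ a' = a ≫ t₂) (c₂ : t₂ ≫ b' = b ≫ t₃)

/-- The morphism of short complexes of chain complexes induced by a morphism of short
sequences of functors. -/
noncomputable def scTrans (K : ChainComplex C ℕ) : sc a b w K ⟶ sc a' b' w' K where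
  τ₁ := (NatTrans.mapHomologicalComplex t₁ (ComplexShape.down ℕ)).app K
  τ₂ := (NatTrans.mapHomologicalComplex t₂ (ComplexShape.down ℕ)).app K
  τ₃ := (NatTrans.mapHomologicalComplex t₃ (ComplexShape.down ℕ)).app K
  comm₁₂ := by
    ext n
    exact congrArg (fun t => t.app (K.X n)) c₁
  comm₂₃ := by
    ext n
    exact congrArg (fun t => t.app (K.X n)) c₂

include c₁ c₂ in
lemma δH_trans_naturality (K : ChainComplex C ℕ) (hK : ∀ n, Projective (K.X n)) (n : ℕ) :
    δH a b w hex K hK n ≫ (HomologicalComplex.homologyFunctor D (ComplexShape.down ℕ) n).map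
        ((NatTrans.mapHomologicalComplex t₁ (ComplexShape.down ℕ)).app K) =
      (HomologicalComplex.homologyFunctor D (ComplexShape.down ℕ) (n + 1)).map
        ((NatTrans.mapHomologicalComplex t₃ (ComplexShape.down ℕ)).app K) ≫
        δH a' b' w' hex' K hK n :=
  HomologicalComplex.HomologySequence.δ_naturality (scTrans a b w a' b' w' t₁ t₂ t₃ c₁ c₂ K)
    (sc_shortExact a b w hex K hK) (sc_shortExact a' b' w' hex' K hK) (n + 1) n (by simp)

include c₁ c₂ in
lemma δ_trans_naturality (X : C) (n : ℕ) :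
    δ a b w hex X n ≫ (NatTrans.leftDerived t₁ n).app X =
      (NatTrans.leftDerived t₃ (n + 1)).app X ≫ δ a' b' w' hex' X n := by
  rw [(projectiveResolution X).leftDerived_app_eq t₁ n,
    (projectiveResolution X).leftDerived_app_eq t₃ (n + 1)]
  dsimp only [δ, δP]
  simp only [Category.assoc, Iso.inv_hom_id_assoc]
  rw [reassoc_of% (δH_trans_naturality a b w hex a' b' w' hex' t₁ t₂ t₃ c₁ c₂
    (projectiveResolution X).complex (projectiveResolution X).projective n)]

end Groth.Agent.H13.DerivedLES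

namespace Groth.Agent.H13.ExtLES

universe v u w

variable {R : Type w} [Ring R] {C : Type u} [Category.{v} C] [Abelian C] [Linear R C]
  [EnoughProjectives C]

lemma extδ_naturality₂ {S S' : ShortComplex C} (hS : S.ShortExact) (hS' : S'.ShortExact)
    (φ : S ⟶ S') (X : C) (n : ℕ) :
    ((Ext R C n).obj (op X)).map φ.τ₃ ≫ extδ (R := R) S' hS' X n =
      extδ (R := R) S hS X n ≫ ((Ext R C (n + 1)).obj (op X)).map φ.τ₁ := by
  have h := DerivedLES.δ_trans_naturality (FYmap R S'.g) (FYmap R S'.f) (w S') (hex S' hS')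
    (FYmap R S.g) (FYmap R S.f) (w S) (hex S hS) (FYmap R φ.τ₃) (FYmap R φ.τ₂) (FYmap R φ.τ₁)
    (by
      ext Y
      apply Quiver.Hom.unop_inj
      ext (g : Y ⟶ S.X₂)
      change (g ≫ S.g) ≫ φ.τ₃ = (g ≫ φ.τ₂) ≫ S'.g
      rw [Category.assoc, Category.assoc, φ.comm₂₃])
    (by
      ext Y
      apply Quiver.Hom.unop_inj
      ext (g : Y ⟶ S.X₁)
      change (g ≫ S.f) ≫ φ.τ₂ = (g ≫ φ.τ₁) ≫ S'.f
      rw [Category.assoc, Category.assoc, φ.comm₁₂]) X n
  exact congrArg Quiver.Hom.unop h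

end Groth.Agent.H13.ExtLES

namespace Groth.Agent.H13.LC

universe u

variable {R : Type u} [CommRing R] (I : Ideal R)

lemma δN_naturality {S S' : ShortComplex (ModuleCat.{u} R)} (hS : S.ShortExact)
    (hS' : S'.ShortExact) (φ : S ⟶ S') (i : ℕ) :
    Emap I i φ.τ₃ ≫ δN I S' hS' i = δN I S hS i ≫ Emap I (i + 1) φ.τ₁ := by
  apply NatTrans.ext
  funext j
  exact ExtLES.extδ_naturality₂ (R := R) hS hS' φ (XI I j) i

/-- Naturality of the connecting homomorphism of local cohomology in the short exact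
sequence. -/
theorem δ_naturality {S S' : ShortComplex (ModuleCat.{u} R)} (hS : S.ShortExact)
    (hS' : S'.ShortExact) (φ : S ⟶ S') (i : ℕ) :
    (localCohomology I i).map φ.τ₃ ≫ δ I S' hS' i =
      δ I S hS i ≫ (localCohomology I (i + 1)).map φ.τ₁ := by
  have h1 := map_isoE I i φ.τ₃
  have h2 := map_isoE I (i + 1) φ.τ₁
  have h2' : (isoE I (i + 1) S.X₁).inv ≫ (localCohomology I (i + 1)).map φ.τ₁ =
      colimMap (Emap I (i + 1) φ.τ₁) ≫ (isoE I (i + 1) S'.X₁).inv := by
    rw [Iso.inv_comp_eq, ← Category.assoc, ← h2, Category.assoc, Iso.hom_inv_id, Category.comp_id]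
  have h3 : colimMap (Emap I i φ.τ₃) ≫ colimMap (δN I S' hS' i) =
      colimMap (δN I S hS i) ≫ colimMap (Emap I (i + 1) φ.τ₁) := by
    rw [colimMap_eq, colimMap_eq, colimMap_eq, colimMap_eq, ← Functor.map_comp, ← Functor.map_comp,
      δN_naturality I hS hS' φ i]
  dsimp only [δ]
  rw [← Category.assoc, h1, Category.assoc, Category.assoc, Category.assoc, h2',
    ← Category.assoc (colimMap (δN I S hS i)), ← h3, Category.assoc]

lemma δ_naturality_apply {S S' : ShortComplex (ModuleCat.{u} R)} (hS : S.ShortExact)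
    (hS' : S'.ShortExact) (φ : S ⟶ S') (i : ℕ) (y : (localCohomology I i).obj S.X₃) :
    (δ I S' hS' i).hom (((localCohomology I i).map φ.τ₃).hom y) =
      ((localCohomology I (i + 1)).map φ.τ₁).hom ((δ I S hS i).hom y) :=
  ConcreteCategory.congr_hom (δ_naturality I hS hS' φ i) y

end Groth.Agent.H13.LC
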