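import Groth.Agent.H13.LCNat
import Groth.Agent.H13.LCZero
import Groth.Prelude.Def_DualLC

/-!
# The comparison maps `H^i_{I'}(M) ⟶ H^i_I(M)` for `I ≤ I'`
-/

set_option autoImplicit false

open CategoryTheory Limits Opposite

namespace Groth.Agent.H13.LC

universe u

variable {R : Type u} [CommRing R] {I I' : Ideal R} (h : I ≤ I')

/-- The quotient map `R/I^j → R/I'^j`. -/
noncomputable abbrev qj (j : ℕᵒᵖᵒᵖ) : XI I j ⟶ XI I' j := (Dual2.quotMapOfLE h).app (unop j)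

/-- The comparison map `H^i_{I'}(M) ⟶ H^i_I(M)`. -/
noncomputable abbrev Ψ (i : ℕ) (M : ModuleCat.{u} R) :
    (localCohomology I' i).obj M ⟶ (localCohomology I i).obj M :=
  (Dual2.HmapOfLE h i).app M

/-- The level-`j` comparison map `Ext^i(R/I'^j, M) ⟶ Ext^i(R/I^j, M)`. -/
noncomputable def EΨ (i : ℕ) (M : ModuleCat.{u} R) (j : ℕᵒᵖᵒᵖ) :
    (E I' i M).obj j ⟶ (E I i M).obj j :=
  ((Ext R (ModuleCat.{u} R) i).map (qj h j).op).app M

lemma ιM_Ψ (i : ℕ) (M : ModuleCat.{u} R) (j : ℕᵒᵖᵒᵖ) :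
    ιM I' i M j ≫ Ψ h i M = EΨ h i M j ≫ ιM I i M j := by
  have h1 := ι_colimMap (Functor.whiskerRight (NatTrans.op (Dual2.quotMapOfLE h))
    (Ext R (ModuleCat.{u} R) i)) j
  exact congrArg (fun t => t.app M) h1

lemma ιM_Ψ_apply (i : ℕ) (M : ModuleCat.{u} R) (j : ℕᵒᵖᵒᵖ) (y : (E I' i M).obj j) :
    (Ψ h i M).hom ((ιM I' i M j).hom y) = (ιM I i M j).hom ((EΨ h i M j).hom y) :=
  ConcreteCategory.congr_hom (ιM_Ψ h i M j) y

lemma Ψ_naturality (i : ℕ) {M M' : ModuleCat.{u} R} (f : M ⟶ M') :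
    (localCohomology I' i).map f ≫ Ψ h i M' = Ψ h i M ≫ (localCohomology I i).map f :=
  (Dual2.HmapOfLE h i).naturality f

lemma Ψ_naturality_apply (i : ℕ) {M M' : ModuleCat.{u} R} (f : M ⟶ M')
    (x : (localCohomology I' i).obj M) :
    (Ψ h i M').hom (((localCohomology I' i).map f).hom x) =
      ((localCohomology I i).map f).hom ((Ψ h i M).hom x) :=
  ConcreteCategory.congr_hom (Ψ_naturality h i f) x

/-- `Ψ` for `I ≤ I` is the identity. -/
lemma Ψ_refl (i : ℕ) (M : ModuleCat.{u} R) : Ψ (le_refl I) i M = 𝟙 _ := by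
  apply hom_ext_ιM
  intro j
  rw [ιM_Ψ, Category.comp_id]
  have h1 : qj (le_refl I) j = 𝟙 _ := by
    ext x
    obtain ⟨x, rfl⟩ := Submodule.Quotient.mk_surjective _ x
    rfl
  have h2 : EΨ (le_refl I) i M j = 𝟙 _ := by
    unfold EΨ
    rw [h1, op_id, CategoryTheory.Functor.map_id]
    rfl
  rw [h2]
  exact Category.id_comp _

/-- Functoriality of `Ψ`. -/
lemma Ψ_comp {I'' : Ideal R} (h' : I' ≤ I'') (i : ℕ) (M : ModuleCat.{u} R) :
    Ψ h' i M ≫ Ψ h i M = Ψ (h.trans h') i M := by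
  apply hom_ext_ιM
  intro j
  have h1 : qj h j ≫ qj h' j = qj (h.trans h') j := by
    ext x
    obtain ⟨x, rfl⟩ := Submodule.Quotient.mk_surjective _ x
    rfl
  have h2 : EΨ h' i M j ≫ EΨ h i M j = EΨ (h.trans h') i M j := by
    unfold EΨ
    rw [← h1, op_comp, CategoryTheory.Functor.map_comp]
    rfl
  rw [← Category.assoc, ιM_Ψ, Category.assoc, ιM_Ψ, ιM_Ψ, ← Category.assoc, h2]

lemma Ψ_comp_apply {I'' : Ideal R} (h' : I' ≤ I'') (i : ℕ) (M : ModuleCat.{u} R)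
    (x : (localCohomology I'' i).obj M) :
    (Ψ h i M).hom ((Ψ h' i M).hom x) = (Ψ (h.trans h') i M).hom x :=
  ConcreteCategory.congr_hom (Ψ_comp h h' i M) x

/-- `δ` on representatives. -/
lemma ιM_δ (I : Ideal R) (S : ShortComplex (ModuleCat.{u} R)) (hS : S.ShortExact) (i : ℕ)
    (j : ℕᵒᵖᵒᵖ) :
    ιM I i S.X₃ j ≫ δ I S hS i = (δN I S hS i).app j ≫ ιM I (i + 1) S.X₁ j := by
  unfold δ
  rw [← Category.assoc, ιM_isoE, ← Category.assoc, ι_colimMap, Category.assoc]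
  congr 1
  rw [← ιM_isoE, Category.assoc, Iso.hom_inv_id, Category.comp_id]

/-- `Ψ` commutes with the connecting homomorphisms. -/
theorem Ψ_δ (S : ShortComplex (ModuleCat.{u} R)) (hS : S.ShortExact) (i : ℕ) :
    Ψ h i S.X₃ ≫ δ I S hS i = δ I' S hS i ≫ Ψ h (i + 1) S.X₁ := by
  apply hom_ext_ιM
  intro j
  have h2 : EΨ h i S.X₃ j ≫ (δN I S hS i).app j = (δN I' S hS i).app j ≫ EΨ h (i + 1) S.X₁ j :=
    ExtLES.extδ_naturality S hS (qj h j) i
  rw [← Category.assoc, ιM_Ψ, Category.assoc, ιM_δ, ← Category.assoc, h2, ← Category.assoc,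
    ιM_δ, Category.assoc, Category.assoc, ιM_Ψ]

lemma Ψ_δ_apply (S : ShortComplex (ModuleCat.{u} R)) (hS : S.ShortExact) (i : ℕ)
    (x : (localCohomology I' i).obj S.X₃) :
    (δ I S hS i).hom ((Ψ h i S.X₃).hom x) = (Ψ h (i + 1) S.X₁).hom ((δ I' S hS i).hom x) :=
  ConcreteCategory.congr_hom (Ψ_δ h S hS i) x

/-- In degree zero `Ψ` is compatible with the inclusions into `M`. -/
theorem Ψ_ε (M : ModuleCat.{u} R) : Ψ h 0 M ≫ ε I M = ε I' M := by
  apply hom_ext_ιM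
  intro j
  have e2 : EΨ h 0 M j ≫ (ExtLES.ext0Iso (R := R) (XI I j) M).hom =
      (ExtLES.ext0Iso (XI I' j) M).hom ≫
        ((linearYoneda R (ModuleCat.{u} R)).obj M).map (qj h j).op :=
    ExtLES.ext0Iso_naturality₁ (R := R) (qj h j) M
  have e3 : ((linearYoneda R (ModuleCat.{u} R)).obj M).map (qj h j).op ≫ ev1 I j M =
      ev1 I' j M := by
    ext f
    rfl
  have e4 : ιM I 0 M j ≫ ε I M =
      (ExtLES.ext0Iso (R := R) (XI I j) M).hom ≫ ev1 I j M := ιM_ε I M j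
  have s1 : ιM I' 0 M j ≫ Ψ h 0 M ≫ ε I M = EΨ h 0 M j ≫ (ιM I 0 M j ≫ ε I M) := by
    rw [← Category.assoc, ιM_Ψ, Category.assoc]
  have s2 : EΨ h 0 M j ≫ (ιM I 0 M j ≫ ε I M) =
      EΨ h 0 M j ≫ ((ExtLES.ext0Iso (R := R) (XI I j) M).hom ≫ ev1 I j M) :=
    congrArg (fun t => EΨ h 0 M j ≫ t) e4
  have s3 : EΨ h 0 M j ≫ ((ExtLES.ext0Iso (R := R) (XI I j) M).hom ≫ ev1 I j M) =
      (EΨ h 0 M j ≫ (ExtLES.ext0Iso (R := R) (XI I j) M).hom) ≫ ev1 I j M :=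
    (Category.assoc _ _ _).symm
  have s4 : (EΨ h 0 M j ≫ (ExtLES.ext0Iso (R := R) (XI I j) M).hom) ≫ ev1 I j M =
      ((ExtLES.ext0Iso (XI I' j) M).hom ≫
        ((linearYoneda R (ModuleCat.{u} R)).obj M).map (qj h j).op) ≫ ev1 I j M :=
    congrArg (fun t => t ≫ ev1 I j M) e2
  have s5 : ((ExtLES.ext0Iso (R := R) (XI I' j) M).hom ≫
        ((linearYoneda R (ModuleCat.{u} R)).obj M).map (qj h j).op) ≫ ev1 I j M =
      (ExtLES.ext0Iso (XI I' j) M).hom ≫ ev1 I' j M := by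
    rw [Category.assoc, e3]
  exact s1.trans (s2.trans (s3.trans (s4.trans (s5.trans (ιM_ε I' M j).symm))))

lemma Ψ_ε_apply (M : ModuleCat.{u} R) (x : (localCohomology I' 0).obj M) :
    (ε I M).hom ((Ψ h 0 M).hom x) = (ε I' M).hom x :=
  ConcreteCategory.congr_hom (Ψ_ε h M) x

/-- `Ψ` is injective in degree zero. -/
theorem Ψ_zero_injective (M : ModuleCat.{u} R) : Function.Injective (Ψ h 0 M).hom := by
  intro x y hxy
  apply ε_injective I' M
  rw [← Ψ_ε_apply h, ← Ψ_ε_apply h, hxy]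

end Groth.Agent.H13.LC
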