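import Groth.Agent.H13.LCGV

/-!
# Top local cohomology: surjectivity of multiplication by parameters
-/

set_option autoImplicit false
set_option linter.style.haveILetI false

open CategoryTheory Limits Opposite Pointwise

namespace Groth.Agent.H13.LC

universe u

variable {R : Type u} [CommRing R]

lemma supportDim_quotSMulTop_lt (d : ℕ) (hd : ringKrullDim R = d) (f : R)
    (hf : ∀ p ∈ minimalPrimes R, ringKrullDim (R ⧸ p) = d → f ∉ p)
    (M : Type u) [AddCommGroup M] [Module R M] [Module.Finite R M] :
    Module.supportDim R (QuotSMulTop f M) < (d : WithBot ℕ∞) := by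
  by_contra hcon
  rw [not_lt] at hcon
  obtain ⟨l, hl⟩ := Order.le_krullDim_iff.mp hcon
  have key : ∀ x ∈ Module.support R (QuotSMulTop f M), f ∈ x.asIdeal := by
    intro x hx
    rw [Module.support_quotSMulTop] at hx
    simpa using hx.2
  have hfq : f ∈ (l.head).1.asIdeal := key _ (l.head).2
  have ha : ringKrullDim (R ⧸ (l.head).1.asIdeal) = d := by
    apply le_antisymm
    · exact (ringKrullDim_quotient_le _).trans hd.le
    · rw [ringKrullDim_quotient]
      let l' : LTSeries (PrimeSpectrum.zeroLocus (R := R) ((l.head).1.asIdeal : Set R)) :=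
        { length := l.length
          toFun := fun n => ⟨(l n).1, by
            rw [PrimeSpectrum.mem_zeroLocus]
            exact SetLike.coe_subset_coe.mpr (l.head_le n)⟩
          step := fun i => l.step i }
      have := Order.LTSeries.length_le_krullDim l'
      rw [← hl]
      exact this
  obtain ⟨p', hp', hle⟩ := Ideal.exists_minimalPrimes_le (I := ⊥) (J := (l.head).1.asIdeal) bot_le
  have hpq : p' = (l.head).1.asIdeal := by
    by_contra hne
    have hlt : p' < (l.head).1.asIdeal := lt_of_le_of_ne hle hne
    let l₁ : LTSeries (PrimeSpectrum R) := l.map Subtype.val (fun a b h => h)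
    haveI := hp'.1.1
    let l₂ : LTSeries (PrimeSpectrum R) := l₁.cons ⟨p', hp'.1.1⟩ hlt
    have h1 := Order.LTSeries.length_le_krullDim l₂
    have h2 : l₂.length = d + 1 := by simp [l₂, l₁, hl]
    rw [h2] at h1
    change ((d + 1 : ℕ) : WithBot ℕ∞) ≤ ringKrullDim R at h1
    rw [hd] at h1
    have : d + 1 ≤ d := by exact_mod_cast h1
    omega
  exact hf p' hp' (hpq ▸ ha) (hpq ▸ hfq)

variable (I : Ideal R) [IsNoetherianRing R]

/-- Multiplication by an element avoiding the top-dimensional minimal primes is surjective on
the top local cohomology of a finite module. -/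
theorem smul_surjective_top (d : ℕ) (hd : ringKrullDim R = d) (f : R)
    (hf : ∀ p ∈ minimalPrimes R, ringKrullDim (R ⧸ p) = d → f ∉ p)
    (M : Type u) [AddCommGroup M] [Module R M] [Module.Finite R M] :
    Function.Surjective (fun x : (localCohomology I d).obj (ModuleCat.of R M) => f • x) := by
  let φ : M →ₗ[R] M := f • LinearMap.id
  have hC : Subsingleton ((localCohomology I d).obj (ModuleCat.of R (M ⧸ LinearMap.range φ))) := by
    apply subsingleton_of_supportDim_lt
    have hr : LinearMap.range φ = f • (⊤ : Submodule R M) := by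
      ext m
      rw [Submodule.mem_smul_pointwise_iff_exists]
      constructor
      · rintro ⟨m', rfl⟩
        exact ⟨m', trivial, rfl⟩
      · rintro ⟨m', -, rfl⟩
        exact ⟨m', rfl⟩
    rw [hr]
    exact supportDim_quotSMulTop_lt d hd f hf M
  have hK : Subsingleton ((localCohomology I (d + 1)).obj (ModuleCat.of R (LinearMap.ker φ))) := by
    apply subsingleton_of_supportDim_lt
    refine lt_of_le_of_lt ((Module.supportDim_le_ringKrullDim R _).trans hd.le) ?_
    exact_mod_cast Nat.lt_succ_self d
  -- first sequence
  have hex1 : Function.Exact (LinearMap.ker φ).subtype φ.rangeRestrict := by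
    intro m
    rw [← LinearMap.exact_subtype_ker_map φ m]
    constructor
    · intro h
      exact congrArg Subtype.val h
    · intro h
      exact Subtype.ext h
  have hS1 := scLin_shortExact _ _ hex1 (LinearMap.ker φ).injective_subtype
    φ.surjective_rangeRestrict
  have hS2 := scSub_shortExact (LinearMap.range φ)
  intro z
  -- z comes from H^d(range φ)
  have h2 : ((localCohomology I d).map (scSub (LinearMap.range φ)).g).hom z = 0 :=
    hC.elim _ _
  obtain ⟨y, rfl⟩ := (exact₂ I _ hS2 d z).mp h2
  have h3 : (δ I _ hS1 d).hom y = 0 := hK.elim _ _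
  obtain ⟨x, rfl⟩ := (exact₃ I _ hS1 d y).mp h3
  refine ⟨x, ?_⟩
  have hcomp : ModuleCat.ofHom (f • (LinearMap.id : M →ₗ[R] M)) =
      (scLin _ _ hex1).g ≫ (scSub (LinearMap.range φ)).f := rfl
  have hmap : (localCohomology I d).map (ModuleCat.ofHom (f • (LinearMap.id : M →ₗ[R] M))) =
      (localCohomology I d).map (scLin _ _ hex1).g ≫
        (localCohomology I d).map (scSub (LinearMap.range φ)).f :=
    (congrArg (localCohomology I d).map hcomp).trans (Functor.map_comp _ _ _)
  exact (map_smul_id_apply I d M f x).symm.trans (ConcreteCategory.congr_hom hmap x)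

end Groth.Agent.H13.LC
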