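import Groth.Agent.H13.LCZero

/-!
# Noetherian case: `Γ_I` of an injective is injective; power-torsion modules are acyclic
-/

set_option autoImplicit false

open CategoryTheory Limits Opposite

namespace Groth.Agent.H13.LC

universe u

variable {R : Type u} [CommRing R]

/-- Short exact sequence `0 → p → M → M/p → 0` in `ModuleCat`. -/
noncomputable def scSub {M : Type u} [AddCommGroup M] [Module R M] (p : Submodule R M) :
    ShortComplex (ModuleCat.{u} R) :=
  ShortComplex.mk (ModuleCat.ofHom p.subtype) (ModuleCat.ofHom p.mkQ) (by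
    ext x
    exact (Submodule.Quotient.mk_eq_zero p).mpr x.2)

lemma scSub_shortExact {M : Type u} [AddCommGroup M] [Module R M] (p : Submodule R M) :
    (scSub p).ShortExact := by
  refine ShortComplex.ShortExact.mk' ?_ ?_ ?_
  · rw [ShortComplex.ShortExact.moduleCat_exact_iff_function_exact]
    exact LinearMap.exact_subtype_mkQ p
  · rw [ModuleCat.mono_iff_injective]
    exact p.injective_subtype
  · rw [ModuleCat.epi_iff_surjective]
    exact p.mkQ_surjective

/-- Short exact sequence `0 → M → N → N/range f → 0` for injective `f`. -/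
noncomputable def scInj {M N : Type u} [AddCommGroup M] [Module R M] [AddCommGroup N] [Module R N]
    (f : M →ₗ[R] N) : ShortComplex (ModuleCat.{u} R) :=
  ShortComplex.mk (ModuleCat.ofHom f) (ModuleCat.ofHom (LinearMap.range f).mkQ) (by
    ext x
    exact (Submodule.Quotient.mk_eq_zero _).mpr ⟨x, rfl⟩)

lemma scInj_shortExact {M N : Type u} [AddCommGroup M] [Module R M] [AddCommGroup N] [Module R N]
    (f : M →ₗ[R] N) (hf : Function.Injective f) : (scInj f).ShortExact := by
  refine ShortComplex.ShortExact.mk' ?_ ?_ ?_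
  · rw [ShortComplex.ShortExact.moduleCat_exact_iff_function_exact]
    exact LinearMap.exact_map_mkQ_range f
  · rw [ModuleCat.mono_iff_injective]
    exact hf
  · rw [ModuleCat.epi_iff_surjective]
    exact (LinearMap.range f).mkQ_surjective

variable (I : Ideal R)

lemma isPowerTorsion_torsionSub (M : Type u) [AddCommGroup M] [Module R M] :
    LocCoh.IsPowerTorsion I (DRing.torsionSub I M) := by
  rintro ⟨x, n, hn⟩
  exact ⟨n, fun a ha => Subtype.ext (hn a ha)⟩

lemma isPowerTorsion_quotient {M : Type u} [AddCommGroup M] [Module R M]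
    (h : LocCoh.IsPowerTorsion I M) (p : Submodule R M) : LocCoh.IsPowerTorsion I (M ⧸ p) := by
  intro x
  obtain ⟨m, rfl⟩ := p.mkQ_surjective x
  obtain ⟨n, hn⟩ := h m
  exact ⟨n, fun a ha => by rw [← _root_.map_smul, hn a ha, map_zero]⟩

lemma torsionSub_eq_top_of_isPowerTorsion {M : Type u} [AddCommGroup M] [Module R M]
    (h : LocCoh.IsPowerTorsion I M) : DRing.torsionSub I M = ⊤ :=
  eq_top_iff.mpr fun m _ => h m

section Noeth

variable [IsNoetherianRing R]

/-- Over a Noetherian ring, `Γ_I(E)` is injective if `E` is. -/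
theorem torsionSub_injective (E : Type u) [AddCommGroup E] [Module R E] [Module.Injective R E] :
    Module.Injective R (DRing.torsionSub I E) := by
  apply Module.Baer.injective
  intro J g
  -- Step 1: a uniform power of `I` kills the image of `g`.
  obtain ⟨N, hN⟩ : ∃ N : ℕ, ∀ a ∈ I ^ N, ∀ x : J, a • g x = 0 := by
    classical
    have hfg : (⊤ : Submodule R J).FG := Module.finite_def.mp inferInstance
    obtain ⟨s, hs⟩ := hfg
    choose n hn using fun x : J =>
      (show ∃ n : ℕ, ∀ a ∈ I ^ n, a • ((g x : DRing.torsionSub I E) : E) = 0 from (g x).2)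
    refine ⟨s.sup n, fun a ha x => ?_⟩
    have hx : x ∈ Submodule.span R (s : Set J) := by rw [hs]; trivial
    induction hx using Submodule.span_induction with
    | mem y hy =>
      apply Subtype.ext
      exact hn y a (Ideal.pow_le_pow_right (Finset.le_sup hy) ha)
    | zero => rw [map_zero, smul_zero]
    | add y z _ _ hy hz => rw [map_add, smul_add, hy, hz, add_zero]
    | smul c y _ hy => rw [_root_.map_smul, smul_comm, hy, smul_zero]
  -- Step 2: Artin-Rees.
  obtain ⟨k, hk⟩ := Ideal.exists_pow_inf_eq_pow_smul I (J : Submodule R R)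
  set m := N + k with hm
  have hvan : ∀ x : J, (x : R) ∈ I ^ m → g x = 0 := by
    intro x hx
    have h1 : (x : R) ∈ I ^ m • (⊤ : Submodule R R) ⊓ J := by
      refine ⟨?_, x.2⟩
      rw [smul_eq_mul, Ideal.mul_top]
      exact hx
    rw [hk m (Nat.le_add_left k N)] at h1
    have h2 : I ^ (m - k) • (I ^ k • (⊤ : Submodule R R) ⊓ J) ≤
        Submodule.map (Submodule.subtype J) (LinearMap.ker g) := by
      rw [Submodule.smul_le]
      intro a ha y hy
      have : m - k = N := by omega
      rw [this] at ha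
      refine ⟨a • ⟨y, hy.2⟩, ?_, rfl⟩
      show g (a • ⟨y, hy.2⟩) = 0
      rw [_root_.map_smul]
      exact hN a ha _
    obtain ⟨z, hz, hzx⟩ := h2 h1
    have : z = x := Subtype.ext hzx
    rw [← this]
    exact hz
  -- Step 3: extend through `R ⧸ I ^ m`.
  let K' : Submodule R J := Submodule.comap (Submodule.subtype J) (I ^ m : Submodule R R)
  let φ : J →ₗ[R] (R ⧸ I ^ m) := (I ^ m).mkQ ∘ₗ Submodule.subtype J
  have hφ : K' = LinearMap.ker φ := by
    rw [LinearMap.ker_comp, Submodule.ker_mkQ]
  let ι : (J ⧸ K') →ₗ[R] (R ⧸ I ^ m) := K'.liftQ φ (le_of_eq hφ)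
  have hι : Function.Injective ι := by
    rw [← LinearMap.ker_eq_bot]
    exact Submodule.ker_liftQ_eq_bot' K' φ hφ
  let hbar : (J ⧸ K') →ₗ[R] E :=
    K'.liftQ ((DRing.torsionSub I E).subtype ∘ₗ g) (by
      intro x hx
      rw [LinearMap.mem_ker, LinearMap.comp_apply, hvan x (Submodule.mem_comap.mp hx), map_zero])
  obtain ⟨H, hH⟩ := Module.Injective.extension_property R E _ _ ι hι hbar
  let g'' : R →ₗ[R] E := H ∘ₗ (I ^ m).mkQ
  have hg'' : ∀ r : R, g'' r ∈ DRing.torsionSub I E := by
    intro r
    refine ⟨m, fun a ha => ?_⟩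
    change a • H ((I ^ m).mkQ r) = 0
    rw [← _root_.map_smul, ← _root_.map_smul]
    have : (I ^ m).mkQ (a • r) = 0 := (Submodule.Quotient.mk_eq_zero (I ^ m)).mpr (by
      rw [smul_eq_mul]; exact Ideal.mul_mem_right r _ ha)
    rw [this, map_zero]
  refine ⟨LinearMap.codRestrict (DRing.torsionSub I E) g'' hg'', fun x hx => ?_⟩
  apply Subtype.ext
  change H ((I ^ m).mkQ x) = (g ⟨x, hx⟩ : E)
  have h1 : ι (K'.mkQ ⟨x, hx⟩) = (I ^ m).mkQ x := rfl
  rw [← h1, ← LinearMap.comp_apply, hH]
  rfl

end Noeth

end Groth.Agent.H13.LC
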