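import Mathlib
import Groth.Prelude.Def_LiftSq

namespace Groth.Agent.H13.LiftComp

open CategoryTheory LiftSq

universe v₆ u₆ v₅ u₅ v₄ u₄ v₃ u₃ v₂ u₂ v u

variable {C : Type u} [Category.{v} C]
  {𝒜 : BasedCategory.{v₂, u₂} C} {ℬ : BasedCategory.{v₃, u₃} C}
  {𝒳 : BasedCategory.{v₄, u₄} C} {𝒴 : BasedCategory.{v₅, u₅} C} {𝒵 : BasedCategory.{v₆, u₆} C}

theorem eq_of_app {F G : ℬ ⥤ᵇ 𝒳} {α β : F ⟶ G}
    (h : ∀ x, α.toNatTrans.app x = β.toNatTrans.app x) : α = β := by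
  apply BasedNatTrans.homCategory.ext; ext x; exact h x

theorem app_of_eq {F G : ℬ ⥤ᵇ 𝒳} {α β : F ⟶ G} (h : α = β) (x : ℬ.obj) :
    α.toNatTrans.app x = β.toNatTrans.app x := by rw [h]

def whiskerRightIso {F G : ℬ ⥤ᵇ 𝒳} (α : F ≅ G) (f : 𝒳 ⥤ᵇ 𝒴) :
    BasedFunctor.comp F f ≅ BasedFunctor.comp G f where
  hom := BasedCategory.whiskerRight α.hom f
  inv := BasedCategory.whiskerRight α.inv f
  hom_inv_id := by rw [← whiskerRight_comp', Iso.hom_inv_id, whiskerRight_id']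
  inv_hom_id := by rw [← whiskerRight_comp', Iso.inv_hom_id, whiskerRight_id']

variable {j : 𝒜 ⥤ᵇ ℬ} {f : 𝒳 ⥤ᵇ 𝒴} {g : 𝒴 ⥤ᵇ 𝒵}

theorem lifts_comp (hf : Lifts j f) (hg : Lifts j g) : Lifts j (BasedFunctor.comp f g) := by
  intro sq
  obtain ⟨d₁⟩ := hg (⟨BasedFunctor.comp sq.top f, sq.bot, sq.iso⟩ : Sq j g)
  obtain ⟨d₂⟩ := hf (⟨sq.top, d₁.fn, d₁.isoTop⟩ : Sq j f)
  refine ⟨⟨d₂.fn, d₂.isoTop, d₁.isoBot ≪≫ whiskerRightIso d₂.isoBot g, ?_⟩⟩
  refine eq_of_app (fun x => ?_)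
  have w₁x := app_of_eq d₁.w x
  have w₂x := app_of_eq d₂.w x
  change d₁.isoBot.hom.toNatTrans.app (j.obj x) ≫ g.map (d₁.isoTop.hom.toNatTrans.app x) =
    sq.iso.hom.toNatTrans.app x at w₁x
  change d₂.isoBot.hom.toNatTrans.app (j.obj x) ≫ f.map (d₂.isoTop.hom.toNatTrans.app x) =
    d₁.isoTop.hom.toNatTrans.app x at w₂x
  change (d₁.isoBot.hom.toNatTrans.app (j.obj x) ≫
    g.map (d₂.isoBot.hom.toNatTrans.app (j.obj x))) ≫
      g.map (f.map (d₂.isoTop.hom.toNatTrans.app x)) = sq.iso.hom.toNatTrans.app x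
  rw [← w₁x, ← w₂x]
  exact (Category.assoc _ _ _).trans (congrArg (_ ≫ ·) (g.map_comp _ _).symm)

/-- the outer square -/
abbrev sqOuter (sq : Sq j (BasedFunctor.comp f g)) : Sq j g :=
  ⟨BasedFunctor.comp sq.top f, sq.bot, sq.iso⟩

abbrev pushLift {sq : Sq j (BasedFunctor.comp f g)} (d : sq.Lift) : (sqOuter sq).Lift where
  fn := BasedFunctor.comp d.fn f
  isoTop := whiskerRightIso d.isoTop f
  isoBot := d.isoBot
  w := by
    refine eq_of_app (fun x => ?_)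
    exact app_of_eq d.w x

abbrev sqInner {sq : Sq j (BasedFunctor.comp f g)} (d : sq.Lift) : Sq j f :=
  ⟨sq.top, BasedFunctor.comp d.fn f, whiskerRightIso d.isoTop f⟩

abbrev liftA {sq : Sq j (BasedFunctor.comp f g)} (d : sq.Lift) : (sqInner d).Lift where
  fn := d.fn
  isoTop := d.isoTop
  isoBot := Iso.refl _
  w := by
    refine eq_of_app (fun x => ?_)
    change 𝟙 (f.obj (d.fn.obj (j.obj x))) ≫ f.map (d.isoTop.hom.toNatTrans.app x) =
      f.map (d.isoTop.hom.toNatTrans.app x)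
    exact Category.id_comp _

abbrev liftB {sq : Sq j (BasedFunctor.comp f g)} (d d' : sq.Lift) (θ : pushLift d ⟶ pushLift d')
    (θ' : pushLift d' ⟶ pushLift d) (h1 : θ ≫ θ' = 𝟙 _) (h2 : θ' ≫ θ = 𝟙 _) :
    (sqInner d).Lift where
  fn := d'.fn
  isoTop := d'.isoTop
  isoBot := ⟨θ.hom, θ'.hom, congrArg Sq.Lift.Hom.hom h1, congrArg Sq.Lift.Hom.hom h2⟩
  w := θ.w_top

theorem liftsUnique_comp (hf : LiftsUnique j f) (hg : LiftsUnique j g) :
    LiftsUnique j (BasedFunctor.comp f g) := by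
  intro sq d d'
  obtain ⟨u1⟩ := hg (sqOuter sq) (pushLift d) (pushLift d')
  obtain ⟨u2⟩ := hg (sqOuter sq) (pushLift d') (pushLift d)
  obtain ⟨u3⟩ := hg (sqOuter sq) (pushLift d) (pushLift d)
  obtain ⟨u4⟩ := hg (sqOuter sq) (pushLift d') (pushLift d')
  let θ : pushLift d ⟶ pushLift d' := u1.toInhabited.default
  let θ' : pushLift d' ⟶ pushLift d := u2.toInhabited.default
  have h1 : θ ≫ θ' = 𝟙 _ := (u3.uniq _).trans (u3.uniq _).symm
  have h2 : θ' ≫ θ = 𝟙 _ := (u4.uniq _).trans (u4.uniq _).symm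
  obtain ⟨u5⟩ := hf (sqInner d) (liftA d) (liftB d d' θ θ' h1 h2)
  let φ : liftA d ⟶ liftB d d' θ θ' h1 h2 := u5.toInhabited.default
  have hφ : ∀ x, f.map (φ.hom.toNatTrans.app x) = θ.hom.toNatTrans.app x := by
    intro x
    have := app_of_eq φ.w_bot x
    change 𝟙 (f.obj (d.fn.obj x)) ≫ f.map (φ.hom.toNatTrans.app x) = θ.hom.toNatTrans.app x at this
    rwa [Category.id_comp] at this
  refine ⟨{ default := ⟨φ.hom, φ.w_top, ?_⟩, uniq := ?_ }⟩
  · refine eq_of_app (fun x => ?_)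
    have := app_of_eq θ.w_bot x
    change d.isoBot.hom.toNatTrans.app x ≫ g.map (θ.hom.toNatTrans.app x) =
      d'.isoBot.hom.toNatTrans.app x at this
    change d.isoBot.hom.toNatTrans.app x ≫ g.map (f.map (φ.hom.toNatTrans.app x)) =
      d'.isoBot.hom.toNatTrans.app x
    rw [hφ x]; exact this
  · intro ψ
    have hψ1 : ∀ x, f.map (ψ.hom.toNatTrans.app x) = θ.hom.toNatTrans.app x := by
      let ψ₁ : pushLift d ⟶ pushLift d' := ⟨BasedCategory.whiskerRight ψ.hom f, by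
        refine eq_of_app (fun x => ?_)
        have := app_of_eq ψ.w_top x
        change ψ.hom.toNatTrans.app (j.obj x) ≫ d'.isoTop.hom.toNatTrans.app x =
          d.isoTop.hom.toNatTrans.app x at this
        change f.map (ψ.hom.toNatTrans.app (j.obj x)) ≫ f.map (d'.isoTop.hom.toNatTrans.app x) =
          f.map (d.isoTop.hom.toNatTrans.app x)
        exact (f.map_comp _ _).symm.trans (congrArg (fun t => f.map t) this), by
        refine eq_of_app (fun x => ?_)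
        exact app_of_eq ψ.w_bot x⟩
      have h := congrArg Sq.Lift.Hom.hom (u1.uniq ψ₁)
      intro x
      exact app_of_eq h x
    let ψ₂ : liftA d ⟶ liftB d d' θ θ' h1 h2 := ⟨ψ.hom, ψ.w_top, by
      refine eq_of_app (fun x => ?_)
      change 𝟙 (f.obj (d.fn.obj x)) ≫ f.map (ψ.hom.toNatTrans.app x) = θ.hom.toNatTrans.app x
      rw [Category.id_comp]; exact hψ1 x⟩
    have := u5.uniq ψ₂
    apply Sq.Lift.hom_ext
    have h3 : ψ₂.hom = φ.hom := congrArg Sq.Lift.Hom.hom this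
    exact h3

theorem liftsUniquely_comp (hf : LiftsUniquely j f) (hg : LiftsUniquely j g) :
    LiftsUniquely j (BasedFunctor.comp f g) :=
  fun sq => ⟨lifts_comp (fun s => (hf s).1) (fun s => (hg s).1) sq,
    liftsUnique_comp (fun s => (hf s).2) (fun s => (hg s).2) sq⟩

end Groth.Agent.H13.LiftComp
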