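import Mathlib
import Groth.Agent.H14Lib.KrullDim

/-!
# Noether normalization with integer coefficients (helper for S12208)
-/

set_option autoImplicit false
universe u

open private hom2 hom2_isIntegral from Mathlib.RingTheory.NoetherNormalization

namespace Groth.Agent.H13.NoetherInt

open MvPolynomial Ideal NoetherNormalization

/-- polynomials with integer coefficients -/
noncomputable def IntPoly (k : Type u) [Field k] (m : ℕ) : Subring (MvPolynomial (Fin m) k) :=
  (MvPolynomial.map (Int.castRingHom k)).range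

theorem X_mem (k : Type u) [Field k] (m : ℕ) (i : Fin m) : (X i : MvPolynomial (Fin m) k) ∈ IntPoly k m :=
  ⟨X i, by simp⟩

theorem algHom_mem {k : Type u} [Field k] {m m' : ℕ}
    (φ : MvPolynomial (Fin m) k →ₐ[k] MvPolynomial (Fin m') k)
    (hφ : ∀ i, φ (X i) ∈ IntPoly k m') (p : MvPolynomial (Fin m) k) (hp : p ∈ IntPoly k m) :
    φ p ∈ IntPoly k m' := by
  obtain ⟨q, rfl⟩ := hp
  induction q using MvPolynomial.induction_on with
  | C a =>
    refine ⟨C a, ?_⟩
    rw [MvPolynomial.map_C, MvPolynomial.map_C]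
    have : (C ((Int.castRingHom k) a) : MvPolynomial (Fin m) k) =
        algebraMap k _ ((Int.castRingHom k) a) := rfl
    rw [this, φ.commutes]
    rfl
  | add p q hp hq =>
    rw [map_add, map_add]
    exact Subring.add_mem _ hp hq
  | mul_X p i hp =>
    rw [map_mul, map_mul, MvPolynomial.map_X]
    exact Subring.mul_mem _ hp (hφ i)

theorem hom2_eq {k : Type u} [Field k] {d : ℕ} (f : MvPolynomial (Fin (d + 1)) k)
    (I : Ideal (MvPolynomial (Fin (d + 1)) k)) (p : MvPolynomial (Fin d) k) :
    hom2 f I p = Ideal.Quotient.mk I (T1 f (-1) (rename Fin.succ p)) := by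
  have h1 : (finSuccEquiv k d).symm (Polynomial.C p) = rename Fin.succ p := by
    rw [AlgEquiv.symm_apply_eq]
    induction p using MvPolynomial.induction_on with
    | C a =>
      rw [rename_C]
      exact ((finSuccEquiv k d).commutes a).symm
    | add p q hp hq => rw [map_add, map_add, map_add, hp, hq]
    | mul_X p i hp => rw [map_mul, map_mul, map_mul, ← hp, rename_X, finSuccEquiv_X_succ]
  rw [← h1]
  rfl

theorem nn_int (k : Type u) [Field k] : ∀ (n : ℕ) (I : Ideal (MvPolynomial (Fin n) k)), I ≠ ⊤ →
    ∃ (s : ℕ) (y : Fin s → MvPolynomial (Fin n) k), (∀ i, y i ∈ IntPoly k n) ∧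
      Function.Injective ((Ideal.Quotient.mkₐ k I).comp (MvPolynomial.aeval y)) ∧
      ((Ideal.Quotient.mkₐ k I).comp (MvPolynomial.aeval y)).toRingHom.IsIntegral := by
  intro n
  induction n with
  | zero =>
    intro I hi
    refine ⟨0, fun i => X i, fun i => X_mem k 0 i, ?_, ?_⟩
    · rw [aeval_X_left, AlgHom.comp_id]
      intro a b hab
      rw [Quotient.mkₐ_eq_mk, Ideal.Quotient.eq] at hab
      by_contra ne
      have eq := eq_C_of_isEmpty (a - b)
      have ne : coeff 0 (a - b) ≠ 0 := fun h ↦ h ▸ eq ▸ sub_ne_zero_of_ne ne <| map_zero _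
      obtain ⟨c, _, eqr⟩ := isUnit_iff_exists.mp ne.isUnit
      have one : c • (a - b) = 1 := by
        rw [MvPolynomial.smul_eq_C_mul, eq, ← map_mul, eqr, MvPolynomial.C_1]
      exact hi ((eq_top_iff_one I).mpr (one ▸ I.smul_of_tower_mem c hab))
    · rw [aeval_X_left, AlgHom.comp_id]
      exact RingHom.isIntegral_of_surjective _ (Quotient.mkₐ_surjective k I)
  | succ d hd =>
    intro I hi
    by_cases eqi : I = ⊥
    · have bij : Function.Bijective (Quotient.mkₐ k I) :=
        (Quotient.mk_bijective_iff_eq_bot I).mpr eqi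
      refine ⟨d + 1, fun i => X i, fun i => X_mem k _ i, ?_, ?_⟩
      · rw [aeval_X_left, AlgHom.comp_id]
        exact bij.1
      · rw [aeval_X_left, AlgHom.comp_id]
        exact RingHom.isIntegral_of_surjective _ bij.2
    · obtain ⟨f, fi, fne⟩ := Submodule.exists_mem_ne_zero_of_ne_bot eqi
      have := Quotient.nontrivial_iff.mpr hi
      obtain ⟨s, y', hy', injg, intg⟩ :=
        hd (RingHom.ker (hom2 f I)) (RingHom.ker_ne_top (hom2 f I))
      let Z : MvPolynomial (Fin d) k →ₐ[k] MvPolynomial (Fin (d + 1)) k :=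
        (T1 f (-1)).comp (rename Fin.succ)
      have hZ : ∀ p, hom2 f I p = Ideal.Quotient.mk I (Z p) := fun p => hom2_eq f I p
      have hZint : ∀ i, Z (X i) ∈ IntPoly k (d + 1) := by
        intro i
        show T1 f (-1) (rename Fin.succ (X i)) ∈ _
        rw [rename_X, aeval_X, if_neg (Fin.succ_ne_zero i)]
        refine Subring.add_mem _ (X_mem k _ _) ?_
        rw [neg_smul, one_smul]
        exact Subring.neg_mem _ (Subring.pow_mem _ (X_mem k _ _) _)
      have comp : (Quotient.mkₐ k I).comp (aeval (fun j => Z (y' j))) =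
          (kerLiftAlg (hom2 f I)).comp
            ((Quotient.mkₐ k (RingHom.ker (hom2 f I))).comp (aeval y')) := by
        apply MvPolynomial.algHom_ext
        intro j
        simp only [AlgHom.comp_apply, aeval_X, Quotient.mkₐ_eq_mk, kerLiftAlg_mk]
        exact (hZ _).symm
      refine ⟨s, fun j => Z (y' j), fun j => algHom_mem Z hZint (y' j) (hy' j), ?_, ?_⟩
      · rw [comp, AlgHom.coe_comp]
        exact (kerLiftAlg_injective _).comp injg
      · rw [comp]
        have comp2 : (kerLiftAlg (hom2 f I)).comp (Quotient.mkₐ k <| RingHom.ker <| hom2 f I) =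
            (hom2 f I) := AlgHom.ext fun a ↦ by
          simp only [AlgHom.coe_comp, Quotient.mkₐ_eq_mk, Function.comp_apply, kerLiftAlg_mk]
        exact intg.trans _ _ <| (comp2 ▸ hom2_isIntegral f I fne fi).tower_top _ _

end Groth.Agent.H13.NoetherInt

namespace Groth.Agent.H13.NoetherInt

open MvPolynomial Ideal

theorem dim_eq_of_finite_injective {A B : Type*} [CommRing A] [CommRing B] (g : A →+* B)
    (hinj : Function.Injective g) (hfin : g.Finite) : ringKrullDim B = ringKrullDim A := by
  letI := g.toAlgebra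
  have : Module.Finite A B := hfin
  have : Algebra.IsIntegral A B := Algebra.IsIntegral.of_finite A B
  exact Groth.Agent.H14Lib.ringKrullDim_eq_of_isIntegral_of_injective A B hinj

theorem main (k : Type u) [Field k] (n : ℕ) (I : Ideal (MvPolynomial (Fin n) k)) (hI : I ≠ ⊤) :
    (∃ (r : ℕ) (y : Fin r → MvPolynomial (Fin n) k),
      (∀ i, y i ∈ Set.range (MvPolynomial.map (Int.castRingHom k) :
        MvPolynomial (Fin n) ℤ → MvPolynomial (Fin n) k)) ∧
      Function.Injective ((Ideal.Quotient.mkₐ k I).comp (MvPolynomial.aeval y)) ∧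
      ((Ideal.Quotient.mkₐ k I).comp (MvPolynomial.aeval y)).toRingHom.Finite) ∧
    ∀ (r : ℕ) (y : Fin r → MvPolynomial (Fin n) k),
      Function.Injective ((Ideal.Quotient.mkₐ k I).comp (MvPolynomial.aeval y)) →
      ((Ideal.Quotient.mkₐ k I).comp (MvPolynomial.aeval y)).toRingHom.Finite →
      ringKrullDim (MvPolynomial (Fin n) k ⧸ I) = r := by
  have hFT : Algebra.FiniteType k (MvPolynomial (Fin n) k ⧸ I) :=
    (inferInstance : Algebra.FiniteType k (MvPolynomial (Fin n) k)).of_surjective
      (Ideal.Quotient.mkₐ k I) (Quotient.mkₐ_surjective k I)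
  constructor
  · obtain ⟨s, y, hy, hinj, hint⟩ := nn_int k n I hI
    refine ⟨s, y, fun i => hy i, hinj, ?_⟩
    have hft : (algebraMap k (MvPolynomial (Fin n) k ⧸ I)).FiniteType :=
      RingHom.finiteType_algebraMap.mpr hFT
    have h : algebraMap k (MvPolynomial (Fin n) k ⧸ I) =
        ((Ideal.Quotient.mkₐ k I).comp (MvPolynomial.aeval y)).toRingHom.comp
          (algebraMap k (MvPolynomial (Fin s) k)) := by
      ext a
      exact (((Ideal.Quotient.mkₐ k I).comp (MvPolynomial.aeval y)).commutes a).symm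
    exact hint.to_finite ((h ▸ hft).of_comp_finiteType)
  · intro r y hinj hfin
    rw [dim_eq_of_finite_injective _ hinj hfin, MvPolynomial.ringKrullDim_of_isNoetherianRing,
      ringKrullDim_eq_zero_of_field, Nat.card_fin, zero_add]

end Groth.Agent.H13.NoetherInt
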