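import Mathlib.CategoryTheory.FiberedCategory.Fibered
import Mathlib.CategoryTheory.Comma.Over.Basic

set_option autoImplicit false
open CategoryTheory
universe v₁ u₁ v₂ u₂

namespace Groth.Agent.H13

variable {𝒮 : Type u₁} [Category.{v₁} 𝒮] {C : Type u₂} [Category.{v₂} C] {U : C}

/-- A morphism of `𝒮` lifting `f.left` along `p' ⋙ Over.forget U` and with the right target lifts `f` along `p'`. -/
theorem isHomLift_over (p' : 𝒮 ⥤ Over U) {V W : Over U} (f : V ⟶ W) {a b : 𝒮} (φ : a ⟶ b)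
    (hb : p'.obj b = W) [h : (p' ⋙ Over.forget U).IsHomLift f.left φ] : p'.IsHomLift f φ := by
  subst hb
  obtain ⟨Vl, ⟨⟨⟩⟩, Vh⟩ := V
  have ha : (p'.obj a).left = Vl :=
    @IsHomLift.domain_eq _ _ _ _ (p' ⋙ Over.forget U) _ _ _ _ f.left φ h
  subst ha
  have hf : f.left = (p'.map φ).left :=
    @IsHomLift.eq_of_isHomLift _ _ _ _ (p' ⋙ Over.forget U) _ _ f.left φ h
  have hVh : Vh = (p'.obj a).hom := by
    have h1 := Over.w f
    have h2 := Over.w (p'.map φ)
    rw [hf, h2] at h1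
    exact h1.symm
  subst hVh
  have : f = p'.map φ := Over.OverMorphism.ext hf
  rw [this]
  exact IsHomLift.map p' φ

/-- Conversely, a lift of `f` along `p'` lifts `f.left` along `p' ⋙ Over.forget U`. -/
theorem isHomLift_forget (p' : 𝒮 ⥤ Over U) {V W : Over U} (f : V ⟶ W) {a b : 𝒮} (φ : a ⟶ b)
    [h : p'.IsHomLift f φ] : (p' ⋙ Over.forget U).IsHomLift f.left φ := by
  obtain ⟨⟩ := h
  exact IsHomLift.map (p' ⋙ Over.forget U) φ

end Groth.Agent.H13
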