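import Mathlib

/-!
Helper (helper13): order of power series over a field vs. divisibility by powers of `X`.
-/

namespace Groth.Agent.H13.PSOrder

open PowerSeries

variable {k : Type*} [Field k]

theorem le_order_iff_dvd (n : ℕ) (f : PowerSeries k) : (n : ℕ∞) ≤ f.order ↔ (X : PowerSeries k) ^ n ∣ f := by
  rw [X_pow_dvd_iff]
  constructor
  · intro h m hm
    apply coeff_of_lt_order
    exact lt_of_lt_of_le (by exact_mod_cast hm) h
  · intro h
    exact nat_le_order f n h

theorem exists_unit_of_order_eq (l : ℕ) (f : PowerSeries k) (hf : f.order = l) :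
    ∃ u u' : PowerSeries k, u * u' = 1 ∧ f = X ^ l * u := by
  have hne : f ≠ 0 := by
    intro h
    rw [h, order_zero] at hf
    exact ENat.top_ne_natCast l hf
  obtain ⟨u, hu⟩ := isUnit_divided_by_X_pow_order hne
  refine ⟨u, ↑u⁻¹, by simp, ?_⟩
  have h1 := X_pow_order_mul_divXPowOrder (f := f)
  rw [hf, ENat.toNat_natCast] at h1
  rw [hu, h1]

end Groth.Agent.H13.PSOrder
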