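import Mathlib
import Groth.Agent.H29.RegPow

/-!
# Regular sequences on the kernel of a short exact sequence (helper13)
-/

set_option autoImplicit false
universe u v

namespace Groth.Agent.H13.RegSub

open RingTheory.Sequence Function
open scoped Pointwise

/-- If `0 → M₁ → M₂ → M₃ → 0` is exact, `rs ++ [y]` is weakly regular on `M₂` and `rs` is weakly
regular on `M₃`, then `rs ++ [y]` is weakly regular on `M₁`. -/
theorem isWeaklyRegular_sub {R : Type u} [CommRing R] (rs : List R) (y : R) :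
    ∀ {M₁ M₂ M₃ : Type v} [AddCommGroup M₁] [Module R M₁] [AddCommGroup M₂] [Module R M₂]
      [AddCommGroup M₃] [Module R M₃] (f : M₁ →ₗ[R] M₂) (g : M₂ →ₗ[R] M₃),
      Injective f → Exact f g → Surjective g →
      IsWeaklyRegular M₂ (rs ++ [y]) → IsWeaklyRegular M₃ rs →
      IsWeaklyRegular M₁ (rs ++ [y]) := by
  induction rs with
  | nil =>
    intro M₁ M₂ M₃ _ _ _ _ _ _ f g hf hfg hg h2 _
    rw [List.nil_append, isWeaklyRegular_cons_iff] at h2 ⊢
    exact ⟨IsSMulRegular.of_injective f hf h2.1, IsWeaklyRegular.nil _ _⟩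
  | cons r rs ih =>
    intro M₁ M₂ M₃ _ _ _ _ _ _ f g hf hfg hg h2 h3
    rw [List.cons_append, isWeaklyRegular_cons_iff] at h2 ⊢
    rw [isWeaklyRegular_cons_iff] at h3
    refine ⟨IsSMulRegular.of_injective f hf h2.1, ?_⟩
    refine ih (QuotSMulTop.map r f) (QuotSMulTop.map r g) ?_ (QuotSMulTop.map_exact r hfg hg)
      (QuotSMulTop.map_surjective r hg) h2.2 h3.2
    have h0 : Exact (0 : PUnit.{v+1} →ₗ[R] M₁) f :=
      (LinearMap.exact_zero_iff_injective PUnit.{v+1} f).mpr hf
    have := QuotSMulTop.map_first_exact_on_four_term_exact_of_isSMulRegular_last h0 hfg h3.1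
    rw [map_zero] at this
    exact (LinearMap.exact_zero_iff_injective _ _).mp this

section Quot

variable {A : Type u} [CommRing A] (I J : Ideal A)

/-- `A/(I ∩ J) → A/I × A/J`. -/
noncomputable def φ : (A ⧸ (I ⊓ J)) →ₗ[A] (A ⧸ I) × (A ⧸ J) :=
  (Submodule.mapQ (I ⊓ J) I LinearMap.id (fun _ hx => hx.1)).prod
    (Submodule.mapQ (I ⊓ J) J LinearMap.id (fun _ hx => hx.2))

/-- `A/I × A/J → A/(I + J)`, the difference. -/
noncomputable def ψ : (A ⧸ I) × (A ⧸ J) →ₗ[A] (A ⧸ (I ⊔ J)) :=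
  (Submodule.mapQ I (I ⊔ J) LinearMap.id (fun _ hx => Submodule.mem_sup_left hx)).coprod
    (-(Submodule.mapQ J (I ⊔ J) LinearMap.id (fun _ hx => Submodule.mem_sup_right hx)))

theorem φ_mk (a : A) : φ I J (Submodule.Quotient.mk a) =
    (Submodule.Quotient.mk a, Submodule.Quotient.mk a) := rfl

theorem ψ_mk (a b : A) : ψ I J (Submodule.Quotient.mk a, Submodule.Quotient.mk b) =
    Submodule.Quotient.mk (a - b) := by
  simp [ψ, sub_eq_add_neg]

theorem φ_injective : Injective (φ I J) := by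
  rw [injective_iff_map_eq_zero]
  intro x hx
  obtain ⟨a, rfl⟩ := Submodule.Quotient.mk_surjective _ x
  rw [φ_mk] at hx
  have h1 : (Submodule.Quotient.mk a : A ⧸ I) = 0 := congrArg Prod.fst hx
  have h2 : (Submodule.Quotient.mk a : A ⧸ J) = 0 := congrArg Prod.snd hx
  rw [Submodule.Quotient.mk_eq_zero] at h1 h2
  exact (Submodule.Quotient.mk_eq_zero _).mpr ⟨h1, h2⟩

theorem ψ_surjective : Surjective (ψ I J) := by
  intro z
  obtain ⟨a, rfl⟩ := Submodule.Quotient.mk_surjective _ z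
  refine ⟨(Submodule.Quotient.mk a, Submodule.Quotient.mk 0), ?_⟩
  rw [ψ_mk, sub_zero]

theorem exact_φ_ψ : Exact (φ I J) (ψ I J) := by
  intro z
  constructor
  · intro hz
    obtain ⟨z1, z2⟩ := z
    obtain ⟨a, rfl⟩ := Submodule.Quotient.mk_surjective _ z1
    obtain ⟨b, rfl⟩ := Submodule.Quotient.mk_surjective _ z2
    rw [ψ_mk, Submodule.Quotient.mk_eq_zero] at hz
    obtain ⟨i, hi, j, hj, hij⟩ := Submodule.mem_sup.mp hz
    refine ⟨Submodule.Quotient.mk (a - i), ?_⟩
    rw [φ_mk]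
    refine Prod.ext ?_ ?_
    · show (Submodule.Quotient.mk (a - i) : A ⧸ I) = Submodule.Quotient.mk a
      rw [Submodule.Quotient.eq]
      have : a - i - a = -i := by ring
      rw [this]
      exact I.neg_mem hi
    · show (Submodule.Quotient.mk (a - i) : A ⧸ J) = Submodule.Quotient.mk b
      rw [Submodule.Quotient.eq]
      have : a - i - b = j := by linear_combination -hij
      rw [this]
      exact hj
  · rintro ⟨x, rfl⟩
    obtain ⟨a, rfl⟩ := Submodule.Quotient.mk_surjective _ x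
    rw [φ_mk, ψ_mk, sub_self]
    rfl

end Quot

end Groth.Agent.H13.RegSub
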