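import Mathlib
import Groth.Prelude.Def_CAlg
import Groth.Agent.H29.SkLib
import Groth.Agent.H29.DepthLocal
import Groth.Agent.H29.Depth
import Groth.Agent.H29.DepthLib
import Groth.Agent.H29.DepthFinite
import Groth.Agent.H29.ReducedR0S1
import Groth.Agent.H29.RegLocal2
import Groth.Agent.S2111

/-!
# Serre's normality criterion (helper13)
-/

set_option autoImplicit false
set_option linter.style.haveILetI false
universe u

namespace Groth.Agent.H13.Serre

open Groth.Agent.H29 IsLocalRing Polynomial

/-- depth of a local ring over itself is invariant under ring isomorphisms -/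
theorem depth_self_of_ringEquiv {A B : Type u} [CommRing A] [CommRing B] [IsLocalRing A]
    [IsLocalRing B] [IsNoetherianRing A] [IsNoetherianRing B] (e : A ≃+* B) :
    LocCoh.depth A A = LocCoh.depth B B := by
  letI : Algebra A B := e.toRingHom.toAlgebra
  haveI : IsLocalHom (algebraMap A B) := ⟨fun a ha => by
    rw [RingHom.algebraMap_toAlgebra] at ha
    have h2 : IsUnit (e.symm (e a)) := (show IsUnit (e a) from ha).map e.symm
    simpa using h2⟩
  haveI : Module.Finite A B := Module.Finite.of_surjective (Algebra.linearMap A B) e.surjective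
  have h1 : LocCoh.depth A B = LocCoh.depth B B := depth_eq_depth_of_isLocalHom A B B
  have h2 : LocCoh.depth A A = LocCoh.depth A B :=
    idealDepth_congr _ (LinearEquiv.ofBijective (Algebra.linearMap A B) e.bijective)
  rw [h2, h1]

/-- a regular local ring of dimension at most one is a normal domain -/
theorem normal_of_regular_dim_le_one (A : Type u) [CommRing A] [IsRegularLocalRing A]
    (h : ringKrullDim A ≤ 1) : IsDomain A ∧ IsIntegrallyClosed A := by
  haveI : IsDomain A := isDomain_of_isRegularLocalRing A
  refine ⟨inferInstance, ?_⟩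
  have hs := IsRegularLocalRing.spanFinrank_maximalIdeal (R := A)
  have hle : (maximalIdeal A).spanFinrank ≤ 1 := by
    rw [← hs] at h
    exact_mod_cast h
  have hprin : (maximalIdeal A).IsPrincipal := by
    rcases Nat.le_one_iff_eq_zero_or_eq_one.mp hle with h0 | h1
    · rw [Submodule.spanFinrank_eq_zero_iff_eq_bot (IsNoetherian.noetherian _)] at h0
      rw [h0]
      infer_instance
    · exact ((Submodule.spanFinrank_eq_one_iff _).mp h1).1
  haveI : IsPrincipalIdealRing A :=
    ((tfae_of_isNoetherianRing_of_isLocalRing_of_isDomain A).out 4 0).mp hprin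
  infer_instance

/-- under `(R_1)` and `(S_2)`, a localization of depth one is a normal domain -/
theorem normal_of_depth_one (R : Type u) [CommRing R] [IsNoetherianRing R]
    (h1 : LocCoh.HasRk 1 R) (h2 : LocCoh.HasSk 2 R R) (P : Ideal R) [P.IsPrime]
    (hd : LocCoh.depth (Localization.AtPrime P) (Localization.AtPrime P) = 1) :
    IsDomain (Localization.AtPrime P) ∧ IsIntegrallyClosed (Localization.AtPrime P) := by
  have hS := h2 P
  rw [supportDim_localizedModule_self, depth_localizedModule_self, hd] at hS
  have hdim : ringKrullDim (Localization.AtPrime P) ≤ 1 := by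
    rcases min_le_iff.mp hS with h | h
    · exfalso
      have h' : ((2 : ℕ∞) : WithBot ℕ∞) ≤ ((1 : ℕ∞) : WithBot ℕ∞) := h
      rw [WithBot.coe_le_coe] at h'
      have : (2 : ℕ) ≤ 1 := by exact_mod_cast h'
      omega
    · exact_mod_cast h
  have hht : P.height ≤ 1 := by
    rw [IsLocalization.AtPrime.ringKrullDim_eq_height P (Localization.AtPrime P)] at hdim
    exact_mod_cast hdim
  haveI := h1 P (by exact_mod_cast hht)
  exact normal_of_regular_dim_le_one _ hdim

/-- divisibility can be tested at the primes of depth one -/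
theorem dvd_of_forall_depth_one (L : Type u) [CommRing L] [IsNoetherianRing L] (a b : L)
    (hb : b ∈ nonZeroDivisors L)
    (h : ∀ (P : Ideal L) [P.IsPrime],
      LocCoh.depth (Localization.AtPrime P) (Localization.AtPrime P) = 1 →
      algebraMap L (Localization.AtPrime P) b ∣ algebraMap L (Localization.AtPrime P) a) :
    b ∣ a := by
  classical
  by_contra hdvd
  set y : QuotSMulTop b L := Submodule.Quotient.mk a with hy
  have hy0 : y ≠ 0 := by
    intro h0
    rw [hy, Submodule.Quotient.mk_eq_zero] at h0
    obtain ⟨c, -, hc⟩ := (Submodule.mem_smul_pointwise_iff_exists _ _ _).mp h0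
    exact hdvd ⟨c, by simpa using hc.symm⟩
  obtain ⟨p, hp, hle⟩ := exists_le_isAssociatedPrime_of_isNoetherianRing L y hy0
  have hpp := hp.isPrime
  have hcol : ∀ s u : L, s * a = b * u → s ∈ p := by
    intro s u hsu
    apply hle
    rw [Submodule.mem_colon_singleton, Submodule.mem_bot, hy, ← Submodule.Quotient.mk_smul,
      Submodule.Quotient.mk_eq_zero, smul_eq_mul, hsu]
    exact Submodule.smul_mem_pointwise_smul u b ⊤ Submodule.mem_top
  have hbp : b ∈ p := hcol b a (mul_comm b a ▸ rfl)
  have h1 : IsLocalRing.maximalIdeal (Localization.AtPrime p) ∈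
      associatedPrimes (Localization.AtPrime p) (LocalizedModule.AtPrime p (QuotSMulTop b L)) :=
    Module.associatedPrimes.mem_associatedPrimes_atPrime_of_mem_associatedPrimes hp
  have h2 : LocCoh.depth (Localization.AtPrime p)
      (LocalizedModule p.primeCompl (QuotSMulTop b L)) = 0 :=
    (depth_eq_zero_iff_mem_ass _ _).mpr h1
  have e := quotSMulTopLocalizedEquiv L L p b
  have h3 : LocCoh.depth (Localization.AtPrime p)
      (QuotSMulTop (algebraMap L (Localization.AtPrime p) b)
        (LocalizedModule p.primeCompl L)) = 0 := by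
    rw [← h2]
    exact idealDepth_congr _ e
  have : Module.Flat L (Localization.AtPrime p) :=
    IsLocalization.flat (Localization.AtPrime p) p.primeCompl
  have hregA : IsSMulRegular L b := Module.Flat.isSMulRegular_of_nonZeroDivisors hb
  have hreg : IsSMulRegular (LocalizedModule p.primeCompl L)
      (algebraMap L (Localization.AtPrime p) b) :=
    hregA.of_flat_of_isBaseChange (IsLocalizedModule.isBaseChange p.primeCompl
      (Localization.AtPrime p) (LocalizedModule.mkLinearMap p.primeCompl L))
  have hxm : algebraMap L (Localization.AtPrime p) b ∈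
      IsLocalRing.maximalIdeal (Localization.AtPrime p) :=
    (IsLocalization.AtPrime.to_map_mem_maximal_iff (Localization.AtPrime p) p b).mpr hbp
  have : Nontrivial (LocalizedModule p.primeCompl L) :=
    ((IsLocalizedModule.linearEquiv p.primeCompl (LocalizedModule.mkLinearMap p.primeCompl L)
      (Algebra.linearMap L (Localization.AtPrime p)))).toEquiv.nontrivial
  have h4 := depth_quotSMulTop_add_one (Localization.AtPrime p)
    (LocalizedModule p.primeCompl L) _ hxm hreg
  rw [h3, zero_add, depth_localizedModule_self] at h4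
  obtain ⟨z, hz⟩ := h p h4.symm
  obtain ⟨u, s, rfl⟩ := IsLocalization.exists_mk'_eq p.primeCompl z
  have h5 : algebraMap L (Localization.AtPrime p) (s * a) =
      algebraMap L (Localization.AtPrime p) (b * u) := by
    rw [map_mul, map_mul, hz, ← IsLocalization.mk'_spec (Localization.AtPrime p) u s]
    ring
  obtain ⟨t, ht⟩ := (IsLocalization.eq_iff_exists p.primeCompl (Localization.AtPrime p)).mp h5
  have h6 : (t : L) * s ∈ p := hcol (t * s) (t * u) (by linear_combination ht)
  exact (t * s).2 (by simpa using h6)

/-- a reduced Noetherian local ring in which `a * a = a * b` forces `b ∣ a` (for nonzerodivisors `b`)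
is a domain -/
theorem isDomain_of_local_reduced (L : Type u) [CommRing L] [IsNoetherianRing L] [IsLocalRing L]
    [IsReduced L]
    (hdiv : ∀ a b : L, b ∈ nonZeroDivisors L → a * a = a * b → b ∣ a) : IsDomain L := by
  classical
  obtain ⟨q, hq⟩ := associatedPrimes.nonempty L L
  obtain ⟨hqp, y, hy⟩ := isAssociatedPrime_iff.mp hq
  have hqy : ∀ r : L, r ∈ q ↔ r * y = 0 := by
    intro r
    rw [hy, Submodule.mem_colon_singleton, Submodule.mem_bot, smul_eq_mul]
  have hy0 : y ≠ 0 := by
    intro h0
    apply hqp.ne_top
    rw [Ideal.eq_top_iff_one, hqy, h0, mul_zero]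
  set K : Ideal L := Module.annihilator L q with hK
  have hKmem : ∀ r : L, r ∈ K ↔ ∀ x ∈ q, r * x = 0 := by
    intro r
    rw [hK, Module.mem_annihilator]
    constructor
    · intro h x hx
      have h' := h ⟨x, hx⟩
      simpa [Subtype.ext_iff] using h'
    · intro h x
      apply Subtype.ext
      simpa using h x.1 x.2
  have hex : ∃ z ∈ q ⊔ K, z ∈ nonZeroDivisors L := by
    by_contra hcon
    push_neg at hcon
    have hdisj : Disjoint ((q ⊔ K : Ideal L) : Set L) (nonZeroDivisors L) := by
      rw [Set.disjoint_left]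
      intro z hz hz'
      exact hcon z hz hz'
    have hlt := Ideal.bot_lt_annihilator_of_disjoint_nonZeroDivisors hdisj
    obtain ⟨w, hw, hw0⟩ := SetLike.exists_of_lt hlt
    rw [Module.mem_annihilator] at hw
    have hw1 : ∀ x ∈ q ⊔ K, w * x = 0 := by
      intro x hx
      have h' := hw ⟨x, hx⟩
      simpa [Subtype.ext_iff] using h'
    have hwK : w ∈ K := (hKmem w).mpr fun x hx => hw1 x (Ideal.mem_sup_left hx)
    have hww : w * w = 0 := hw1 w (Ideal.mem_sup_right hwK)
    have hw2 : w = 0 := by
      have hnil : IsNilpotent w := ⟨2, by rw [pow_two]; exact hww⟩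
      exact hnil.eq_zero
    exact hw0 (by rw [hw2]; exact Submodule.zero_mem _)
  obtain ⟨z, hz, hznzd⟩ := hex
  obtain ⟨a₁, ha₁, a₂, ha₂, hz12⟩ := Submodule.mem_sup.mp hz
  have h12 : a₂ * a₁ = 0 := (hKmem a₂).mp ha₂ a₁ ha₁
  have h3 : a₁ * a₁ = a₁ * z := by
    rw [← hz12]
    linear_combination (-1 : L) * h12
  obtain ⟨c, hc⟩ := hdiv a₁ z hznzd h3
  have h4 : z * (z * (c * (1 - c))) = 0 := by
    have h4' : z * (z * (c * (1 - c))) = (z * c) * z - (z * c) * (z * c) := by ring
    rw [h4', ← hc, h3, sub_self]
  have h5 := (mul_left_mem_nonZeroDivisors_eq_zero_iff hznzd).mp h4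
  have hcc : c * (1 - c) = 0 := (mul_left_mem_nonZeroDivisors_eq_zero_iff hznzd).mp h5
  rcases IsLocalRing.isUnit_or_isUnit_one_sub_self c with hu | hu
  · exfalso
    have h6 : 1 - c = 0 := hu.mul_right_eq_zero.mp hcc
    have h7 : c = 1 := (sub_eq_zero.mp h6).symm
    rw [h7, mul_one] at hc
    rw [hc] at ha₁
    have h8 := (hqy z).mp ha₁
    exact hy0 ((mul_left_mem_nonZeroDivisors_eq_zero_iff hznzd).mp h8)
  · have h6 : c = 0 := hu.mul_left_eq_zero.mp hcc
    rw [h6, mul_zero] at hc
    have hzK : z ∈ K := by
      rw [← hz12, hc, zero_add]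
      exact ha₂
    have hqbot : q = ⊥ := by
      rw [eq_bot_iff]
      intro x hx
      have h7 := (hKmem z).mp hzK x hx
      exact (Submodule.mem_bot L).mpr ((mul_left_mem_nonZeroDivisors_eq_zero_iff hznzd).mp h7)
    haveI : (⊥ : Ideal L).IsPrime := hqbot ▸ hqp
    exact IsDomain.of_bot_isPrime L

/-- a domain in which every "integral fraction" `a / b` is an honest element is integrally closed -/
theorem isIntegrallyClosed_of_dvd (L : Type u) [CommRing L] [IsDomain L]
    (hdiv : ∀ (a b : L) (f : L[X]), b ≠ 0 → f.Monic → (f.scaleRoots b).eval a = 0 → b ∣ a) :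
    IsIntegrallyClosed L := by
  rw [isIntegrallyClosed_iff (FractionRing L)]
  intro x hx
  obtain ⟨f, hf, hfx⟩ := hx
  obtain ⟨a, b, hb, rfl⟩ := IsFractionRing.div_surjective (A := L) x
  have hb0 : b ≠ 0 := nonZeroDivisors.ne_zero hb
  have hinj : Function.Injective (algebraMap L (FractionRing L)) := IsFractionRing.injective L _
  have h1 := scaleRoots_eval₂_eq_zero_of_eval₂_div_eq_zero hinj hfx hb
  rw [eval₂_at_apply] at h1
  have h2 : (f.scaleRoots b).eval a = 0 := hinj (by rw [h1, map_zero])
  obtain ⟨c, hc⟩ := hdiv a b f hb0 hf h2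
  refine ⟨c, ?_⟩
  have hb' : algebraMap L (FractionRing L) b ≠ 0 := fun h => hb0 (hinj (by rw [h, map_zero]))
  rw [hc, map_mul]
  field_simp

/-- in a normal domain, an "integral fraction" `a / b` is an honest element -/
theorem dvd_of_isIntegrallyClosed (A : Type u) [CommRing A] [IsDomain A] [IsIntegrallyClosed A]
    (a b : A) (f : A[X]) (hb0 : b ≠ 0) (hf : f.Monic) (h : (f.scaleRoots b).eval a = 0) :
    b ∣ a := by
  set φ := algebraMap A (FractionRing A) with hφ
  have hφinj : Function.Injective φ := IsFractionRing.injective _ _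
  have hφb : φ b ≠ 0 := fun h => hb0 (hφinj (by rw [h, map_zero]))
  have e1 : φ b * (φ a / φ b) = φ a := by field_simp
  have h2 : eval₂ φ (φ b * (φ a / φ b)) (f.scaleRoots b) = 0 := by
    rw [e1, eval₂_at_apply, h, map_zero]
  rw [scaleRoots_eval₂_mul] at h2
  have h3 : eval₂ φ (φ a / φ b) f = 0 := by
    rcases mul_eq_zero.mp h2 with h | h
    · exact absurd h (pow_ne_zero _ hφb)
    · exact h
  have hint : IsIntegral A (φ a / φ b) := ⟨f, hf, h3⟩
  obtain ⟨y, hy⟩ := IsIntegrallyClosed.algebraMap_eq_of_integral hint
  refine ⟨y, hφinj ?_⟩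
  rw [map_mul]
  change φ a = φ b * algebraMap _ _ y
  rw [hy, e1]

/-- a reduced Noetherian local ring whose localizations of depth one are normal domains is a
normal domain -/
theorem local_main (L : Type u) [CommRing L] [IsNoetherianRing L] [IsLocalRing L] [IsReduced L]
    (hN : ∀ (P : Ideal L) [P.IsPrime],
      LocCoh.depth (Localization.AtPrime P) (Localization.AtPrime P) = 1 →
      IsDomain (Localization.AtPrime P) ∧ IsIntegrallyClosed (Localization.AtPrime P)) :
    IsDomain L ∧ IsIntegrallyClosed L := by
  have hdom : IsDomain L := by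
    apply isDomain_of_local_reduced L
    intro a b hb hab
    apply dvd_of_forall_depth_one L a b hb
    intro P _ hd
    obtain ⟨hD, -⟩ := hN P hd
    have hab' : algebraMap L (Localization.AtPrime P) a * algebraMap L (Localization.AtPrime P) a =
        algebraMap L (Localization.AtPrime P) a * algebraMap L (Localization.AtPrime P) b := by
      rw [← map_mul, ← map_mul, hab]
    by_cases h0 : algebraMap L (Localization.AtPrime P) a = 0
    · rw [h0]
      exact dvd_zero _
    · have h1 := mul_left_cancel₀ h0 hab'
      rw [h1]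
  refine ⟨hdom, ?_⟩
  apply isIntegrallyClosed_of_dvd L
  intro a b f hb0 hf hfa
  have hb : b ∈ nonZeroDivisors L := mem_nonZeroDivisors_of_ne_zero hb0
  apply dvd_of_forall_depth_one L a b hb
  intro P _ hd
  obtain ⟨hD, hIC⟩ := hN P hd
  set g := algebraMap L (Localization.AtPrime P) with hg
  have hginj : Function.Injective g :=
    IsLocalization.injective (Localization.AtPrime P) P.primeCompl_le_nonZeroDivisors
  have hgb0 : g b ≠ 0 := fun h => hb0 (hginj (by rw [h, map_zero]))
  have h1 : ((f.map g).scaleRoots (g b)).eval (g a) = 0 := by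
    rw [← map_scaleRoots f b g (by rw [hf.leadingCoeff, map_one]; exact one_ne_zero), eval_map,
      eval₂_at_apply, hfa, map_zero]
  haveI := hD
  haveI := hIC
  exact dvd_of_isIntegrallyClosed (Localization.AtPrime P) (g a) (g b) (f.map g) hgb0 (hf.map g) h1

end Groth.Agent.H13.Serre
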