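import Mathlib
import Groth.Agent.H13.TorBal
import Groth.Prelude.Def_DRing2

/-!
# Tor via flat resolutions and base change (helpers for S3534, S3537, S4494)
-/

set_option autoImplicit false
universe u

namespace Groth.Agent.H13.TorBC

open TensorProduct CategoryTheory Function
open Groth.Agent.H13.TorBal

section Cat

variable {A : Type u} [CommRing A]

/-- `Tor_{m+1}(M, N)` through a Mathlib projective resolution `Q` of the second variable. -/
theorem tor_succ_ker_right (M N : ModuleCat.{u} A) (Q : ProjectiveResolution N) (m : ℕ) :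
    Nonempty (((Tor (ModuleCat.{u} A) (m + 1)).obj M).obj N ≅
      ModuleCat.of A (LinearMap.ker ((LinearMap.range (dd Q m)).subtype.lTensor M))) := by
  let FL := (MonoidalCategory.tensoringLeft (ModuleCat.{u} A)).obj M
  let KL := (FL.mapHomologicalComplex (ComplexShape.down ℕ)).obj Q.complex
  have e0 : ((Tor (ModuleCat.{u} A) (m + 1)).obj M).obj N ≅ KL.homology (m + 1) :=
    Q.isoLeftDerivedObj FL (m + 1)
  have eL := KL.homologyIsoSc' (m + 2) (m + 1) m (by simp) (by simp)
  obtain ⟨eL'⟩ := sc_homology_iso (KL.sc' (m + 2) (m + 1) m)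
    ((dd Q m).rangeRestrict.lTensor M) ((LinearMap.range (dd Q m)).subtype.lTensor M)
    (LinearMap.lTensor_surjective _ (LinearMap.surjective_rangeRestrict _))
    (lTensor_exact M (f := dd Q (m + 1)) (g := (dd Q m).rangeRestrict) (by
        rw [LinearMap.exact_iff, LinearMap.ker_rangeRestrict]
        exact LinearMap.exact_iff.1 (exact_dd Q m)) (LinearMap.surjective_rangeRestrict _))
    (by
      have h : LinearMap.lTensor (↑M) (dd Q m) = (LinearMap.range (dd Q m)).subtype.lTensor ↑M ∘ₗ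
          (dd Q m).rangeRestrict.lTensor ↑M := by
        rw [← LinearMap.lTensor_comp, TorFlat.subtype_comp_rangeRestrict]
      exact h)
  exact ⟨e0 ≪≫ eL ≪≫ eL'⟩

theorem tor_zero (M N : ModuleCat.{u} A) :
    Nonempty (((Tor (ModuleCat.{u} A) 0).obj M).obj N ≅ ModuleCat.of A (↑M ⊗[A] ↑N)) := by
  let Q : ProjectiveResolution N := ProjectiveResolution.of N
  let FL := (MonoidalCategory.tensoringLeft (ModuleCat.{u} A)).obj M
  let KL := (FL.mapHomologicalComplex (ComplexShape.down ℕ)).obj Q.complex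
  have e0 : ((Tor (ModuleCat.{u} A) 0).obj M).obj N ≅ KL.homology 0 := Q.isoLeftDerivedObj FL 0
  have eL := KL.homologyIsoSc' 1 0 0 (by simp) (by simp)
  obtain ⟨eL'⟩ := sc_homology_iso_zero (KL.sc' 1 0 0) (W := ↑M ⊗[A] ↑N) ((aug Q).lTensor M)
    (LinearMap.lTensor_surjective _ (aug_surjective Q))
    (lTensor_exact M (exact_aug Q) (aug_surjective Q))
    (by
      show (KL.d 0 0).hom = 0
      rw [KL.shape 0 0 (by simp)]; rfl)
  exact ⟨e0 ≪≫ eL ≪≫ eL'⟩

end Cat

section Mod

variable {R : Type u} [CommRing R]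

/-- kernels of intertwined maps are equivalent -/
def kerEquiv {U U' V V' : Type u} [AddCommGroup U] [Module R U] [AddCommGroup U'] [Module R U']
    [AddCommGroup V] [Module R V] [AddCommGroup V'] [Module R V']
    (c : U ≃ₗ[R] U') (c₂ : V ≃ₗ[R] V') (j : U →ₗ[R] V) (j' : U' →ₗ[R] V')
    (h : ∀ x, j' (c x) = c₂ (j x)) : LinearMap.ker j ≃ₗ[R] LinearMap.ker j' where
  toFun x := ⟨c x.1, by
    rw [LinearMap.mem_ker, h, LinearMap.mem_ker.1 x.2, map_zero]⟩
  invFun y := ⟨c.symm y.1, by
    rw [LinearMap.mem_ker]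
    apply c₂.injective
    rw [← h, c.apply_symm_apply, LinearMap.mem_ker.1 y.2, map_zero]⟩
  map_add' x y := Subtype.ext (by simp)
  map_smul' a x := Subtype.ext (by simp)
  left_inv x := Subtype.ext (by simp)
  right_inv y := Subtype.ext (by simp)

variable {M N : Type u} [AddCommGroup M] [Module R M] [AddCommGroup N] [Module R N]

/-- Flat resolutions of the second variable compute `Tor`. -/
theorem tor_succ_equiv₂ (Z : ℕ → Type u) [∀ n, AddCommGroup (Z n)] [∀ n, Module R (Z n)]
    [∀ n, Module.Flat R (Z n)] (δ : ∀ n, Z (n + 1) →ₗ[R] Z n) (η : Z 0 →ₗ[R] N)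
    (hη : Surjective η) (h0 : Exact (δ 0) η) (hd : ∀ n, Exact (δ (n + 1)) (δ n))
    (m : ℕ) {W : Type u} [AddCommGroup W] [Module R W] (π : Z (m + 1) →ₗ[R] W)
    (ι : W →ₗ[R] Z m) (hπ : Surjective π) (hι : Injective ι) (hfac : δ m = ι ∘ₗ π) :
    Nonempty (DRing.Tor R (m + 1) M N ≃ₗ[R] LinearMap.ker (ι.lTensor M)) := by
  let Q : ProjectiveResolution (ModuleCat.of R N) := ProjectiveResolution.of _
  let P : ProjectiveResolution (ModuleCat.of R M) := ProjectiveResolution.of _
  have : ∀ n, Module.Flat R ↑(P.complex.X n) := flat_X P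
  have : ∀ n, Module.Flat R ↑(Q.complex.X n) := flat_X Q
  obtain ⟨e1⟩ := tor_succ_ker_right (ModuleCat.of R M) (ModuleCat.of R N) Q m
  obtain ⟨c1⟩ := claim (fun n => ↑(P.complex.X n)) (dd P) (aug P) (aug_surjective P)
    (exact_aug P) (exact_dd P) m
    (fun n => ↑(Q.complex.X n)) (dd Q) N (aug Q) (aug_surjective Q) (exact_aug Q) (exact_dd Q)
  obtain ⟨c2⟩ := claim (fun n => ↑(P.complex.X n)) (dd P) (aug P) (aug_surjective P)
    (exact_aug P) (exact_dd P) m Z δ N η hη h0 hd
  have hrange : LinearMap.range ι = LinearMap.range (δ m) := by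
    rw [hfac, LinearMap.range_comp_of_range_eq_top _ (LinearMap.range_eq_top.2 hπ)]
  let eW : W ≃ₗ[R] LinearMap.range (δ m) :=
    (LinearEquiv.ofInjective ι hι).trans (LinearEquiv.ofEq _ _ hrange)
  let k : LinearMap.ker (ι.lTensor M) ≃ₗ[R]
      LinearMap.ker ((LinearMap.range (δ m)).subtype.lTensor M) :=
    kerEquiv (eW.lTensor M) (LinearEquiv.refl R _) _ _ (by
      intro x
      have : (LinearMap.range (δ m)).subtype.lTensor M ∘ₗ (eW.lTensor M).toLinearMap =
          ι.lTensor M := by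
        rw [LinearEquiv.coe_lTensor, ← LinearMap.lTensor_comp]
        congr 1
      exact LinearMap.congr_fun this x)
  exact ⟨e1.toLinearEquiv.trans (c1.symm.trans (c2.trans k.symm))⟩

/-- Flat resolutions of the first variable compute `Tor`. -/
theorem tor_succ_equiv₁ (X : ℕ → Type u) [∀ n, AddCommGroup (X n)] [∀ n, Module R (X n)]
    [∀ n, Module.Flat R (X n)] (d : ∀ n, X (n + 1) →ₗ[R] X n) (ε : X 0 →ₗ[R] M)
    (hε : Surjective ε) (h0 : Exact (d 0) ε) (hd : ∀ n, Exact (d (n + 1)) (d n))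
    (m : ℕ) {W : Type u} [AddCommGroup W] [Module R W] (π : X (m + 1) →ₗ[R] W)
    (ι : W →ₗ[R] X m) (hπ : Surjective π) (hι : Injective ι) (hfac : d m = ι ∘ₗ π) :
    Nonempty (DRing.Tor R (m + 1) M N ≃ₗ[R] LinearMap.ker (ι.rTensor N)) := by
  let Q : ProjectiveResolution (ModuleCat.of R N) := ProjectiveResolution.of _
  have : ∀ n, Module.Flat R ↑(Q.complex.X n) := flat_X Q
  obtain ⟨e1⟩ := tor_succ_ker_right (ModuleCat.of R M) (ModuleCat.of R N) Q m
  obtain ⟨c1⟩ := claim X d ε hε h0 hd m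
    (fun n => ↑(Q.complex.X n)) (dd Q) N (aug Q) (aug_surjective Q) (exact_aug Q) (exact_dd Q)
  have hrange : LinearMap.range ι = LinearMap.range (d m) := by
    rw [hfac, LinearMap.range_comp_of_range_eq_top _ (LinearMap.range_eq_top.2 hπ)]
  let eW : W ≃ₗ[R] LinearMap.range (d m) :=
    (LinearEquiv.ofInjective ι hι).trans (LinearEquiv.ofEq _ _ hrange)
  let k : LinearMap.ker (ι.rTensor N) ≃ₗ[R]
      LinearMap.ker ((LinearMap.range (d m)).subtype.rTensor N) :=
    kerEquiv (eW.rTensor N) (LinearEquiv.refl R _) _ _ (by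
      intro x
      have : (LinearMap.range (d m)).subtype.rTensor N ∘ₗ (eW.rTensor N).toLinearMap =
          ι.rTensor N := by
        rw [LinearEquiv.coe_rTensor, ← LinearMap.rTensor_comp]
        congr 1
      exact LinearMap.congr_fun this x)
  exact ⟨e1.toLinearEquiv.trans (c1.symm.trans k.symm)⟩

theorem tor_zero_equiv : Nonempty (DRing.Tor R 0 M N ≃ₗ[R] M ⊗[R] N) := by
  obtain ⟨e⟩ := tor_zero (ModuleCat.of R M) (ModuleCat.of R N)
  exact ⟨e.toLinearEquiv⟩

end Mod

section BC

/-- Lemma C: swapping the two tensor factors. -/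
noncomputable def kerComm {R : Type u} [CommRing R] {U V : Type u} (Y : Type u)
    [AddCommGroup U] [Module R U] [AddCommGroup V] [Module R V]
    [AddCommGroup Y] [Module R Y] (ι : U →ₗ[R] V) :
    LinearMap.ker (ι.rTensor Y) ≃ₗ[R] LinearMap.ker (ι.lTensor Y) :=
  kerEquiv (TensorProduct.comm R U Y) (TensorProduct.comm R V Y) _ _ (by
    intro x
    induction x using TensorProduct.induction_on with
    | zero => simp
    | tmul u y => simp
    | add a b ha hb => rw [map_add, map_add, map_add, map_add, ha, hb])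

variable {A A' : Type u} [CommRing A] [CommRing A'] [Algebra A A']

/-- an `A'`-linear map out of a module with compatible `A`-structure is semilinear -/
def semilinOfTower {X X' : Type u} [AddCommGroup X] [Module A X] [Module A' X]
    [IsScalarTower A A' X] [AddCommGroup X'] [Module A' X'] (c : X →ₗ[A'] X') :
    X →ₛₗ[algebraMap A A'] X' where
  toFun := c
  map_add' := c.map_add
  map_smul' a x := by
    show c (a • x) = algebraMap A A' a • c x
    rw [← algebraMap_smul A' a x, map_smul]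

theorem exists_semilin_bij {T K K' T' : Type u} [AddCommGroup T] [Module A T] [AddCommGroup K]
    [Module A K] [AddCommGroup K'] [Module A' K'] [AddCommGroup T'] [Module A' T']
    (e₁ : T ≃ₗ[A] K) (φ : K →ₛₗ[algebraMap A A'] K') (hφ : Bijective φ) (e₂ : K' ≃ₗ[A'] T') :
    ∃ ψ : T →ₛₗ[algebraMap A A'] T', Bijective ψ :=
  ⟨(e₂.toLinearMap).comp (φ.comp e₁.toLinearMap), by
    have : ⇑((e₂.toLinearMap).comp (φ.comp e₁.toLinearMap)) = e₂ ∘ φ ∘ e₁ := rfl
    rw [this]
    exact e₂.bijective.comp (hφ.comp e₁.bijective)⟩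

section Phi

variable {Y : Type u} [AddCommGroup Y] [Module A' Y] [Module A Y] [IsScalarTower A A' Y]
  {U V : Type u} [AddCommGroup U] [Module A U] [AddCommGroup V] [Module A V]

theorem cancel_nat (ι : U →ₗ[A] V) (t : Y ⊗[A'] (A' ⊗[A] U)) :
    (TensorProduct.AlgebraTensorModule.cancelBaseChange A A' A' Y V)
        (((ι.baseChange A').lTensor Y) t) =
      (ι.lTensor Y) ((TensorProduct.AlgebraTensorModule.cancelBaseChange A A' A' Y U) t) := by
  induction t using TensorProduct.induction_on with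
  | zero => simp
  | tmul n y =>
    induction y using TensorProduct.induction_on with
    | zero => simp
    | tmul a x => simp
    | add y₁ y₂ h₁ h₂ =>
      rw [TensorProduct.tmul_add, map_add, map_add, map_add, map_add, h₁, h₂]
  | add t₁ t₂ h₁ h₂ => rw [map_add, map_add, map_add, map_add, h₁, h₂]

/-- Lemma Φ -/
theorem kerBC (ι : U →ₗ[A] V) :
    ∃ φ : LinearMap.ker (ι.lTensor Y) →ₛₗ[algebraMap A A']
      LinearMap.ker ((ι.baseChange A').lTensor Y), Bijective φ := by
  let cU := TensorProduct.AlgebraTensorModule.cancelBaseChange A A' A' Y U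
  let cV := TensorProduct.AlgebraTensorModule.cancelBaseChange A A' A' Y V
  refine ⟨{ toFun := fun x => ⟨cU.symm x.1, ?_⟩, map_add' := ?_, map_smul' := ?_ }, ?_, ?_⟩
  · rw [LinearMap.mem_ker]
    apply cV.injective
    rw [cancel_nat, cU.apply_symm_apply, map_zero]
    exact x.2
  · intro x y
    exact Subtype.ext (by simp)
  · intro a x
    apply Subtype.ext
    show cU.symm (a • x.1) = algebraMap A A' a • cU.symm x.1
    rw [← algebraMap_smul A' a x.1, map_smul]
  · intro x y h
    apply Subtype.ext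
    exact cU.symm.injective (congrArg Subtype.val h)
  · intro y
    refine ⟨⟨cU y.1, ?_⟩, Subtype.ext (cU.symm_apply_apply _)⟩
    rw [LinearMap.mem_ker, ← cancel_nat, LinearMap.mem_ker.1 y.2, map_zero]

end Phi

section Transfer

variable (A') {X₂ X₁ X₀ : Type u} [AddCommGroup X₂] [Module A X₂] [AddCommGroup X₁] [Module A X₁]
  [AddCommGroup X₀] [Module A X₀]

theorem bc_exact (f : X₂ →ₗ[A] X₁) (g : X₁ →ₗ[A] X₀)
    (h : Exact (f.lTensor A') (g.lTensor A')) : Exact (f.baseChange A') (g.baseChange A') := by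
  rw [LinearMap.baseChange_eq_ltensor, LinearMap.baseChange_eq_ltensor]; exact h

theorem bc_surj (g : X₁ →ₗ[A] X₀) (h : Surjective g) : Surjective (g.baseChange A') := by
  rw [LinearMap.baseChange_eq_ltensor]; exact LinearMap.lTensor_surjective A' h

theorem bc_inj (g : X₁ →ₗ[A] X₀) (h : Injective (g.lTensor A')) :
    Injective (g.baseChange A') := by
  rw [LinearMap.baseChange_eq_ltensor]; exact h

end Transfer

/-- flat base change, positive degrees (S4494) -/
theorem tor_succ_bc₂ [Module.Flat A A'] (P' : Type u) [AddCommGroup P'] [Module A' P']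
    [Module A P'] [IsScalarTower A A' P'] (Q : Type u) [AddCommGroup Q] [Module A Q] (m : ℕ) :
    ∃ φ : DRing.Tor A (m + 1) P' Q →ₛₗ[algebraMap A A'] DRing.Tor A' (m + 1) P' (A' ⊗[A] Q),
      Bijective φ := by
  let Qr : ProjectiveResolution (ModuleCat.of A Q) := ProjectiveResolution.of _
  have hfl : ∀ n, Module.Flat A ↑(Qr.complex.X n) := flat_X Qr
  obtain ⟨e1⟩ := tor_succ_ker_right (ModuleCat.of A P') (ModuleCat.of A Q) Qr m
  obtain ⟨φ, hφ⟩ := kerBC (A' := A') (Y := P') (LinearMap.range (dd Qr m)).subtype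
  obtain ⟨e2⟩ := tor_succ_equiv₂ (R := A') (M := P') (N := A' ⊗[A] Q)
    (fun n => A' ⊗[A] ↑(Qr.complex.X n))
    (fun n => (dd Qr n).baseChange A') ((aug Qr).baseChange A')
    (bc_surj A' _ (aug_surjective Qr))
    (bc_exact A' _ _ (lTensor_exact A' (exact_aug Qr) (aug_surjective Qr)))
    (fun n => bc_exact A' _ _ (Module.Flat.lTensor_exact A' (exact_dd Qr n))) m
    ((dd Qr m).rangeRestrict.baseChange A') ((LinearMap.range (dd Qr m)).subtype.baseChange A')
    (bc_surj A' _ (LinearMap.surjective_rangeRestrict _))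
    (bc_inj A' _ (Module.Flat.lTensor_preserves_injective_linearMap _
      (Submodule.injective_subtype _)))
    (by rw [← LinearMap.baseChange_comp, TorFlat.subtype_comp_rangeRestrict])
  exact exists_semilin_bij e1.toLinearEquiv φ hφ e2.symm

theorem tor_zero_bc₂ (P' : Type u) [AddCommGroup P'] [Module A' P']
    [Module A P'] [IsScalarTower A A' P'] (Q : Type u) [AddCommGroup Q] [Module A Q] :
    ∃ φ : DRing.Tor A 0 P' Q →ₛₗ[algebraMap A A'] DRing.Tor A' 0 P' (A' ⊗[A] Q),
      Bijective φ := by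
  obtain ⟨e1⟩ := tor_zero_equiv (R := A) (M := P') (N := Q)
  obtain ⟨e2⟩ := tor_zero_equiv (R := A') (M := P') (N := A' ⊗[A] Q)
  let c := TensorProduct.AlgebraTensorModule.cancelBaseChange A A' A' P' Q
  exact exists_semilin_bij e1 (semilinOfTower c.symm.toLinearMap) c.symm.bijective e2.symm

theorem tor_bc₂ [Module.Flat A A'] (P' : Type u) [AddCommGroup P'] [Module A' P']
    [Module A P'] [IsScalarTower A A' P'] (Q : Type u) [AddCommGroup Q] [Module A Q] (n : ℕ) :
    ∃ φ : DRing.Tor A n P' Q →ₛₗ[algebraMap A A'] DRing.Tor A' n P' (A' ⊗[A] Q),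
      Bijective φ := by
  cases n with
  | zero => exact tor_zero_bc₂ P' Q
  | succ m => exact tor_succ_bc₂ P' Q m

/-- base change under Tor-independence, positive degrees (S3537) -/
theorem tor_succ_bc₁ (P : Type u) [AddCommGroup P] [Module A P] (Q' : Type u) [AddCommGroup Q']
    [Module A' Q'] [Module A Q'] [IsScalarTower A A' Q']
    (hP : ∀ q : ℕ, 0 < q → Subsingleton (DRing.Tor A q P A')) (m : ℕ) :
    ∃ φ : DRing.Tor A (m + 1) P Q' →ₛₗ[algebraMap A A'] DRing.Tor A' (m + 1) (A' ⊗[A] P) Q',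
      Bijective φ := by
  let Pr : ProjectiveResolution (ModuleCat.of A P) := ProjectiveResolution.of _
  have hfl : ∀ n, Module.Flat A ↑(Pr.complex.X n) := flat_X Pr
  have hinj : ∀ i, Injective ((LinearMap.range (dd Pr i)).subtype.lTensor A') := by
    intro i
    obtain ⟨e⟩ := tor_succ_equiv₁ (R := A) (M := P) (N := A') (fun n => ↑(Pr.complex.X n))
      (dd Pr) (aug Pr) (aug_surjective Pr) (exact_aug Pr) (exact_dd Pr) i
      (dd Pr i).rangeRestrict (LinearMap.range (dd Pr i)).subtype
      (LinearMap.surjective_rangeRestrict _) (Submodule.injective_subtype _)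
      (TorFlat.subtype_comp_rangeRestrict _).symm
    have hs := hP (i + 1) (Nat.succ_pos i)
    have hs' : Subsingleton (LinearMap.ker ((LinearMap.range (dd Pr i)).subtype.rTensor A')) :=
      e.symm.injective.subsingleton
    rw [LinearMap.lTensor_inj_iff_rTensor_inj, ← LinearMap.ker_eq_bot]
    exact Submodule.eq_bot_of_subsingleton
  obtain ⟨e1⟩ := tor_succ_equiv₁ (R := A) (M := P) (N := Q') (fun n => ↑(Pr.complex.X n))
      (dd Pr) (aug Pr) (aug_surjective Pr) (exact_aug Pr) (exact_dd Pr) m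
      (dd Pr m).rangeRestrict (LinearMap.range (dd Pr m)).subtype
      (LinearMap.surjective_rangeRestrict _) (Submodule.injective_subtype _)
      (TorFlat.subtype_comp_rangeRestrict _).symm
  obtain ⟨φ, hφ⟩ := kerBC (A' := A') (Y := Q') (LinearMap.range (dd Pr m)).subtype
  obtain ⟨e2⟩ := tor_succ_equiv₁ (R := A') (M := A' ⊗[A] P) (N := Q')
    (fun n => A' ⊗[A] ↑(Pr.complex.X n))
    (fun n => (dd Pr n).baseChange A') ((aug Pr).baseChange A')
    (bc_surj A' _ (aug_surjective Pr))
    (bc_exact A' _ _ (lTensor_exact A' (exact_aug Pr) (aug_surjective Pr)))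
    (fun n => bc_exact A' _ _
      ((TorFlat.exact_iff_injective (dd Pr (n + 1)) (dd Pr n) (exact_dd Pr n) A').2 (hinj n))) m
    ((dd Pr m).rangeRestrict.baseChange A') ((LinearMap.range (dd Pr m)).subtype.baseChange A')
    (bc_surj A' _ (LinearMap.surjective_rangeRestrict _))
    (bc_inj A' _ (hinj m))
    (by rw [← LinearMap.baseChange_comp, TorFlat.subtype_comp_rangeRestrict])
  exact exists_semilin_bij (e1.trans (kerComm Q' _)) φ hφ ((kerComm Q' _).symm.trans e2.symm)

theorem tor_zero_bc₁ (P : Type u) [AddCommGroup P] [Module A P] (Q' : Type u) [AddCommGroup Q']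
    [Module A' Q'] [Module A Q'] [IsScalarTower A A' Q'] :
    ∃ φ : DRing.Tor A 0 P Q' →ₛₗ[algebraMap A A'] DRing.Tor A' 0 (A' ⊗[A] P) Q',
      Bijective φ := by
  obtain ⟨e1⟩ := tor_zero_equiv (R := A) (M := P) (N := Q')
  obtain ⟨e2⟩ := tor_zero_equiv (R := A') (M := A' ⊗[A] P) (N := Q')
  let c := TensorProduct.AlgebraTensorModule.cancelBaseChange A A' A' Q' P
  exact exists_semilin_bij (e1.trans (TensorProduct.comm A P Q'))
    (semilinOfTower c.symm.toLinearMap) c.symm.bijective
    ((TensorProduct.comm A' _ _).trans e2.symm)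

theorem tor_bc₁ (P : Type u) [AddCommGroup P] [Module A P] (Q' : Type u) [AddCommGroup Q']
    [Module A' Q'] [Module A Q'] [IsScalarTower A A' Q']
    (hP : ∀ q : ℕ, 0 < q → Subsingleton (DRing.Tor A q P A')) (n : ℕ) :
    ∃ φ : DRing.Tor A n P Q' →ₛₗ[algebraMap A A'] DRing.Tor A' n (A' ⊗[A] P) Q',
      Bijective φ := by
  cases n with
  | zero => exact tor_zero_bc₁ P Q'
  | succ m => exact tor_succ_bc₁ P Q' hP m

end BC

end Groth.Agent.H13.TorBC
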