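import Mathlib
import Groth.Agent.H13.TorFlat

/-!
# `Tor₁(N, M) = 0` for `N` killed by a power of `I` (helper for S12205)
-/

set_option autoImplicit false
universe u

namespace Groth.Agent.H13.TorNil

open TensorProduct CategoryTheory Groth.Agent.H13.TorFlat

variable {R : Type u} [CommRing R]

/-- Step 1: modules over an `R`-algebra `Ā`. -/
theorem lTensor_injective_of_algebra (Ā : Type u) [CommRing Ā] [Algebra R Ā]
    {K F M : Type u} [AddCommGroup K] [Module R K] [AddCommGroup F] [Module R F]
    [AddCommGroup M] [Module R M]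
    (ι : K →ₗ[R] F) (ε : F →ₗ[R] M) (hex : Function.Exact ι ε) (hε : Function.Surjective ε)
    (hĀ : Function.Injective (ι.lTensor Ā)) [Module.Flat Ā (Ā ⊗[R] M)]
    (N : Type u) [AddCommGroup N] [Module R N] [Module Ā N] [IsScalarTower R Ā N] :
    Function.Injective (ι.lTensor N) := by
  have h1 : Function.Injective ((ι.baseChange Ā).lTensor N) := by
    refine lTensor_injective_of_flat_coker (A := Ā) (ι.baseChange Ā) (ε.baseChange Ā) hĀ ?_ ?_ N
    · exact lTensor_exact Ā hex hε
    · exact LinearMap.lTensor_surjective Ā hε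
  have hnat : ∀ t : N ⊗[Ā] (Ā ⊗[R] K),
      (TensorProduct.AlgebraTensorModule.cancelBaseChange R Ā Ā N F)
        (((ι.baseChange Ā).lTensor N) t) =
      (ι.lTensor N) ((TensorProduct.AlgebraTensorModule.cancelBaseChange R Ā Ā N K) t) := by
    intro t
    induction t using TensorProduct.induction_on with
    | zero => simp
    | tmul n y =>
      induction y using TensorProduct.induction_on with
      | zero => simp
      | tmul a x => simp
      | add y₁ y₂ h₁ h₂ =>
        rw [TensorProduct.tmul_add, map_add, map_add, map_add, map_add, h₁, h₂]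
    | add t₁ t₂ h₁ h₂ => rw [map_add, map_add, map_add, map_add, h₁, h₂]
  intro z₁ z₂ hz
  obtain ⟨t₁, rfl⟩ :=
    (TensorProduct.AlgebraTensorModule.cancelBaseChange R Ā Ā N K).surjective z₁
  obtain ⟨t₂, rfl⟩ :=
    (TensorProduct.AlgebraTensorModule.cancelBaseChange R Ā Ā N K).surjective z₂
  rw [← hnat, ← hnat] at hz
  have := h1 ((TensorProduct.AlgebraTensorModule.cancelBaseChange R Ā Ā N F).injective hz)
  rw [this]

theorem lemmaS (I : Ideal R) {K F M : Type u} [AddCommGroup K] [Module R K] [AddCommGroup F]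
    [Module R F] [AddCommGroup M] [Module R M]
    (ι : K →ₗ[R] F) (ε : F →ₗ[R] M) (hex : Function.Exact ι ε)
    (hε : Function.Surjective ε) [Module.Flat R F]
    (hI : Function.Injective (ι.lTensor (R ⧸ I))) [Module.Flat (R ⧸ I) ((R ⧸ I) ⊗[R] M)] :
    ∀ (m : ℕ) (N : Type u) [AddCommGroup N] [Module R N],
      (∀ a : R, a ∈ I ^ m → ∀ x : N, a • x = 0) → Function.Injective (ι.lTensor N) := by
  intro m
  induction m with
  | zero =>
    intro N _ _ hN
    have hsub : ∀ x : N, x = 0 := fun x => by
      have hx := hN 1 (by rw [pow_zero, Ideal.one_eq_top]; exact Submodule.mem_top) x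
      rwa [one_smul] at hx
    have hz0 : ∀ z : N ⊗[R] K, z = 0 := by
      intro z
      induction z using TensorProduct.induction_on with
      | zero => rfl
      | tmul n k => rw [hsub n, TensorProduct.zero_tmul]
      | add a b ha hb => rw [ha, hb, add_zero]
    intro z₁ z₂ _
    rw [hz0 z₁, hz0 z₂]
  | succ m ih =>
    intro N _ _ hN
    let N' : Submodule R N := I • ⊤
    have hN' : ∀ a : R, a ∈ I ^ m → ∀ x : N', a • x = 0 := by
      intro a ha x
      apply Subtype.ext
      show a • (x : N) = 0
      have hx : (x : N) ∈ I • (⊤ : Submodule R N) := x.2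
      refine Submodule.smul_induction_on hx ?_ ?_
      · intro r hr n _
        rw [smul_smul]
        exact hN (a * r) (by rw [pow_succ]; exact Ideal.mul_mem_mul ha hr) n
      · intro x y hx hy
        rw [smul_add, hx, hy, add_zero]
    have hN'' : ∀ a : R, a ∈ I → ∀ x : N ⧸ N', a • x = 0 := by
      intro a ha x
      obtain ⟨x, rfl⟩ := Submodule.mkQ_surjective N' x
      rw [← map_smul, Submodule.mkQ_apply, Submodule.Quotient.mk_eq_zero]
      exact Submodule.smul_mem_smul ha Submodule.mem_top
    have ha := ih N' hN'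
    have hc : Function.Injective (ι.lTensor (N ⧸ N')) := by
      have htors : Module.IsTorsionBySet R (N ⧸ N') (I : Set R) := fun x a => hN'' a.1 a.2 x
      let _ : Module (R ⧸ I) (N ⧸ N') := htors.module
      have : IsScalarTower R (R ⧸ I) (N ⧸ N') := htors.isScalarTower
      exact lTensor_injective_of_algebra (R ⧸ I) ι ε hex hε hI (N ⧸ N')
    have hjq : Function.Exact N'.subtype N'.mkQ := by
      rw [LinearMap.exact_iff, Submodule.ker_mkQ, Submodule.range_subtype]
    have hq : Function.Surjective N'.mkQ := Submodule.mkQ_surjective N'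
    have hjF : Function.Injective (N'.subtype.rTensor F) :=
      Module.Flat.rTensor_preserves_injective_linearMap N'.subtype (Submodule.injective_subtype _)
    rw [injective_iff_map_eq_zero]
    intro z hz
    have h1 : (ι.lTensor (N ⧸ N')) ((N'.mkQ.rTensor K) z) = 0 := by
      rw [Groth.Agent.H10.sq_rTensor_lTensor, hz, map_zero]
    have h2 : (N'.mkQ.rTensor K) z = 0 := hc (h1.trans (map_zero _).symm)
    obtain ⟨z', rfl⟩ := (rTensor_exact K hjq hq z).1 h2
    have h3 : (N'.subtype.rTensor F) ((ι.lTensor N') z') = 0 := by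
      rw [← Groth.Agent.H10.sq_rTensor_lTensor]
      exact hz
    have h4 : (ι.lTensor N') z' = 0 := hjF (h3.trans (map_zero _).symm)
    rw [ha (h4.trans (map_zero _).symm), map_zero]

theorem main (R : Type u) [CommRing R] (I : Ideal R) (M : Type u)
    [AddCommGroup M] [Module R M] [Module.Flat (R ⧸ I) ((R ⧸ I) ⊗[R] M)]
    (h : Limits.IsZero (((CategoryTheory.Tor (ModuleCat.{u} R) 1).obj
      (ModuleCat.of R (R ⧸ I))).obj (ModuleCat.of R M)))
    (N : Type u) [AddCommGroup N] [Module R N] (m : ℕ)
    (hN : ∀ a : R, a ∈ I ^ m → ∀ x : N, a • x = 0) :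
    Limits.IsZero (((CategoryTheory.Tor (ModuleCat.{u} R) 1).obj (ModuleCat.of R N)).obj
      (ModuleCat.of R M)) := by
  let P : ProjectiveResolution (ModuleCat.of R M) := ProjectiveResolution.of _
  refine (isZero_tor_succ_iff P N 0).2 ?_
  have h' := (isZero_tor_succ_iff P (R ⧸ I) 0).1 h
  rw [exact_iff_injective _ _ (exact_dd P 0)] at h' ⊢
  have := flat_X P 0
  exact lemmaS I (LinearMap.range (dd P 0)).subtype (aug P)
    (exact_subtype_zero (fun n => ↑(P.complex.X n)) (dd P) (aug P) (exact_aug P))
    (aug_surjective P) h' m N hN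

end Groth.Agent.H13.TorNil
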