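import Mathlib
import Groth.Agent.H13.TorBC
import Groth.Prelude.Def_EtGlue

/-!
# `Tor₁` through an arbitrary flat presentation, and glueing pairs (S7062, S7063)
-/

set_option autoImplicit false
universe u

namespace Groth.Agent.H13.TorOne

open TensorProduct CategoryTheory Function
open Groth.Agent.H13.TorBal Groth.Agent.H13.TorBC

section

variable {R : Type u} [CommRing R]

/-- `Tor₁(M, N) ≃ ker (M ⊗ K → M ⊗ F)` for any presentation `0 → K → F → N → 0` with `F` flat. -/
theorem tor_one_equiv₂ (M N : Type u) [AddCommGroup M] [Module R M] [AddCommGroup N] [Module R N]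
    {K F : Type u} [AddCommGroup K] [Module R K] [AddCommGroup F] [Module R F] [Module.Flat R F]
    (ι : K →ₗ[R] F) (π : F →ₗ[R] N) (hι : Injective ι) (hπ : Surjective π) (hex : Exact ι π) :
    Nonempty (DRing.Tor R 1 M N ≃ₗ[R] LinearMap.ker (ι.lTensor M)) := by
  let Pr : ProjectiveResolution (ModuleCat.of R M) := ProjectiveResolution.of _
  have hfl : ∀ n, Module.Flat R ↑(Pr.complex.X n) := flat_X Pr
  obtain ⟨e1⟩ := tor_succ_equiv₁ (R := R) (M := M) (N := N) (fun n => ↑(Pr.complex.X n))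
      (dd Pr) (aug Pr) (aug_surjective Pr) (exact_aug Pr) (exact_dd Pr) 0
      (dd Pr 0).rangeRestrict (LinearMap.range (dd Pr 0)).subtype
      (LinearMap.surjective_rangeRestrict _) (Submodule.injective_subtype _)
      (TorFlat.subtype_comp_rangeRestrict _).symm
  obtain ⟨b⟩ := balance (LinearMap.range (dd Pr 0)).subtype (aug Pr)
    (Submodule.injective_subtype _) (aug_surjective Pr)
    (TorFlat.exact_subtype_zero (fun n => ↑(Pr.complex.X n)) (dd Pr) (aug Pr) (exact_aug Pr)) ι π hι hπ hex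
  exact ⟨e1.trans b⟩

/-- `Tor₁(M, N) ≃ ker (K ⊗ N → F ⊗ N)` for any presentation `0 → K → F → M → 0` with `F` flat. -/
theorem tor_one_equiv₁ (M N : Type u) [AddCommGroup M] [Module R M] [AddCommGroup N] [Module R N]
    {K F : Type u} [AddCommGroup K] [Module R K] [AddCommGroup F] [Module R F] [Module.Flat R F]
    (ι : K →ₗ[R] F) (π : F →ₗ[R] M) (hι : Injective ι) (hπ : Surjective π) (hex : Exact ι π) :
    Nonempty (DRing.Tor R 1 M N ≃ₗ[R] LinearMap.ker (ι.rTensor N)) := by
  let Q : ProjectiveResolution (ModuleCat.of R N) := ProjectiveResolution.of _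
  have hfl : ∀ n, Module.Flat R ↑(Q.complex.X n) := flat_X Q
  obtain ⟨e1⟩ := tor_succ_ker_right (ModuleCat.of R M) (ModuleCat.of R N) Q 0
  obtain ⟨b⟩ := balance ι π hι hπ hex (LinearMap.range (dd Q 0)).subtype (aug Q)
    (Submodule.injective_subtype _) (aug_surjective Q)
    (TorFlat.exact_subtype_zero (fun n => ↑(Q.complex.X n)) (dd Q) (aug Q) (exact_aug Q))
  exact ⟨e1.toLinearEquiv.trans b.symm⟩

theorem subsingleton_tor_one_of_injective (M N : Type u) [AddCommGroup M] [Module R M]
    [AddCommGroup N] [Module R N]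
    {K F : Type u} [AddCommGroup K] [Module R K] [AddCommGroup F] [Module R F] [Module.Flat R F]
    (ι : K →ₗ[R] F) (π : F →ₗ[R] N) (hι : Injective ι) (hπ : Surjective π) (hex : Exact ι π)
    (hinj : Injective (ι.lTensor M)) : Subsingleton (DRing.Tor R 1 M N) := by
  obtain ⟨e⟩ := tor_one_equiv₂ M N ι π hι hπ hex
  refine ⟨fun x y => e.injective (Subtype.ext (hinj ?_))⟩
  rw [LinearMap.mem_ker.1 (e x).2, LinearMap.mem_ker.1 (e y).2]

end

section Glue

variable {R R' : Type u} [CommRing R] [CommRing R'] [Algebra R R'] (f : R)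

theorem exists_decomp (h : EtGlue.QuotPowBijective R R' f) (n : ℕ) (hn : 0 < n) (r' : R') :
    ∃ (a : R) (b' : R'), r' = algebraMap R R' a + b' * algebraMap R R' (f ^ n) := by
  obtain ⟨q, hq⟩ := (h n hn).2 (Ideal.Quotient.mk _ r')
  obtain ⟨a, rfl⟩ := Ideal.Quotient.mk_surjective q
  rw [Ideal.quotientMap_mk, Ideal.Quotient.eq, Ideal.map_span, Set.image_singleton,
    Ideal.mem_span_singleton'] at hq
  obtain ⟨b', hb'⟩ := hq
  refine ⟨a, -b', ?_⟩
  rw [neg_mul, hb']
  ring

/-- Lemma G: for a glueing pair, `R' ⊗ K → R' ⊗ R = R'` is injective for every ideal `K` of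
`f`-power torsion elements. -/
theorem lTensor_subtype_injective (h : EtGlue.IsGlueingPair R R' f) (K : Submodule R R)
    (hK : ∀ k ∈ K, ∃ n : ℕ, f ^ n * k = 0) : Injective (K.subtype.lTensor R') := by
  have h1 : ∀ z : R' ⊗[R] K, ∃ t : K, z = (1 : R') ⊗ₜ[R] t := by
    intro z
    induction z using TensorProduct.induction_on with
    | zero => exact ⟨0, (TensorProduct.tmul_zero _ _).symm⟩
    | tmul r' k =>
      obtain ⟨n, hn⟩ := hK k.1 k.2
      obtain ⟨a, b', hab⟩ := exists_decomp f h.1 (n + 1) (Nat.succ_pos n) r'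
      refine ⟨a • k, ?_⟩
      have hk : f ^ (n + 1) • k = 0 := by
        apply Subtype.ext
        show f ^ (n + 1) * k.1 = 0
        rw [pow_succ', mul_assoc, mul_comm f, hn, zero_mul]
      have hb : b' * algebraMap R R' (f ^ (n + 1)) = f ^ (n + 1) • b' := by
        rw [Algebra.smul_def, mul_comm]
      rw [hab, TensorProduct.add_tmul, hb, TensorProduct.smul_tmul, hk, TensorProduct.tmul_zero,
        add_zero, Algebra.algebraMap_eq_smul_one, TensorProduct.smul_tmul]
    | add z₁ z₂ h₁ h₂ =>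
      obtain ⟨t₁, rfl⟩ := h₁
      obtain ⟨t₂, rfl⟩ := h₂
      exact ⟨t₁ + t₂, (TensorProduct.tmul_add _ _ _).symm⟩
  rw [injective_iff_map_eq_zero]
  intro z hz
  obtain ⟨t, rfl⟩ := h1 z
  rw [LinearMap.lTensor_tmul] at hz
  have hz' := congrArg (TensorProduct.rid R R') hz
  rw [TensorProduct.rid_tmul, map_zero, Submodule.subtype_apply,
    ← Algebra.algebraMap_eq_smul_one] at hz'
  obtain ⟨n, hn⟩ := hK t.1 t.2
  have hloc : algebraMap R (Localization.Away f) t.1 = 0 := by
    rw [IsLocalization.map_eq_zero_iff (Submonoid.powers f)]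
    exact ⟨⟨f ^ n, n, rfl⟩, hn⟩
  have ht : t.1 = 0 := by
    apply h.2.1
    show (algebraMap R R' t.1, algebraMap R (Localization.Away f) t.1) =
      (algebraMap R R' 0, algebraMap R (Localization.Away f) 0)
    rw [hz', hloc, map_zero, map_zero]
  have ht' : t = 0 := Subtype.ext ht
  rw [ht', TensorProduct.tmul_zero]

end Glue

end Groth.Agent.H13.TorOne
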