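import Groth.Prelude.Def_W4stkcategoriessitesFib
import Mathlib

/-!
Helper (helper13): the 2-Yoneda lemma for fibred categories (evaluation at a terminal object of a
based category all of whose morphisms are strongly cartesian, e.g. `C/U`).
-/

open CategoryTheory Functor

namespace Groth.Agent.H13.TwoYoneda

universe v₁ u₁ v₂ u₂ v u
variable {C : Type u} [Category.{v} C]

theorem over_isStronglyCartesian (U : C) {a b : Over U} (φ : a ⟶ b) :
    (Over.forget U).IsStronglyCartesian ((Over.forget U).map φ) φ := by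
  refine { universal_property' := ?_ }
  intro a' g₀ φ' hφ'
  have h1 : φ'.left = g₀ ≫ φ.left :=
    (IsHomLift.eq_of_isHomLift (Over.forget U) (g₀ ≫ (Over.forget U).map φ) φ').symm
  obtain ⟨g, rfl⟩ : ∃ g : a'.left ⟶ a.left, g = g₀ := ⟨g₀, rfl⟩
  have hw : g ≫ a.hom = a'.hom := by
    have h2 := Over.w φ'
    have h3 := Over.w φ
    have h4 : (g ≫ φ.left) ≫ b.hom = φ'.left ≫ b.hom :=
      congrArg (fun k => k ≫ b.hom) h1.symm
    rw [← h3, ← Category.assoc, h4]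
    exact h2
  refine ⟨Over.homMk g hw, ⟨?_, ?_⟩, ?_⟩
  · have : (Over.forget U).IsHomLift ((Over.forget U).map (Over.homMk g hw : a' ⟶ a))
        (Over.homMk g hw : a' ⟶ a) := inferInstance
    exact this
  · ext
    show g ≫ φ.left = φ'.left
    exact h1.symm
  · rintro ψ ⟨hψ1, hψ2⟩
    ext
    show ψ.left = g
    exact (IsHomLift.eq_of_isHomLift (Over.forget U) g ψ).symm

theorem lift_of_eq {𝒮 : Type*} [Category 𝒮] {𝒴 : Type*} [Category 𝒴] (p : 𝒴 ⥤ 𝒮) {R S : 𝒮}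
    {f f' : R ⟶ S} (h : f = f')
    {a b : 𝒴} (φ : a ⟶ b) [p.IsHomLift f φ] : p.IsHomLift f' φ := by
  subst h; infer_instance

theorem cart_of_eq {𝒮 : Type*} [Category 𝒮] {𝒴 : Type*} [Category 𝒴] (p : 𝒴 ⥤ 𝒮) {R S : 𝒮}
    {f f' : R ⟶ S} (h : f = f')
    {a b : 𝒴} (φ : a ⟶ b) [p.IsStronglyCartesian f φ] : p.IsStronglyCartesian f' φ := by
  subst h; infer_instance

variable {𝒜 : BasedCategory.{v₁, u₁} C} {𝒳 : BasedCategory.{v₂, u₂} C}
  {t : 𝒜.obj} (ht : Limits.IsTerminal t)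
  (hcart : ∀ {a b : 𝒜.obj} (g : a ⟶ b), 𝒜.p.IsStronglyCartesian (𝒜.p.map g) g)

include hcart in
theorem cart_of_preserves {H : 𝒜 ⥤ᵇ 𝒳} (hH : FibCat.PreservesStronglyCartesian H)
    (f : 𝒜.obj) : 𝒳.p.IsStronglyCartesian (𝒜.p.map (ht.from f)) (H.map (ht.from f)) :=
  hH (𝒜.p.map (ht.from f)) (ht.from f) (hcart _)

include ht hcart in
/-- uniqueness: 2-morphisms into a cartesian functor are determined at the terminal object -/
theorem nat_ext {G H : 𝒜 ⥤ᵇ 𝒳} (hH : FibCat.PreservesStronglyCartesian H)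
    (α β : G ⟶ H) (h : α.toNatTrans.app t = β.toNatTrans.app t) : α = β := by
  apply BasedNatTrans.homCategory.ext
  ext f
  have := cart_of_preserves ht hcart hH f
  have hα := α.toNatTrans.naturality (ht.from f)
  have hβ := β.toNatTrans.naturality (ht.from f)
  exact IsStronglyCartesian.ext 𝒳.p (𝒜.p.map (ht.from f)) (H.map (ht.from f)) (𝟙 (𝒜.p.obj f))
    (by rw [← hα, ← hβ, h])

section Full

variable {G H : 𝒜 ⥤ᵇ 𝒳} (hH : FibCat.PreservesStronglyCartesian H)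
  (φ : G.obj t ⟶ H.obj t) [hφ : 𝒳.p.IsHomLift (𝟙 (𝒜.p.obj t)) φ]

instance lift_comp (f : 𝒜.obj) :
    𝒳.p.IsHomLift (𝒜.p.map (ht.from f)) (G.map (ht.from f) ≫ φ) := by
  have : 𝒳.p.IsHomLift (𝒜.p.map (ht.from f)) (G.map (ht.from f)) := inferInstance
  infer_instance

/-- the component at `f` of the 2-morphism extending `φ` -/
noncomputable def compApp (f : 𝒜.obj) : G.obj f ⟶ H.obj f :=
  have := cart_of_preserves ht hcart hH f
  IsStronglyCartesian.map 𝒳.p (𝒜.p.map (ht.from f)) (H.map (ht.from f)) (g := 𝟙 (𝒜.p.obj f))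
    (f' := 𝒜.p.map (ht.from f)) (Category.id_comp _).symm (G.map (ht.from f) ≫ φ)

instance compApp_lift (f : 𝒜.obj) :
    𝒳.p.IsHomLift (𝟙 (𝒜.p.obj f)) (compApp ht hcart hH φ f) := by
  have := cart_of_preserves ht hcart hH f
  unfold compApp
  infer_instance

theorem compApp_fac (f : 𝒜.obj) :
    compApp ht hcart hH φ f ≫ H.map (ht.from f) = G.map (ht.from f) ≫ φ := by
  have := cart_of_preserves ht hcart hH f
  unfold compApp
  exact IsStronglyCartesian.fac _ _ _ _ _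

theorem compApp_naturality {f' f : 𝒜.obj} (g : f' ⟶ f) :
    G.map g ≫ compApp ht hcart hH φ f = compApp ht hcart hH φ f' ≫ H.map g := by
  have := cart_of_preserves ht hcart hH f
  have h1 : 𝒳.p.IsHomLift (𝒜.p.map g) (G.map g) := inferInstance
  have h2 : 𝒳.p.IsHomLift (𝒜.p.map g) (H.map g) := inferInstance
  have h3 : 𝒳.p.IsHomLift (𝒜.p.map g) (G.map g ≫ compApp ht hcart hH φ f) := inferInstance
  have h4 : 𝒳.p.IsHomLift (𝒜.p.map g) (compApp ht hcart hH φ f' ≫ H.map g) := inferInstance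
  apply IsStronglyCartesian.ext 𝒳.p (𝒜.p.map (ht.from f)) (H.map (ht.from f)) (𝒜.p.map g)
  have e : g ≫ ht.from f = ht.from f' := ht.hom_ext _ _
  rw [Category.assoc, compApp_fac, Category.assoc, ← H.map_comp, e, compApp_fac,
    ← Category.assoc, ← G.map_comp, e]

/-- the 2-morphism extending `φ` -/
noncomputable def liftNat : G ⟶ H where
  app f := compApp ht hcart hH φ f
  naturality _ _ g := compApp_naturality ht hcart hH φ g
  isHomLift' f := compApp_lift ht hcart hH φ f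

theorem liftNat_app : (liftNat ht hcart hH φ).toNatTrans.app t = φ := by
  have := cart_of_preserves ht hcart hH t
  show compApp ht hcart hH φ t = φ
  unfold compApp
  symm
  apply IsStronglyCartesian.map_uniq
  have e : ht.from t = 𝟙 t := ht.hom_ext _ _
  rw [e, CategoryTheory.Functor.map_id, CategoryTheory.Functor.map_id, Category.comp_id, Category.id_comp]

end Full

section EssSurj

variable [𝒳.p.IsFibered] (x : 𝒳.obj) (hx : 𝒳.p.obj x = 𝒜.p.obj t)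

/-- chosen pullback of `x` along the image of `f ⟶ t` -/
noncomputable def pbObj (f : 𝒜.obj) : 𝒳.obj := IsPreFibered.pullbackObj hx (𝒜.p.map (ht.from f))

/-- the cartesian projection -/
noncomputable def pbπ (f : 𝒜.obj) : pbObj ht x hx f ⟶ x :=
  IsPreFibered.pullbackMap hx (𝒜.p.map (ht.from f))

instance pbπ_cart (f : 𝒜.obj) :
    𝒳.p.IsStronglyCartesian (𝒜.p.map (ht.from f)) (pbπ ht x hx f) := by
  have : 𝒳.p.IsCartesian (𝒜.p.map (ht.from f)) (pbπ ht x hx f) :=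
    IsPreFibered.pullbackMap.IsCartesian hx (𝒜.p.map (ht.from f))
  infer_instance

theorem pbObj_proj (f : 𝒜.obj) : 𝒳.p.obj (pbObj ht x hx f) = 𝒜.p.obj f :=
  IsHomLift.domain_eq 𝒳.p (𝒜.p.map (ht.from f)) (pbπ ht x hx f)

theorem map_comp_from {f' f : 𝒜.obj} (g : f' ⟶ f) :
    𝒜.p.map (ht.from f') = 𝒜.p.map g ≫ 𝒜.p.map (ht.from f) := by
  rw [← CategoryTheory.Functor.map_comp, ht.hom_ext (g ≫ ht.from f) (ht.from f')]

instance pbπ_lift' {f' f : 𝒜.obj} (g : f' ⟶ f) :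
    𝒳.p.IsHomLift (𝒜.p.map g ≫ 𝒜.p.map (ht.from f)) (pbπ ht x hx f') :=
  lift_of_eq 𝒳.p (map_comp_from ht g) (pbπ ht x hx f')

/-- the action on morphisms -/
noncomputable def pbMap {f' f : 𝒜.obj} (g : f' ⟶ f) : pbObj ht x hx f' ⟶ pbObj ht x hx f :=
  IsStronglyCartesian.map 𝒳.p (𝒜.p.map (ht.from f)) (pbπ ht x hx f) (g := 𝒜.p.map g)
    (f' := 𝒜.p.map g ≫ 𝒜.p.map (ht.from f)) rfl (pbπ ht x hx f')

instance pbMap_lift {f' f : 𝒜.obj} (g : f' ⟶ f) :
    𝒳.p.IsHomLift (𝒜.p.map g) (pbMap ht x hx g) := by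
  unfold pbMap
  infer_instance

theorem pbMap_fac {f' f : 𝒜.obj} (g : f' ⟶ f) :
    pbMap ht x hx g ≫ pbπ ht x hx f = pbπ ht x hx f' := by
  unfold pbMap
  exact IsStronglyCartesian.fac _ _ _ _ _

theorem pbMap_uniq {f' f : 𝒜.obj} (g : f' ⟶ f) (ψ : pbObj ht x hx f' ⟶ pbObj ht x hx f)
    [𝒳.p.IsHomLift (𝒜.p.map g) ψ] (h : ψ ≫ pbπ ht x hx f = pbπ ht x hx f') :
    ψ = pbMap ht x hx g := by
  unfold pbMap
  exact IsStronglyCartesian.map_uniq 𝒳.p (𝒜.p.map (ht.from f)) (pbπ ht x hx f) rfl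
    (pbπ ht x hx f') ψ h

/-- the functor `𝒜 ⥤ 𝒳` of chosen pullbacks of `x` -/
noncomputable def pbFunctor : 𝒜 ⥤ᵇ 𝒳 where
  obj f := pbObj ht x hx f
  map g := pbMap ht x hx g
  map_id f := by
    symm
    have : 𝒳.p.IsHomLift (𝒜.p.map (𝟙 f)) (𝟙 (pbObj ht x hx f)) := by
      rw [CategoryTheory.Functor.map_id]
      exact IsHomLift.id (pbObj_proj ht x hx f)
    apply pbMap_uniq
    simp
  map_comp {f'' f' f} g g' := by
    symm
    have : 𝒳.p.IsHomLift (𝒜.p.map (g ≫ g')) (pbMap ht x hx g ≫ pbMap ht x hx g') := by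
      rw [CategoryTheory.Functor.map_comp]
      infer_instance
    apply pbMap_uniq
    rw [Category.assoc, pbMap_fac, pbMap_fac]
  w := by
    refine CategoryTheory.Functor.ext (fun f => pbObj_proj ht x hx f) (fun f' f g => ?_)
    exact IsHomLift.fac' 𝒳.p (𝒜.p.map g) (pbMap ht x hx g)

theorem pbFunctor_preserves : FibCat.PreservesStronglyCartesian (pbFunctor ht x hx) := by
  intro R S f₀ a b φ hφ
  have hR : 𝒜.p.obj a = R := IsHomLift.domain_eq 𝒜.p f₀ φ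
  have hS : 𝒜.p.obj b = S := IsHomLift.codomain_eq 𝒜.p f₀ φ
  subst hR hS
  have hf : f₀ = 𝒜.p.map φ := IsHomLift.eq_of_isHomLift 𝒜.p f₀ φ
  subst hf
  show 𝒳.p.IsStronglyCartesian (𝒜.p.map φ) (pbMap ht x hx φ)
  have h1 : 𝒳.p.IsStronglyCartesian (𝒜.p.map φ ≫ 𝒜.p.map (ht.from b))
      (pbMap ht x hx φ ≫ pbπ ht x hx b) := by
    rw [pbMap_fac]
    exact cart_of_eq 𝒳.p (map_comp_from ht φ) (pbπ ht x hx a)
  exact IsStronglyCartesian.of_comp (p := 𝒳.p) (f := 𝒜.p.map φ) (g := 𝒜.p.map (ht.from b))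
    (φ := pbMap ht x hx φ) (ψ := pbπ ht x hx b)

theorem map_from_self : 𝒜.p.map (ht.from t) = 𝟙 (𝒜.p.obj t) := by
  rw [ht.hom_ext (ht.from t) (𝟙 t), CategoryTheory.Functor.map_id]

instance pbπ_id_lift : 𝒳.p.IsHomLift (𝟙 (𝒜.p.obj t)) (pbπ ht x hx t) :=
  lift_of_eq 𝒳.p (map_from_self ht) (pbπ ht x hx t)

instance pbπ_id_isIso : IsIso (pbπ ht x hx t) := by
  have : 𝒳.p.IsStronglyCartesian (𝟙 (𝒜.p.obj t)) (pbπ ht x hx t) :=
    cart_of_eq 𝒳.p (map_from_self ht) (pbπ ht x hx t)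
  exact IsStronglyCartesian.isIso_of_base_isIso 𝒳.p (𝟙 (𝒜.p.obj t)) _

/-- the isomorphism in the fibre between `pbFunctor t` and `x` -/
noncomputable def pbIso :
    (Functor.Fiber.mk ((pbFunctor ht x hx).w_obj t) : 𝒳.p.Fiber (𝒜.p.obj t)) ≅
      (Functor.Fiber.mk hx : 𝒳.p.Fiber (𝒜.p.obj t)) where
  hom := ⟨pbπ ht x hx t, pbπ_id_lift ht x hx⟩
  inv := ⟨@CategoryTheory.inv _ _ _ _ (pbπ ht x hx t) (pbπ_id_isIso ht x hx),
    @IsHomLift.lift_id_inv_isIso _ _ _ _ 𝒳.p (𝒜.p.obj t) _ _ (pbπ ht x hx t)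
      (pbπ_id_isIso ht x hx) (pbπ_id_lift ht x hx)⟩
  hom_inv_id := by
    apply Functor.Fiber.hom_ext
    exact @IsIso.hom_inv_id _ _ _ _ (pbπ ht x hx t) (pbπ_id_isIso ht x hx)
  inv_hom_id := by
    apply Functor.Fiber.hom_ext
    exact @IsIso.inv_hom_id _ _ _ _ (pbπ ht x hx t) (pbπ_id_isIso ht x hx)

end EssSurj

end Groth.Agent.H13.TwoYoneda
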